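import Cfsg.Agent.Lib.Small.ConstrainedSeven.Homocyclic

/-!
# An abelian core of order 128 with a moving involution coset cannot occur
-/

set_option autoImplicit false
set_option linter.unusedSectionVars false
set_option linter.style.haveILetI false

namespace CfsgLib.Small.ConstrainedSeven

open Subgroup
open scoped commutatorElement

theorem map_comb {Y Z : Type*} [Group Y] [Group Z] (π : Y →* Z) (b : Fin 3 → Y)
    (v : Fin 3 → ZMod 2) : π (comb b v) = comb (fun i => π (b i)) v := by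
  simp [comb]

/-- The coordinates over an axis. -/
abbrev IsH (v : Fin 3 → ZMod 4) : Prop := (v 0).val % 2 = 0

/-- Twice the coordinates over an axis. -/
abbrev IsH2 (v : Fin 3 → ZMod 4) : Prop := v 0 = 0 ∧ (v 1).val % 2 = 0 ∧ (v 2).val % 2 = 0

theorem isH_facts : IsH 0 ∧ (∀ v w, IsH v → IsH w → IsH (v + w)) ∧ (∀ v, IsH v → IsH (-v)) ∧
    IsH2 0 ∧ (∀ v w, IsH2 v → IsH2 w → IsH2 (v + w)) ∧ (∀ v, IsH2 v → IsH2 (-v)) ∧
    (∀ v, IsH2 v → IsH v) ∧ (∀ v, IsH v → IsH2 (v + v)) ∧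
    (∀ v, IsH v → IsH2 (lin Tmat v - v)) ∧ (∀ k, lin Tmat (k + k) = k + k → IsH2 (k + k)) := by
  refine ⟨?_, ?_, ?_, ?_, ?_, ?_, ?_, ?_, ?_, ?_⟩
  all_goals decide +kernel

theorem card_isH : Fintype.card {v // IsH v} = 32 := by decide +kernel

theorem card_isH2 : Fintype.card {v // IsH2 v} = 4 := by decide +kernel

theorem moved_eq_norm : ∀ r : Fin 3 → ZMod 4, red (lin Bmat r - r) = 0 →
    ∃ k, lin Bmat (k + k) - (k + k) = lin Bmat r - r := by decide +kernel

variable {Y : Type*} [Group Y] [Finite Y] {Q : Subgroup Y}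

/-- An abelian normal subgroup of order 128 inside `Q`, squaring onto a natural layer `F`, with no
fixed involution outside `F`. -/
theorem no_core_two (D : Seven Y Q) {F U R : Subgroup Y} (LF : Layer Q F) (hF : Nat.card F = 8)
    (LU : Layer Q U) (hU : Nat.card U = 16) (hFU : F ≤ U) (hUR : U ≤ R) (hn : R.Normal)
    (hRQ : R ≤ Q) (hR : Nat.card R = 128) (hcomm : ∀ a ∈ R, ∀ c ∈ R, a * c = c * a)
    (hcent : ∀ q ∈ Q, ∀ r ∈ R, q * r = r * q) (hsq : ∀ a ∈ R, a ^ 2 ∈ F)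
    (hsurj : ∀ f ∈ F, ∃ a ∈ R, a ^ 2 = f)
    (hnofix : ∀ z ∈ U, (∀ y : Y, y * z = z * y) → z ∈ F)
    (hq : ∀ y q : Y, y ∉ Q → y ^ 4 ∈ Q → q ∈ Q → y * q = q * y → q ∈ R) : False := by
  classical
  haveI := hn
  haveI := LF.normal
  haveI := LU.normal
  haveI := D.normal
  have hnofix' : ∀ y c : Y, y ∉ Q → y ^ 4 ∈ Q → c ∈ U → c ∉ F → y * c ≠ c * y := by
    intro y c hy hy4 hc hcF e
    obtain ⟨z, hz, hzF, hfix⟩ := exists_fixed_outside LU D hU LF.normal hFU hF hy hy4 hc hcF e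
    exact hzF (hnofix z hz hfix)
  -- squaring
  let φ : R →* F := MonoidHom.mk' (fun a => ⟨(a : Y) ^ 2, hsq a a.2⟩) fun a c =>
    Subtype.ext (Commute.mul_pow (hcomm a a.2 c c.2) 2)
  have hφs : Function.Surjective φ := fun ⟨f, hf⟩ => by
    obtain ⟨a, ha, e⟩ := hsurj f hf
    exact ⟨⟨a, ha⟩, Subtype.ext e⟩
  have hker : ∀ a ∈ R, a ^ 2 = 1 → a ∈ U := by
    intro a ha h2
    have h1 := Subgroup.card_mul_index φ.ker
    rw [Subgroup.index_ker, MonoidHom.range_eq_top.2 hφs, Subgroup.card_top, hF, hR] at h1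
    have hle : U.subgroupOf R ≤ φ.ker := fun u hu =>
      MonoidHom.mem_ker.2 (Subtype.ext (LU.exp u (Subgroup.mem_subgroupOf.1 hu)))
    have heq := Subgroup.eq_of_le_of_card_ge hle (by
      rw [Nat.card_congr (Subgroup.subgroupOfEquivOfLe hUR).toEquiv, hU]; omega)
    have hmem : (⟨a, ha⟩ : R) ∈ φ.ker := MonoidHom.mem_ker.2 (Subtype.ext h2)
    exact Subgroup.mem_subgroupOf.1 (heq.ge hmem)
  -- the quotient by `F`
  set π := QuotientGroup.mk' F with hπ
  have hFQ : F ≤ Q := hFU.trans (hUR.trans hRQ)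
  have DF := D.quot F hFQ
  have hπF : ∀ x, π x = 1 ↔ x ∈ F := fun x => QuotientGroup.eq_one_iff x
  have hKn : (R.map π).Normal := Subgroup.Normal.map inferInstance π (QuotientGroup.mk'_surjective F)
  have hmoved : ∀ y : Y, (∀ a ∈ R, ⁅y, a⁆ ∈ F) → y ∈ Q := fun y h => LF.mem_of_fix D fun f hf => by
    obtain ⟨a, ha, rfl⟩ := hsurj f hf
    rw [← mul_inv_eq_iff_eq_mul, ← conj_pow,
      show y * a * y⁻¹ = ⁅y, a⁆ * a by rw [commutatorElement_def]; group,
      Commute.mul_pow (hcomm _ (hUR (hFU (h a ha))) a ha), LF.exp _ (h a ha), one_mul]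
  have LK : Layer (Q.map π) (R.map π) := by
    refine ⟨hKn, ?_, ?_, ?_, fun h => ?_⟩
    · rintro _ ⟨a, ha, rfl⟩ _ ⟨c, hc, rfl⟩
      rw [← map_mul, hcomm a ha c hc, map_mul]
    · rintro _ ⟨a, ha, rfl⟩
      rw [← map_pow, hπF]; exact hsq a ha
    · rintro _ ⟨q, hq, rfl⟩ _ ⟨a, ha, rfl⟩
      rw [← map_mul, hcent q hq a ha, map_mul]
    · obtain ⟨a, ha, -⟩ := D.exists_seven
      refine ha (hmoved a fun r hr => (hπF _).1 ?_)
      rw [map_commutatorElement, commutatorElement_eq_one_iff_mul_comm]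
      exact h _ _ (Subgroup.mem_map_of_mem π hr)
  have hcardmap : ∀ S : Subgroup Y, F ≤ S → Nat.card (S.map π) * 8 = Nat.card S := by
    intro S hS
    have := Subgroup.card_mul_index (F.subgroupOf S)
    rw [Nat.card_congr (Subgroup.subgroupOfEquivOfLe hS).toEquiv, hF] at this
    rw [← Subgroup.relIndex_ker S π, QuotientGroup.ker_mk', Subgroup.relIndex]
    omega
  have hK16 : Nat.card (R.map π) = 16 := by
    have := hcardmap R (hFU.trans hUR); omega
  set S := U.map π with hS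
  haveI : S.Normal := Subgroup.Normal.map inferInstance π (QuotientGroup.mk'_surjective F)
  have hS2 : Nat.card S = 2 := by
    have := hcardmap U hFU; rw [hS]; omega
  have hSfix : ∀ y : Y ⧸ F, ∀ s ∈ S, y * s = s * y := by
    intro y s hs
    by_cases hs1 : s = 1
    · simp [hs1]
    obtain ⟨⟨w, hw⟩, -, huniq⟩ := (Nat.card_eq_two_iff' (1 : S)).1 hS2
    have h1 := congrArg Subtype.val (huniq ⟨y * s * y⁻¹, (inferInstance : S.Normal).conj_mem s hs y⟩
      fun e => hs1 (conj_eq_one_iff.1 (congrArg Subtype.val e)))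
    have h2 := congrArg Subtype.val (huniq ⟨s, hs⟩ fun e => hs1 (congrArg Subtype.val e))
    rw [← mul_inv_eq_iff_eq_mul]
    exact h1.trans h2.symm
  have hSK : S ≤ R.map π := Subgroup.map_mono hUR
  -- a companion on `F` and lifts
  obtain ⟨u₀, hu₀, hu₀1⟩ : ∃ u ∈ F, u ≠ 1 := by
    by_contra h
    push Not at h
    rw [(Subgroup.eq_bot_iff_forall F).2 h, Subgroup.card_bot] at hF
    omega
  obtain ⟨v₀, hv₀, hv₀1, hvu₀⟩ : ∃ v ∈ F, v ≠ 1 ∧ v ≠ u₀ := by
    by_contra h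
    push Not at h
    have hle : F ≤ zpowers u₀ := fun w hw => by
      by_cases hw1 : w = 1
      · rw [hw1]; exact one_mem _
      · rw [h w hw hw1]; exact mem_zpowers u₀
    have := Subgroup.card_le_of_le hle
    have := Nat.le_of_dvd (by norm_num) (orderOf_dvd_of_pow_eq_one (LF.exp u₀ hu₀))
    rw [Nat.card_zpowers, hF] at *
    omega
  obtain ⟨f, hf, hfi, -, -⟩ := exists_basis LF hF hu₀ hu₀1 hv₀ hv₀1 hvu₀
  obtain ⟨y, hy⟩ := LF.exists_lin D hF hf hfi companion companion_indep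
  obtain ⟨x, hx, hxf⟩ := hsurj (f 0) (hf 0)
  set x1 := x⁻¹ * (y * x * y⁻¹) with hx1
  set x2 := x1⁻¹ * (y * x1 * y⁻¹) with hx2
  set x3 := x2⁻¹ * (y * x2 * y⁻¹) with hx3
  have hx1R : x1 ∈ R := mul_mem (inv_mem hx) (hn.conj_mem x hx y)
  have hx2R : x2 ∈ R := mul_mem (inv_mem hx1R) (hn.conj_mem x1 hx1R y)
  have hx3R : x3 ∈ R := mul_mem (inv_mem hx2R) (hn.conj_mem x2 hx2R y)
  have hsqmul : ∀ a ∈ R, ∀ c ∈ R, (a * c) ^ 2 = a ^ 2 * c ^ 2 := fun a ha c hc =>
    Commute.mul_pow (hcomm a ha c hc) 2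
  have hadd := comb_add LF hf
  have s0 : comb f ![1, 0, 0] = f 0 := by simp [comb, show (1 : ZMod 2).val = 1 from rfl]
  have s1 : comb f ![0, 1, 0] = f 1 := by simp [comb, show (1 : ZMod 2).val = 1 from rfl]
  have s2 : comb f ![0, 0, 1] = f 2 := by simp [comb, show (1 : ZMod 2).val = 1 from rfl]
  have e1 : x1 ^ 2 = f 1 := by
    rw [← s1, hx1, hsqmul _ (inv_mem hx) _ (hn.conj_mem x hx y), conj_pow, inv_pow, hxf, ← s0, hy,
      LF.inv_eq (comb_mem hf _), ← hadd]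
    congr 1; decide
  have e2 : x2 ^ 2 = f 2 := by
    rw [← s2, hx2, hsqmul _ (inv_mem hx1R) _ (hn.conj_mem x1 hx1R y), conj_pow, inv_pow, e1, ← s1,
      hy, LF.inv_eq (comb_mem hf _), ← hadd]
    congr 1; decide
  have e3 : x3 ^ 2 = 1 := by
    rw [hx3, hsqmul _ (inv_mem hx2R) _ (hn.conj_mem x2 hx2R y), conj_pow, inv_pow, e2, ← s2,
      hy, show lin companion ![0, 0, 1] = ![0, 0, 1] by decide, inv_mul_cancel]
  have hy2 : y ^ 2 ∉ Q := fun h => by
    have h1 := LF.cent _ h _ (comb_mem hf ![1, 0, 0])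
    rw [← mul_inv_eq_iff_eq_mul, conj_sq, hy, hy] at h1
    exact absurd (comb_injective LF hf hfi h1) (by decide)
  have hyQ : y ∉ Q := fun h => hy2 (pow_mem h 2)
  have hy4 : y ^ 4 ∈ Q := LF.mem_of_fix D fun k hk => by
    obtain ⟨v, rfl⟩ := comb_surjective LF hf hfi hF hk
    have e : ∀ v, lin companion (lin companion (lin companion (lin companion v))) = v := by decide
    rw [← mul_inv_eq_iff_eq_mul, show y ^ 4 = y ^ 2 * y ^ 2 by rw [← pow_add],
      show y ^ 2 * y ^ 2 * comb f v * (y ^ 2 * y ^ 2)⁻¹ =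
        y ^ 2 * (y ^ 2 * comb f v * (y ^ 2)⁻¹) * (y ^ 2)⁻¹ by group, conj_sq y (comb f v), hy, hy,
      conj_sq, hy, hy, e]
  have hx3U : x3 ∈ U := hker x3 hx3R e3
  have hx3F : x3 ∈ F := by
    by_contra hx3F
    set x4 := x3⁻¹ * (y * x3 * y⁻¹) with hx4
    have hx4R : x4 ∈ R := mul_mem (inv_mem hx3R) (hn.conj_mem x3 hx3R y)
    letI : CommGroup R := { (inferInstance : Group R) with
      mul_comm := fun a c => Subtype.ext (hcomm a a.2 c c.2) }
    set σ : R →* R := MonoidHom.mk' (fun a => ⟨y * a * y⁻¹, hn.conj_mem a a.2 y⟩) fun a c => by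
      apply Subtype.ext
      show y * ((a : Y) * c) * y⁻¹ = y * a * y⁻¹ * (y * c * y⁻¹)
      group
    set a0 : R := ⟨x, hx⟩
    set a1 : R := ⟨x1, hx1R⟩
    set a2 : R := ⟨x2, hx2R⟩
    set a3 : R := ⟨x3, hx3R⟩
    set a4 : R := ⟨x4, hx4R⟩
    have t0 : σ a0 = a0 * a1 := Subtype.ext (mul_inv_cancel_left x (y * x * y⁻¹)).symm
    have t1 : σ a1 = a1 * a2 := Subtype.ext (mul_inv_cancel_left x1 (y * x1 * y⁻¹)).symm
    have t2 : σ a2 = a2 * a3 := Subtype.ext (mul_inv_cancel_left x2 (y * x2 * y⁻¹)).symm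
    have t3 : σ a3 = a3 * a4 := Subtype.ext (mul_inv_cancel_left x3 (y * x3 * y⁻¹)).symm
    have h4 : σ (σ (σ (σ a0))) = a0 := by
      apply Subtype.ext
      show y * (y * (y * (y * x * y⁻¹) * y⁻¹) * y⁻¹) * y⁻¹ = x
      have := hcent _ hy4 x hx
      rw [← mul_inv_eq_iff_eq_mul] at this
      conv_rhs => rw [← this, show y ^ 4 = y * (y * (y * y)) by
        simp only [pow_succ, pow_zero, one_mul, mul_assoc]]
      group
    have h5 : σ (σ (σ (σ a0))) = a0 * a1 ^ 4 * a2 ^ 6 * a3 ^ 4 * a4 := by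
      simp only [t0, t1, t2, t3, map_mul]
      simp only [pow_succ, pow_zero, one_mul]
      ac_rfl
    have e4 : ∀ a : R, a ^ 4 = 1 := fun a => Subtype.ext (by
      show (a : Y) ^ 4 = 1
      rw [show 4 = 2 * 2 from rfl, pow_mul, LF.exp _ (hsq a a.2)])
    rw [h5, e4, e4, show 6 = 4 + 2 from rfl, pow_add, e4, one_mul, mul_one, mul_one,
      mul_assoc, mul_eq_left] at h4
    have h6 : x2 ^ 2 * x4 = 1 := congrArg Subtype.val h4
    rw [e2] at h6
    -- a fixed point outside `F`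
    refine hnofix' y (x3 * f 1) hyQ hy4 (mul_mem hx3U (hFU (hf 1))) (fun h => hx3F ?_) ?_
    · simpa using mul_mem h (inv_mem (hf 1))
    rw [← mul_inv_eq_iff_eq_mul, ← conj_mul,
      show y * x3 * y⁻¹ = x3 * x4 by rw [hx4, mul_inv_cancel_left],
      ← s1, hy, show lin companion ![0, 1, 0] = ![0, 1, 0] + ![0, 0, 1] by decide, hadd, s1, s2,
      eq_inv_of_mul_eq_one_right h6, LF.inv_eq (hf 2), LF.comm _ (hf 1) _ (hf 2), mul_assoc,
      ← mul_assoc (f 2), ← pow_two, LF.exp _ (hf 2), one_mul]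
  -- an invariant hyperplane
  set b : Fin 3 → Y := ![x, x1, x2] with hb
  have hbR : ∀ i, b i ∈ R := fun i => by fin_cases i <;> assumption
  have hb2 : ∀ v, comb b v ^ 2 = comb f v := fun v => by
    have hbf : ∀ i, b i ^ 2 = f i := fun i => by fin_cases i <;> assumption
    simp only [comb]
    rw [hsqmul _ (mul_mem (pow_mem (hbR 0) _) (pow_mem (hbR 1) _)) _ (pow_mem (hbR 2) _),
      hsqmul _ (pow_mem (hbR 0) _) _ (pow_mem (hbR 1) _)]
    simp only [← pow_mul, mul_comm _ 2]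
    simp only [pow_mul, hbf]
  set πb : Fin 3 → Y ⧸ F := fun i => π (b i)
  have hSeq : ∀ a ∈ R, QuotientGroup.mk' S (π a) = 1 ↔ a ^ 2 = 1 := by
    intro a ha
    rw [show QuotientGroup.mk' S (π a) = 1 ↔ π a ∈ S from QuotientGroup.eq_one_iff _]
    refine ⟨?_, fun h => Subgroup.mem_map_of_mem π (hker a ha h)⟩
    rintro ⟨u, hu, he⟩
    have := mul_mem hu (hFU (QuotientGroup.eq.1 he))
    rw [mul_inv_cancel_left] at this
    exact LU.exp a this
  have hii : Indep fun i => QuotientGroup.mk' S (πb i) := by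
    intro v hv
    rw [← map_comb (QuotientGroup.mk' S), ← map_comb π, hSeq _ (comb_mem hbR v), hb2] at hv
    exact hfi v hv
  have hconj : ∀ v, QuotientGroup.mk' S (π y) * comb (fun i => QuotientGroup.mk' S (πb i)) v *
      (QuotientGroup.mk' S (π y))⁻¹ =
      comb (fun i => QuotientGroup.mk' S (πb i)) (lin companion v) := by
    intro v
    rw [← map_comb (QuotientGroup.mk' S), ← map_comb (QuotientGroup.mk' S), ← map_comb π,
      ← map_comb π, ← mul_inv_eq_one]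
    simp only [← map_mul, ← map_inv]
    have hc : y * comb b v * y⁻¹ ∈ R := hn.conj_mem _ (comb_mem hbR v) y
    rw [hSeq _ (mul_mem hc (inv_mem (comb_mem hbR _))),
      hsqmul _ hc _ (inv_mem (comb_mem hbR _)), conj_pow, inv_pow, hb2, hb2, hy, mul_inv_cancel]
  have hfixb : π y * πb 2 = πb 2 * π y := by
    rw [← commutatorElement_eq_one_iff_mul_comm, ← map_commutatorElement, hπF]
    show ⁅y, x2⁆ ∈ F
    rw [show ⁅y, x2⁆ = x2 * x3 * x2⁻¹ by rw [hx3, commutatorElement_def]; group]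
    exact LF.normal.conj_mem x3 hx3F x2
  obtain ⟨H, hHn, hHK, hH8⟩ := hyperplane_of_fix LK DF (Subgroup.map_mono hRQ) hK16 S hSK hS2 hSfix
    (fun i => Subgroup.mem_map_of_mem π (hbR i)) hii
    (by rw [← map_pow]; exact Subgroup.mem_map_of_mem π hy4) hconj hfixb
  -- the homocyclic part
  set R₀ := H.comap π with hR₀
  have hR₀R : R₀ ≤ R := by
    intro a ha
    obtain ⟨r, hr, he⟩ := hHK ha
    have := mul_mem hr (hUR (hFU (QuotientGroup.eq.1 he)))
    rwa [mul_inv_cancel_left] at this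
  have hFR₀ : F ≤ R₀ := fun a ha => by
    rw [hR₀, Subgroup.mem_comap, (hπF a).2 ha]; exact one_mem H
  have hR₀card : Nat.card R₀ = 64 := by
    have h1 := hcardmap R₀ hFR₀
    rw [hR₀, Subgroup.map_comap_eq_self_of_surjective (QuotientGroup.mk'_surjective F), hH8] at h1
    rw [hR₀]; omega
  have hR₀U : ∀ a ∈ R₀, a ∈ U → a ∈ F := fun a ha haU => (hπF a).1
    ((LK.sub DF hK16 hHn hHK hH8).fixed_eq_one DF hH8 ha
      fun z => hSfix z _ (Subgroup.mem_map_of_mem π haU))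
  have hR₀surj : ∀ k ∈ F, ∃ a ∈ R₀, a ^ 2 = k := by
    have hk : (φ.comp (Subgroup.inclusion hR₀R)).ker ≤ F.subgroupOf R₀ := fun a ha =>
      Subgroup.mem_subgroupOf.2 (hR₀U a a.2 (hker a (hR₀R a.2)
        (congrArg Subtype.val (MonoidHom.mem_ker.1 ha))))
    have h1 := Subgroup.card_mul_index (φ.comp (Subgroup.inclusion hR₀R)).ker
    have h2 := Subgroup.card_le_of_le hk
    rw [Nat.card_congr (Subgroup.subgroupOfEquivOfLe hFR₀).toEquiv, hF] at h2
    rw [Subgroup.index_ker, hR₀card] at h1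
    have h3 : Nat.card (φ.comp (Subgroup.inclusion hR₀R)).range ≤ 8 :=
      hF ▸ Subgroup.card_le_card_group _
    have h4 : (φ.comp (Subgroup.inclusion hR₀R)).range = ⊤ :=
      Subgroup.eq_top_of_card_eq _ (by rw [hF]; nlinarith)
    intro k hk
    obtain ⟨a, ha⟩ := h4.ge (Subgroup.mem_top (⟨k, hk⟩ : F))
    exact ⟨a, a.2, congrArg Subtype.val ha⟩
  obtain ⟨b', y', C, hyQ', hy2', hy4', hy'⟩ := exists_frame D LF hF (R := R₀) (hHn.comap π)
    (fun a ha c hc => hcomm a (hR₀R ha) c (hR₀R hc)) hR₀card (fun a ha => hsq a (hR₀R ha))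
    hR₀surj fun q hq r hr => hcent q hq r (hR₀R hr)
  obtain ⟨z, hzU, hzF⟩ : ∃ z ∈ U, z ∉ F := by
    by_contra h
    push Not at h
    have := Subgroup.card_le_of_le h
    omega
  have hzR₀ : z ∉ R₀ := fun h => hzF (hR₀U z h hzU)
  have hzR₀' : ∀ a ∈ R, a ∉ R₀ → z⁻¹ * a ∈ R₀ := by
    intro a ha haR
    have hidx : (R₀.subgroupOf R).index = 2 := by
      have := Subgroup.card_mul_index (R₀.subgroupOf R)
      rw [Nat.card_congr (Subgroup.subgroupOfEquivOfLe hR₀R).toEquiv, hR₀card, hR] at this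
      omega
    have := Subgroup.mul_mem_iff_of_index_two hidx (a := (⟨z, hUR hzU⟩ : R)⁻¹) (b := ⟨a, ha⟩)
    simp only [inv_mem_iff, Subgroup.mem_subgroupOf, Subgroup.coe_mul, InvMemClass.coe_inv] at this
    exact this.2 (iff_of_false hzR₀ haR)
  have hshift : ∀ g : Y, ∃ k, g * z * g⁻¹ = z * comb4 b' (k + k) := by
    intro g
    have h1 : z⁻¹ * (g * z * g⁻¹) ∈ F := by
      have hm : π (z⁻¹ * (g * z * g⁻¹)) = 1 := by
        rw [map_mul, map_inv, map_mul, map_mul, map_inv,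
          hSfix (π g) (π z) (Subgroup.mem_map_of_mem π hzU), mul_inv_cancel_right, inv_mul_cancel]
      exact (hπF _).1 hm
    obtain ⟨a, ha, he⟩ := hR₀surj _ h1
    obtain ⟨k, rfl⟩ := C.comb4_surjective ha
    exact ⟨k, by rw [C.comb4_add, ← pow_two, he, mul_inv_cancel_left]⟩
  -- the fourth power lies in the homocyclic part
  have hy4R₀ : y' ^ 4 ∈ R₀ := by
    have hc := hq y' _ hyQ' hy4' hy4' (pow_mul_comm' y' 4).symm
    by_contra hn4
    obtain ⟨r, hr⟩ := C.comb4_surjective (hzR₀' _ hc hn4)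
    obtain ⟨k, hk⟩ := hshift y'
    have hfix : y' * (z * comb4 b' r) * y'⁻¹ = z * comb4 b' r := by
      rw [hr, mul_inv_cancel_left, ← pow_mul_comm' y' 4, mul_inv_cancel_right]
    rw [← conj_mul, hk, hy', mul_assoc, mul_left_cancel_iff, ← C.comb4_add] at hfix
    have hfix' := C.comb4_injective hfix
    have hk2 : lin Bmat r - r = -(k + k) := by
      rw [sub_eq_iff_eq_add, eq_neg_add_iff_add_eq]; exact hfix'
    have hred0 : ∀ k : Fin 3 → ZMod 4, red (-(k + k)) = 0 := by decide +kernel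
    obtain ⟨k', hk'⟩ := moved_eq_norm r (by rw [hk2]; exact hred0 k)
    refine hnofix' y' (z * comb4 b' (k' + k')) hyQ' hy4' (mul_mem hzU (hFU ?_)) (fun h => hzF ?_) ?_
    · rw [C.comb4_add, ← pow_two]; exact hsq _ (hR₀R (C.comb4_mem k'))
    · have h2 : comb4 b' (k' + k') ∈ F := by
        rw [C.comb4_add, ← pow_two]; exact hsq _ (hR₀R (C.comb4_mem k'))
      simpa using mul_mem h (inv_mem h2)
    rw [← mul_inv_eq_iff_eq_mul, ← conj_mul, hk, hy', mul_assoc, ← C.comb4_add]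
    congr 2
    rw [← hk'] at hk2
    have : lin Bmat (k' + k') = k' + k' + -(k + k) := by rw [← hk2]; abel
    rw [this]; abel
  obtain ⟨q, hqR, hu⟩ := C.exists_involution hy' hy4R₀
  set u := y' ^ 2 * q with hudef
  have hqQ : q ∈ Q := hRQ (hR₀R hqR)
  have hT : ∀ v, u * comb4 b' v * u⁻¹ = comb4 b' (lin Tmat v) := fun v => by
    rw [hudef, show y' ^ 2 * q * comb4 b' v * (y' ^ 2 * q)⁻¹ =
      y' ^ 2 * (q * comb4 b' v * q⁻¹) * (y' ^ 2)⁻¹ by group,
      hcent q hqQ _ (hR₀R (C.comb4_mem v)), mul_inv_cancel_right, conj_sq, hy', hy', lin_Bmat_sq]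
  have huinv : u⁻¹ = u := inv_eq_of_mul_eq_one_right (by rw [← pow_two, hu])
  obtain ⟨h0, hadd', hneg, h20, h2add, h2neg, h2H, hdouble, hTH, hfixk⟩ := isH_facts
  set N := C.sub IsH2 h20 h2add h2neg with hN
  obtain ⟨k, hk⟩ := hshift u
  have hkN : IsH2 (k + k) := by
    apply hfixk
    apply C.comb4_injective
    rw [← hT]
    have h1 : u * (u * z * u⁻¹) * u⁻¹ = z := by rw [← conj_sq, hu]; group
    rw [hk, ← conj_mul, hk, mul_assoc, mul_eq_left] at h1
    rw [eq_inv_of_mul_eq_one_right h1, C.comb4_add, ← pow_two]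
    exact LF.inv_eq (hsq _ (hR₀R (C.comb4_mem k)))
  set MH := C.sub IsH h0 hadd' hneg with hMH
  have hMHR₀ : MH ≤ R₀ := by rintro _ ⟨v, -, rfl⟩; exact C.comb4_mem v
  let M : Subgroup Y :=
    { carrier := {a | a ∈ MH ∨ ∃ m ∈ MH, a = z * m}
      one_mem' := Or.inl (one_mem _)
      mul_mem' := by
        have hz2 : z * z = 1 := by rw [← pow_two, LU.exp z hzU]
        have hzc : ∀ m ∈ MH, m * z = z * m := fun m hm =>
          hcomm m (hR₀R (hMHR₀ hm)) z (hUR hzU)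
        rintro a c (ha | ⟨m, hm, rfl⟩) (hc | ⟨m', hm', rfl⟩)
        · exact Or.inl (mul_mem ha hc)
        · exact Or.inr ⟨a * m', mul_mem ha hm', by rw [← mul_assoc, hzc a ha, mul_assoc]⟩
        · exact Or.inr ⟨m * c, mul_mem hm hc, mul_assoc _ _ _⟩
        · left
          rw [show z * m * (z * m') = z * (m * z) * m' by group, hzc m hm, ← mul_assoc z z, hz2,
            one_mul]
          exact mul_mem hm hm'
      inv_mem' := by
        rintro a (ha | ⟨m, hm, rfl⟩)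
        · exact Or.inl (inv_mem ha)
        · exact Or.inr ⟨m⁻¹, inv_mem hm, by
            rw [mul_inv_rev, LU.inv_eq hzU]
            exact hcomm _ (inv_mem (hR₀R (hMHR₀ hm))) z (hUR hzU)⟩ }
  have hMR : M ≤ R := by
    rintro a (ha | ⟨m, hm, rfl⟩)
    · exact hR₀R (hMHR₀ ha)
    · exact mul_mem (hUR hzU) (hR₀R (hMHR₀ hm))
  have hNMH : N ≤ MH := by rintro _ ⟨v, hv, rfl⟩; exact ⟨v, h2H v hv, rfl⟩
  have hNM : N ≤ M := hNMH.trans fun a ha => Or.inl ha
  have hMcard : 64 ≤ Nat.card M := by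
    have hinj : Function.Injective (fun p : Bool × MH =>
        (⟨if p.1 then z * p.2 else p.2, by
          by_cases h : p.1
          · simp only [h, if_true]; exact Or.inr ⟨p.2, p.2.2, rfl⟩
          · simp only [h]; exact Or.inl p.2.2⟩ : M)) := by
      rintro ⟨i, m⟩ ⟨j, m'⟩ e
      have e' := congrArg Subtype.val e
      simp only at e'
      cases i <;> cases j <;> simp at e'
      · exact Prod.ext rfl e'
      · exact absurd (hMHR₀ (show z ∈ MH by
          have := mul_mem m.2 (inv_mem m'.2); rwa [e', mul_inv_cancel_right] at this)) hzR₀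
      · exact absurd (hMHR₀ (show z ∈ MH by
          have := mul_mem m'.2 (inv_mem m.2); rwa [← e', mul_inv_cancel_right] at this)) hzR₀
      · exact Prod.ext rfl e'
    have := Nat.card_le_card_of_injective _ hinj
    rw [Nat.card_prod, C.card_sub, card_isH, Nat.card_eq_fintype_card, Fintype.card_bool] at this
    omega
  have hrel : 16 ≤ N.relIndex M := by
    have h3 := Subgroup.card_mul_index (N.subgroupOf M)
    rw [Nat.card_congr (Subgroup.subgroupOfEquivOfLe hNM).toEquiv, C.card_sub, card_isH2] at h3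
    show 16 ≤ (N.subgroupOf M).index
    omega
  have huz : ⁅u, z⁆ ∈ N := ⟨k + k, hkN, by
    rw [commutatorElement_def, hk, LU.inv_eq hzU]
    have := hcomm z (hUR hzU) _ (hR₀R (C.comb4_mem (k + k)))
    rw [this, mul_assoc, ← pow_two, LU.exp z hzU, mul_one]⟩
  have huMH : ∀ m ∈ MH, ⁅u, m⁆ ∈ N := by
    rintro _ ⟨v, hv, rfl⟩
    exact ⟨_, hTH v hv, (C.commutator hT v).symm⟩
  refine section_one D hNM (hMR.trans hRQ) (u := u) ?_ ?_ ?_ (by rw [hu]; exact one_mem _)
    (fun h => hy2' (by simpa [hudef] using mul_mem h (inv_mem hqQ))) hrel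
  · rintro a (⟨v, hv, rfl⟩ | ⟨_, ⟨v, hv, rfl⟩, rfl⟩)
    · exact ⟨v + v, hdouble v hv, by rw [C.comb4_add, pow_two]⟩
    · rw [hsqmul _ (hUR hzU) _ (hR₀R (C.comb4_mem v)), LU.exp z hzU, one_mul]
      exact ⟨v + v, hdouble v hv, by rw [C.comb4_add, pow_two]⟩
  · intro m hm m' hm'
    rw [commutatorElement_eq_one_iff_mul_comm.2 (hcomm m (hMR hm) m' (hMR hm'))]
    exact one_mem _
  · rintro a (ha | ⟨m, hm, rfl⟩)
    · exact huMH a ha
    · rw [show ⁅u, z * m⁆ = ⁅u, z⁆ * (z * ⁅u, m⁆ * z⁻¹) by simp only [commutatorElement_def]; group]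
      refine mul_mem huz ?_
      rw [hcomm z (hUR hzU) _ (hR₀R (hMHR₀ (hNMH (huMH m hm)))), mul_inv_cancel_right]
      exact huMH m hm

end CfsgLib.Small.ConstrainedSeven
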