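import Cfsg.Agent.Lib.Small.ConstrainedSeven.CoreTwo

/-!
# A natural layer cannot lie below a faithful top

If the squares of `Q` lie in a natural layer, the rank bound is violated.
-/

set_option autoImplicit false
set_option linter.unusedSectionVars false
set_option linter.style.haveILetI false

namespace CfsgLib.Small.ConstrainedSeven

open Subgroup
open scoped commutatorElement

variable {Y : Type*} [Group Y] [Finite Y] {Q : Subgroup Y}

theorem mul_comm_of_sq {a b : Y} (h : (a * b) ^ 2 = a ^ 2 * b ^ 2) : a * b = b * a := by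
  rw [pow_two, pow_two, pow_two] at h
  calc a * b = a⁻¹ * (a * a * (b * b)) * b⁻¹ := by group
    _ = a⁻¹ * (a * b * (a * b)) * b⁻¹ := by rw [h]
    _ = b * a := by group

/-- Squaring from a natural quotient into a natural layer is an isomorphism and forces
commutativity. -/
theorem squares_iso (D : Seven Y Q) {Z : Type*} [Group Z] [Finite Z] {QZ : Subgroup Z}
    (DZ : Seven Z QZ) (π : Y →* Z) (hπ : Function.Surjective π) (hQ : Q.map π ≤ QZ)
    {F U R : Subgroup Y} (LF : Layer Q F) (hF : Nat.card F = 8) (hker : π.ker = U) (hUR : U ≤ R)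
    (hn : R.Normal) (hU4 : 4 ≤ Nat.card U) (hexp : ∀ u ∈ U, u ^ 2 = 1)
    (hcen : ∀ u ∈ U, ∀ a ∈ R, u * a = a * u) (hsq : ∀ a ∈ R, a ^ 2 ∈ F)
    (LR : Layer QZ (R.map π)) (hR8 : Nat.card (R.map π) = 8) :
    (∀ a ∈ R, a ^ 2 = 1 → a ∈ U) ∧ (∀ k ∈ F, ∃ a ∈ R, a ^ 2 = k) ∧
      ∀ a ∈ R, ∀ c ∈ R, a * c = c * a := by
  classical
  haveI := hn
  let f : Z → Y := fun z => if h : ∃ a ∈ R, π a = z then h.choose ^ 2 else 1
  have hf : ∀ a ∈ R, f (π a) = a ^ 2 := by
    intro a ha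
    have h : ∃ c ∈ R, π c = π a := ⟨a, ha, rfl⟩
    show (if h : ∃ c ∈ R, π c = π a then h.choose ^ 2 else 1) = a ^ 2
    rw [dif_pos h]
    obtain ⟨hcR, hce⟩ := h.choose_spec
    have hu : h.choose⁻¹ * a ∈ U := hker ▸ (MonoidHom.eq_iff π).1 hce.symm
    calc h.choose ^ 2 = h.choose ^ 2 * (h.choose⁻¹ * a) ^ 2 := by rw [hexp _ hu, mul_one]
      _ = (h.choose * (h.choose⁻¹ * a)) ^ 2 := (Commute.mul_pow (hcen _ hu _ hcR).symm 2).symm
      _ = a ^ 2 := by rw [mul_inv_cancel_left]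
  have E : Equi π (R.map π) F f := by
    refine ⟨?_, ?_⟩
    · rintro _ ⟨a, ha, rfl⟩; rw [hf a ha]; exact hsq a ha
    · rintro y _ ⟨a, ha, rfl⟩
      rw [← map_inv, ← map_mul, ← map_mul, hf _ (hn.conj_mem a ha y), hf a ha, conj_pow]
  rcases E.trivial_or_iso D DZ LR LF hR8 hF hπ hQ with h | ⟨hne, hsurj, hmul⟩
  · exfalso
    have hexpR : ∀ a ∈ R, a ^ 2 = 1 := fun a ha => by
      rw [← hf a ha]; exact h _ (Subgroup.mem_map_of_mem π ha)
    have hab : ∀ a ∈ R, ∀ c ∈ R, a * c = c * a := fun a ha c hc => mul_comm_of_sq (by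
      rw [hexpR a ha, hexpR c hc, hexpR _ (mul_mem ha hc), mul_one])
    have h16 := ConstrainedFive.card_le_sixteen D.rank R hab hexpR
    have := Subgroup.card_mul_index (U.subgroupOf R)
    rw [Nat.card_congr (Subgroup.subgroupOfEquivOfLe hUR).toEquiv] at this
    rw [← Subgroup.relIndex_ker R π, hker, Subgroup.relIndex] at hR8
    rw [hR8] at this
    omega
  refine ⟨fun a ha h2 => ?_, fun k hk => ?_, fun a ha c hc => mul_comm_of_sq ?_⟩
  · rw [← hker]
    exact MonoidHom.mem_ker.2 (hne _ (Subgroup.mem_map_of_mem π ha) (by rw [hf a ha, h2]))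
  · obtain ⟨_, ⟨a, ha, rfl⟩, he⟩ := hsurj k hk
    exact ⟨a, ha, (hf a ha).symm.trans he⟩
  · rw [← hf a ha, ← hf c hc, ← hf _ (mul_mem ha hc), map_mul]
    exact hmul _ (Subgroup.mem_map_of_mem π ha) _ (Subgroup.mem_map_of_mem π hc)

/-- Commutators lie where the squares lie. -/
theorem commutator_mem_of_sq {F : Subgroup Y} (hsq : ∀ a ∈ Q, a ^ 2 ∈ F) {a c : Y} (ha : a ∈ Q)
    (hc : c ∈ Q) : ⁅a, c⁆ ∈ F := by
  have h := mul_mem (mul_mem (hsq a ha) (hsq _ (mul_mem (inv_mem ha) hc))) (inv_mem (hsq c hc))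
  rwa [show a ^ 2 * (a⁻¹ * c) ^ 2 * (c ^ 2)⁻¹ = ⁅a, c⁆ by
    simp only [pow_two, commutatorElement_def]; group] at h

/-- The top layer when the squares lie in `F`. -/
theorem top_layer (D : Seven Y Q) (F : Subgroup Y) [F.Normal] (hsq : ∀ a ∈ Q, a ^ 2 ∈ F)
    (hV : ∃ y : Y, ∃ q ∈ Q, ⁅y, q⁆ ∉ F) :
    Layer (Q.map (QuotientGroup.mk' F)) (Q.map (QuotientGroup.mk' F)) := by
  haveI := D.normal
  have hcomm : ∀ a ∈ Q.map (QuotientGroup.mk' F), ∀ c ∈ Q.map (QuotientGroup.mk' F),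
      a * c = c * a := by
    rintro _ ⟨a, ha, rfl⟩ _ ⟨c, hc, rfl⟩
    rw [← commutatorElement_eq_one_iff_mul_comm, ← map_commutatorElement]
    exact (QuotientGroup.eq_one_iff _).2 (commutator_mem_of_sq hsq ha hc)
  refine ⟨Subgroup.Normal.map inferInstance _ (QuotientGroup.mk'_surjective F), hcomm, ?_, hcomm,
    fun h => ?_⟩
  · rintro _ ⟨a, ha, rfl⟩
    rw [← map_pow]
    exact (QuotientGroup.eq_one_iff _).2 (hsq a ha)
  · obtain ⟨y, q, hq, hyq⟩ := hV
    refine hyq ((QuotientGroup.eq_one_iff _).1 ?_)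
    show QuotientGroup.mk' F ⁅y, q⁆ = 1
    rw [map_commutatorElement, commutatorElement_eq_one_iff_mul_comm]
    exact h _ _ (Subgroup.mem_map_of_mem _ hq)

/-- Order 64. -/
theorem no_eight_eight (D : Seven Y Q) {F : Subgroup Y} (LF : Layer Q F) (hF : Nat.card F = 8)
    (hFQ : F ≤ Q) (hsq : ∀ a ∈ Q, a ^ 2 ∈ F) (hV : ∃ y : Y, ∃ q ∈ Q, ⁅y, q⁆ ∉ F)
    (hQ : Nat.card Q = 64) : False := by
  haveI := LF.normal
  haveI := D.normal
  have h8 : Nat.card (Q.map (QuotientGroup.mk' F)) = 8 := by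
    have := Subgroup.card_mul_index (F.subgroupOf Q)
    rw [Nat.card_congr (Subgroup.subgroupOfEquivOfLe hFQ).toEquiv, hF, hQ] at this
    rw [← Subgroup.relIndex_ker Q (QuotientGroup.mk' F), QuotientGroup.ker_mk', Subgroup.relIndex]
    omega
  obtain ⟨-, hsurj, hab⟩ := squares_iso D (D.quot F hFQ) (QuotientGroup.mk' F)
    (QuotientGroup.mk'_surjective F) le_rfl LF hF (QuotientGroup.ker_mk' F) hFQ D.normal (by omega)
    LF.exp (fun u hu a ha => (LF.cent a ha u hu).symm) hsq (top_layer D F hsq hV) h8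
  exact no_homocyclic D LF hF hab hQ hsq hsurj

/-- An abelian `Q` of order 128 squaring into a natural layer. -/
theorem no_abelian (D : Seven Y Q) {F : Subgroup Y} (LF : Layer Q F) (hF : Nat.card F = 8)
    (hFQ : F ≤ Q) (hsq : ∀ a ∈ Q, a ^ 2 ∈ F) (hab : ∀ a ∈ Q, ∀ c ∈ Q, a * c = c * a)
    (hQ : Nat.card Q = 128) : False := by
  classical
  haveI := D.normal
  haveI := LF.normal
  let φ : Q →* F := MonoidHom.mk' (fun a => ⟨(a : Y) ^ 2, hsq a a.2⟩) fun a c =>
    Subtype.ext (Commute.mul_pow (hab a a.2 c c.2) 2)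
  have hne : ∃ a ∈ Q, a ^ 2 ≠ 1 := by
    by_contra h
    push Not at h
    have := ConstrainedFive.card_le_sixteen D.rank Q hab h
    omega
  have hsurj : ∀ k ∈ F, ∃ a ∈ Q, a ^ 2 = k := by
    obtain ⟨a, ha, ha2⟩ := hne
    intro k hk
    by_cases hk1 : k = 1
    · exact ⟨1, one_mem Q, by rw [hk1, one_pow]⟩
    obtain ⟨y, hy⟩ := LF.exists_conj_one D hF (hsq a ha) ha2 hk hk1
    exact ⟨y * a * y⁻¹, D.normal.conj_mem a ha y, by rw [conj_pow, hy]⟩
  have hφs : Function.Surjective φ := fun ⟨k, hk⟩ => by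
    obtain ⟨a, ha, e⟩ := hsurj k hk
    exact ⟨⟨a, ha⟩, Subtype.ext e⟩
  set U := φ.ker.map Q.subtype with hUdef
  have hUmem : ∀ a, a ∈ U ↔ a ∈ Q ∧ a ^ 2 = 1 := fun a => by
    refine ⟨?_, fun h => ⟨⟨a, h.1⟩, MonoidHom.mem_ker.2 (Subtype.ext h.2), rfl⟩⟩
    rintro ⟨c, hc, rfl⟩
    exact ⟨c.2, congrArg Subtype.val (MonoidHom.mem_ker.1 hc)⟩
  have hUQ : U ≤ Q := fun a ha => ((hUmem a).1 ha).1
  have hU16 : Nat.card U = 16 := by
    have h := Subgroup.card_mul_index φ.ker
    rw [Subgroup.index_ker, MonoidHom.range_eq_top.2 hφs, Subgroup.card_top, hF, hQ] at h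
    rw [hUdef, Subgroup.card_subtype]
    omega
  have hFU : F ≤ U := fun a ha => (hUmem a).2 ⟨hFQ ha, LF.exp a ha⟩
  have LU : Layer Q U := ⟨⟨fun a ha y => (hUmem _).2 ⟨D.normal.conj_mem a (hUQ ha) y, by
      rw [conj_pow, ((hUmem a).1 ha).2, mul_one, mul_inv_cancel]⟩⟩,
    fun a ha c hc => hab a (hUQ ha) c (hUQ hc), fun a ha => ((hUmem a).1 ha).2,
    fun q hq a ha => hab q hq a (hUQ ha), fun h => LF.moved fun y a ha => h y a (hFU ha)⟩
  by_cases hfix : ∀ z ∈ U, (∀ y : Y, y * z = z * y) → z ∈ F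
  · exact no_core_two D LF hF LU hU16 hFU hUQ D.normal le_rfl hQ hab hab hsq hsurj hfix
      fun y q _ _ hq _ => hq
  push Not at hfix
  obtain ⟨z, hz, hzc, hzF⟩ := hfix
  haveI : (zpowers z).Normal := ⟨fun a ha y => by
    obtain ⟨i, rfl⟩ := ha
    show y * z ^ i * y⁻¹ ∈ zpowers z
    rw [(show Commute y z from hzc y).zpow_right i |>.eq, mul_inv_cancel_right]
    exact zpow_mem (mem_zpowers z) i⟩
  have hz2 : z ^ 2 = 1 := ((hUmem z).1 hz).2
  have hz1 : z ≠ 1 := fun e => hzF (e ▸ one_mem F)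
  set π := QuotientGroup.mk' (zpowers z)
  have hZQ : zpowers z ≤ Q := zpowers_le.2 (hUQ hz)
  have hFz : ∀ a ∈ F, π a = 1 → a = 1 := by
    intro a ha e
    obtain ⟨i, hi⟩ := (QuotientGroup.eq_one_iff a).1 e
    rcases Int.even_or_odd i with ⟨j, rfl⟩ | ⟨j, rfl⟩
    · rw [← hi]
      show z ^ (j + j) = 1
      rw [← two_mul, zpow_mul, show z ^ (2 : ℤ) = 1 by exact_mod_cast hz2, one_zpow]
    · exfalso
      apply hzF
      have : z = a := by
        rw [← hi]
        show z = z ^ (2 * j + 1)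
        rw [zpow_add, zpow_mul, show z ^ (2 : ℤ) = 1 by exact_mod_cast hz2, one_zpow, one_mul,
          zpow_one]
      exact this ▸ ha
  have hinjF : Set.InjOn π F := fun a ha c hc e => by
    have := hFz _ (mul_mem (inv_mem ha) hc) (by rw [map_mul, map_inv, e, inv_mul_cancel])
    exact (inv_mul_eq_one.1 this)
  have D' := D.quot (zpowers z) hZQ
  have hF' : Nat.card (F.map π) = 8 := by
    rw [← hF]
    exact Nat.card_image_of_injOn hinjF
  have LF' : Layer (Q.map π) (F.map π) := by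
    refine ⟨Subgroup.Normal.map inferInstance _ (QuotientGroup.mk'_surjective _), ?_, ?_, ?_,
      fun h => LF.moved fun y a ha => ?_⟩
    · rintro _ ⟨a, ha, rfl⟩ _ ⟨c, hc, rfl⟩; rw [← map_mul, LF.comm a ha c hc, map_mul]
    · rintro _ ⟨a, ha, rfl⟩; rw [← map_pow, LF.exp a ha, map_one]
    · rintro _ ⟨q, hq, rfl⟩ _ ⟨a, ha, rfl⟩; rw [← map_mul, LF.cent q hq a ha, map_mul]
    · have h1 := h (π y) _ (Subgroup.mem_map_of_mem π ha)
      rw [← mul_inv_eq_iff_eq_mul, ← map_inv, ← map_mul, ← map_mul] at h1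
      rw [← mul_inv_eq_iff_eq_mul]
      exact hinjF (LF.conj_mem ha y) ha h1
  refine no_homocyclic D' LF' hF' ?_ ?_ ?_ ?_
  · rintro _ ⟨a, ha, rfl⟩ _ ⟨c, hc, rfl⟩; rw [← map_mul, hab a ha c hc, map_mul]
  · have := Subgroup.card_mul_index ((zpowers z).subgroupOf Q)
    rw [Nat.card_congr (Subgroup.subgroupOfEquivOfLe hZQ).toEquiv, hQ, Nat.card_zpowers,
      orderOf_eq_prime hz2 hz1] at this
    rw [← Subgroup.relIndex_ker Q π, QuotientGroup.ker_mk', Subgroup.relIndex]
    omega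
  · rintro _ ⟨a, ha, rfl⟩; rw [← map_pow]; exact Subgroup.mem_map_of_mem π (hsq a ha)
  · rintro _ ⟨k, hk, rfl⟩
    obtain ⟨a, ha, rfl⟩ := hsurj k hk
    exact ⟨π a, Subgroup.mem_map_of_mem π ha, (map_pow π a 2).symm⟩

theorem rank_subgroup {p k : ℕ} {G : Type*} [Group G] (h : Cfsg.SectionalPRankLE p k G)
    (K : Subgroup G) : Cfsg.SectionalPRankLE p k K := by
  intro H N hN
  let e := H.equivMapOfInjective K.subtype K.subtype_injective
  haveI : (N.map e.toMonoidHom).Normal := Subgroup.Normal.map hN _ e.surjective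
  exact (CfsgLib.Base.pRankLE_congr (QuotientGroup.congr N (N.map e.toMonoidHom) e rfl)).2 (h _ _)

/-- A natural layer containing the squares of `Q` is impossible. -/
theorem no_eight_layer (D : Seven Y Q) {F : Subgroup Y} (LF : Layer Q F) (hF : Nat.card F = 8)
    (hFQ : F ≤ Q) (hsq : ∀ a ∈ Q, a ^ 2 ∈ F) (hV : ∃ y : Y, ∃ q ∈ Q, ⁅y, q⁆ ∉ F) : False := by
  classical
  haveI := D.normal
  haveI := LF.normal
  set π := QuotientGroup.mk' F with hπ
  have hπF : ∀ x, π x = 1 ↔ x ∈ F := fun x => QuotientGroup.eq_one_iff x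
  have hsurjπ := QuotientGroup.mk'_surjective F
  have DF := D.quot F hFQ
  have LK := top_layer D F hsq hV
  have hcard : Nat.card (Q.map π) * 8 = Nat.card Q := by
    have := Subgroup.card_mul_index (F.subgroupOf Q)
    rw [Nat.card_congr (Subgroup.subgroupOfEquivOfLe hFQ).toEquiv, hF] at this
    rw [← Subgroup.relIndex_ker Q π, QuotientGroup.ker_mk', Subgroup.relIndex]
    omega
  rcases LK.card_cases DF with ⟨h8, -⟩ | ⟨h16, -⟩
  · refine no_eight_eight D LF hF hFQ hsq hV ?_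
    rw [← hπ] at h8
    omega
  rw [← hπ] at h16
  have hQ : Nat.card Q = 128 := by omega
  by_cases hH : ∃ H : Subgroup (Y ⧸ F), H.Normal ∧ H ≤ Q.map π ∧ Nat.card H = 8
  · obtain ⟨H, hHn, hHK, hH8⟩ := hH
    set R := H.comap π with hRdef
    have hRn : R.Normal := hHn.comap π
    have hRQ : R ≤ Q := fun a ha => mem_of_map_mem F hFQ (hHK ha)
    have hFR : F ≤ R := fun a ha => by
      rw [hRdef, Subgroup.mem_comap, (hπF a).2 ha]; exact one_mem H
    have hRmap : R.map π = H := Subgroup.map_comap_eq_self_of_surjective hsurjπ H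
    have hR64 : Nat.card R = 64 := by
      have := Subgroup.card_mul_index (F.subgroupOf R)
      rw [Nat.card_congr (Subgroup.subgroupOfEquivOfLe hFR).toEquiv, hF] at this
      rw [← hRmap, ← Subgroup.relIndex_ker R π, QuotientGroup.ker_mk', Subgroup.relIndex] at hH8
      rw [hH8] at this
      omega
    have LH : Layer (Q.map π) (R.map π) := hRmap ▸ LK.sub DF h16 hHn hHK hH8
    obtain ⟨-, hsurj, hab⟩ := squares_iso D DF π hsurjπ le_rfl LF hF (QuotientGroup.ker_mk' F) hFR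
      hRn (by omega) LF.exp (fun u hu a ha => (LF.cent a (hRQ ha) u hu).symm)
      (fun a ha => hsq a (hRQ ha)) LH (by rw [hRmap]; exact hH8)
    obtain ⟨w, hwQ, hwR⟩ : ∃ w ∈ Q, w ∉ R := by
      by_contra h
      push Not at h
      have := Subgroup.card_le_of_le h
      omega
    have hidx : (R.subgroupOf Q).index = 2 := by
      have := Subgroup.card_mul_index (R.subgroupOf Q)
      rw [Nat.card_congr (Subgroup.subgroupOfEquivOfLe hRQ).toEquiv, hR64, hQ] at this
      omega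
    have hcoset : ∀ c ∈ Q, c ∉ R → w⁻¹ * c ∈ R := by
      intro c hc hcR
      have := Subgroup.mul_mem_iff_of_index_two hidx (a := (⟨w, hwQ⟩ : Q)⁻¹) (b := ⟨c, hc⟩)
      simp only [inv_mem_iff, Subgroup.mem_subgroupOf, Subgroup.coe_mul,
        InvMemClass.coe_inv] at this
      exact this.2 (iff_of_false hwR hcR)
    let ψ : Y ⧸ F → Y := fun z => if h : ∃ a ∈ R, π a = z then ⁅w, h.choose⁆ else 1
    have hψ : ∀ a ∈ R, ψ (π a) = ⁅w, a⁆ := by
      intro a ha
      have h : ∃ c ∈ R, π c = π a := ⟨a, ha, rfl⟩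
      show (if h : ∃ c ∈ R, π c = π a then ⁅w, h.choose⁆ else 1) = ⁅w, a⁆
      rw [dif_pos h]
      obtain ⟨hcR, hce⟩ := h.choose_spec
      have hu : h.choose⁻¹ * a ∈ F := QuotientGroup.eq.1 hce
      have e : ⁅w, h.choose * (h.choose⁻¹ * a)⁆ =
          ⁅w, h.choose⁆ * (h.choose * ⁅w, h.choose⁻¹ * a⁆ * h.choose⁻¹) := by
        simp only [commutatorElement_def]; group
      rw [mul_inv_cancel_left, commutatorElement_eq_one_iff_mul_comm.2 (LF.cent w hwQ _ hu),
        mul_one, mul_inv_cancel, mul_one] at e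
      exact e.symm
    have E : Equi π (R.map π) F ψ := by
      refine ⟨?_, ?_⟩
      · rintro _ ⟨a, ha, rfl⟩; rw [hψ a ha]; exact commutator_mem_of_sq hsq hwQ (hRQ ha)
      · rintro y _ ⟨a, ha, rfl⟩
        rw [← map_inv, ← map_mul, ← map_mul, hψ _ (hRn.conj_mem a ha y), hψ a ha]
        have hr : w⁻¹ * (y⁻¹ * w * y) ∈ R := by
          refine hcoset _ ?_ fun h => hwR ?_
          · have := D.normal.conj_mem w hwQ y⁻¹; rwa [inv_inv] at this
          · have := hRn.conj_mem _ h y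
            rwa [show y * (y⁻¹ * w * y) * y⁻¹ = w by group] at this
        set r := w⁻¹ * (y⁻¹ * w * y) with hr'
        have e : ⁅w, y * a * y⁻¹⁆ = y * ⁅w * r, a⁆ * y⁻¹ := by
          rw [hr', mul_inv_cancel_left]; simp only [commutatorElement_def]; group
        have e2 : ⁅w * r, a⁆ = w * ⁅r, a⁆ * w⁻¹ * ⁅w, a⁆ := by
          simp only [commutatorElement_def]; group
        rw [e, e2, commutatorElement_eq_one_iff_mul_comm.2 (hab r hr a ha), mul_one,
          mul_inv_cancel, one_mul]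
    let σ : Y ⧸ F → Y := fun z => if h : ∃ a ∈ R, π a = z then h.choose ^ 2 else 1
    have hσ : ∀ a ∈ R, σ (π a) = a ^ 2 := by
      intro a ha
      have h : ∃ c ∈ R, π c = π a := ⟨a, ha, rfl⟩
      show (if h : ∃ c ∈ R, π c = π a then h.choose ^ 2 else 1) = a ^ 2
      rw [dif_pos h]
      obtain ⟨hcR, hce⟩ := h.choose_spec
      have hu : h.choose⁻¹ * a ∈ F := QuotientGroup.eq.1 hce
      calc h.choose ^ 2 = h.choose ^ 2 * (h.choose⁻¹ * a) ^ 2 := by rw [LF.exp _ hu, mul_one]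
        _ = (h.choose * (h.choose⁻¹ * a)) ^ 2 :=
          (Commute.mul_pow (LF.cent _ (hRQ hcR) _ hu) 2).symm
        _ = a ^ 2 := by rw [mul_inv_cancel_left]
    have S : Equi π (R.map π) F σ := by
      refine ⟨?_, ?_⟩
      · rintro _ ⟨a, ha, rfl⟩; rw [hσ a ha]; exact hsq a (hRQ ha)
      · rintro y _ ⟨a, ha, rfl⟩
        rw [← map_inv, ← map_mul, ← map_mul, hσ _ (hRn.conj_mem a ha y), hσ a ha, conj_pow]
    have hσne : ¬ ∀ m ∈ R.map π, σ m = 1 := fun h => by
      obtain ⟨k, hk, hk1⟩ : ∃ k ∈ F, k ≠ 1 := by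
        by_contra h'
        push Not at h'
        rw [(Subgroup.eq_bot_iff_forall F).2 h', Subgroup.card_bot] at hF
        omega
      obtain ⟨a, ha, rfl⟩ := hsurj k hk
      exact hk1 ((hσ a ha).symm.trans (h _ (Subgroup.mem_map_of_mem π ha)))
    rcases E.eq_one_or_eq D DF LH LF (by rw [hRmap]; exact hH8) hF hsurjπ le_rfl S hσne with h | h
    · -- `Q` is abelian
      have hwc : ∀ a ∈ R, w * a = a * w := fun a ha => by
        rw [← commutatorElement_eq_one_iff_mul_comm, ← hψ a ha]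
        exact h _ (Subgroup.mem_map_of_mem π ha)
      have hRc : ∀ c ∈ Q, ∀ a ∈ R, c * a = a * c := by
        intro c hc a ha
        by_cases hcR : c ∈ R
        · exact hab c hcR a ha
        have hr := hcoset c hc hcR
        rw [← mul_inv_cancel_left w c, mul_assoc w, hab _ hr a ha, ← mul_assoc, hwc a ha, mul_assoc]
      refine no_abelian D LF hF hFQ hsq (fun a ha c hc => ?_) hQ
      by_cases hcR : c ∈ R
      · exact hRc a ha c hcR
      by_cases haR : a ∈ R
      · exact (hRc c hc a haR).symm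
      have hr := hcoset c hc hcR
      have hra := hcoset a ha haR
      have haw : a * w = w * a := by
        rw [← mul_inv_cancel_left w a, mul_assoc w, ← hwc _ hra]
      rw [← mul_inv_cancel_left w c, ← mul_assoc a w, haw, mul_assoc w a,
        hRc a ha _ hr, ← mul_assoc w]
    -- inversion: pass to the kernel of the determinant
    have hwi : ∀ a ∈ R, w * a * w⁻¹ = a ^ 3 := fun a ha => by
      have h1 : ⁅w, a⁆ = a ^ 2 := by
        rw [← hψ a ha, ← hσ a ha]; exact h _ (Subgroup.mem_map_of_mem π ha)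
      rw [pow_succ, ← h1, commutatorElement_def]; group
    obtain ⟨u, hu, hu1⟩ : ∃ u ∈ F, u ≠ 1 := by
      by_contra h'
      push Not at h'
      rw [(Subgroup.eq_bot_iff_forall F).2 h', Subgroup.card_bot] at hF
      omega
    obtain ⟨v, hv, hv1, hvu⟩ : ∃ v ∈ F, v ≠ 1 ∧ v ≠ u := by
      by_contra h'
      push Not at h'
      have hle : F ≤ zpowers u := fun x hx => by
        by_cases hx1 : x = 1
        · rw [hx1]; exact one_mem _
        · rw [h' x hx hx1]; exact mem_zpowers u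
      have := Subgroup.card_le_of_le hle
      have := Nat.le_of_dvd (by norm_num) (orderOf_dvd_of_pow_eq_one (LF.exp u hu))
      rw [Nat.card_zpowers, hF] at *
      omega
    obtain ⟨f, hf, hfi, -, -⟩ := exists_basis LF hF hu hu1 hv hv1 hvu
    choose b hbR hbf using fun i => hsurj (f i) (hf i)
    have C : Coord R b := ⟨hRn, hbR, hab, fun a ha => by
      rw [show 4 = 2 * 2 from rfl, pow_mul, LF.exp _ (hsq a (hRQ ha))], hR64,
      by rw [show (fun i => b i ^ 2) = f from funext hbf]; exact hfi⟩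
    choose m hm using C.exists_mat
    have hone : m 1 = fun i => (Pi.single i 1 : Fin 3 → ZMod 4) := C.mat_unique (hm 1) fun x => by
      rw [one_mul, inv_one, mul_one]
      congr 1
      funext j
      fin_cases j <;> simp [lin]
    have hmul : ∀ x x', m (x * x') = fun i => lin (m x) (m x' i) := fun x x' =>
      C.mat_unique (hm (x * x')) fun p => by
        rw [show x * x' * comb4 b p * (x * x')⁻¹ = x * (x' * comb4 b p * x'⁻¹) * x⁻¹ by group,
          hm, hm]
        congr 1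
        funext j
        simp only [lin]
        ring
    let d₀ : Y →* ZMod 4 :=
      { toFun := fun x => det3 (m x)
        map_one' := by rw [hone]; decide
        map_mul' := fun x x' => by rw [hmul, det3_lin] }
    let d : Y →* (ZMod 4)ˣ := d₀.toHomUnits
    have hdw : d w ≠ 1 := fun e => by
      have e' : det3 (m w) = 1 := congrArg (fun u : (ZMod 4)ˣ => (u : ZMod 4)) e
      rw [C.mat_unique (hm w) (M' := fun i => (Pi.single i 3 : Fin 3 → ZMod 4)) fun p => ?_] at e'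
      · exact absurd e' (by decide)
      rw [hwi _ (C.comb4_mem p), pow_succ, pow_two, ← C.comb4_add, ← C.comb4_add]
      congr 1
      funext j
      fin_cases j <;> simp [lin] <;> ring
    have hdR : ∀ a ∈ R, d a = 1 := fun a ha => Units.ext (by
      show det3 (m a) = 1
      rw [C.mat_unique (hm a) (M' := fun i => (Pi.single i 1 : Fin 3 → ZMod 4)) fun p => by
        rw [hab a ha _ (C.comb4_mem p), mul_inv_cancel_right]
        congr 1
        funext j
        fin_cases j <;> simp [lin]]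
      decide)
    have htwo : ∀ u u' : (ZMod 4)ˣ, u ≠ 1 → u' ≠ 1 → u * u' = 1 := by decide
    set Y' := d.ker with hY'
    have hRY : R ≤ Y' := fun a ha => MonoidHom.mem_ker.2 (hdR a ha)
    have hQY : ∀ c ∈ Q, c ∈ Y' → c ∈ R := fun c hc hcY => by
      by_contra hcR
      apply hdw
      have h1 : d (w⁻¹ * c) = 1 := hdR _ (hcoset c hc hcR)
      rwa [map_mul, MonoidHom.mem_ker.1 hcY, mul_one, map_inv, inv_eq_one] at h1
    have hsplit : ∀ y : Y, ∃ x ∈ Y', ∃ q ∈ Q, y = x * q := by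
      intro y
      by_cases hy : d y = 1
      · exact ⟨y, hy, 1, one_mem Q, (mul_one y).symm⟩
      · refine ⟨y * w, MonoidHom.mem_ker.2 (by rw [map_mul]; exact htwo _ _ hy hdw), w⁻¹,
          inv_mem hwQ, (mul_inv_cancel_right y w).symm⟩
    have D' : Seven Y' (R.subgroupOf Y') := by
      refine ⟨hRn.subgroupOf Y', D.two.of_injective
        ((Y'.subtype.comp (R.subgroupOf Y').subtype).codRestrict Q fun a => hRQ a.2) ?_,
        rank_subgroup D.rank Y', ?_, fun N hN hRN => ?_⟩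
      · intro a c e
        exact Subtype.ext (Subtype.ext (congrArg Subtype.val e :))
      · have h1 := Subgroup.card_mul_index (R.subgroupOf Y')
        rw [Nat.card_congr (Subgroup.subgroupOfEquivOfLe hRY).toEquiv, hR64] at h1
        have h2 := Subgroup.card_mul_index Y'
        have h3 := Subgroup.card_mul_index Q
        rw [hQ, D.index] at h3
        have h4 : Y'.index = 2 := by
          rw [hY', Subgroup.index_ker]
          have hle : Nat.card d.range ≤ 2 := (Subgroup.card_le_card_group _).trans (by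
            rw [Nat.card_eq_fintype_card]; decide)
          have : 1 < Nat.card d.range := Subgroup.one_lt_card_iff_ne_bot _ |>.2 fun e => hdw
            (Subgroup.mem_bot.1 (e ▸ (⟨w, rfl⟩ : d w ∈ d.range)))
          omega
        rw [h4] at h2
        omega
      · set M := N.map Y'.subtype ⊔ Q with hM
        have hMn : M.Normal := by
          refine ⟨fun a ha y => ?_⟩
          obtain ⟨x, hx, q, hq, rfl⟩ := hsplit y
          have hqM : q ∈ M := Subgroup.mem_sup_right hq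
          have h1 : q * a * q⁻¹ ∈ M := mul_mem (mul_mem hqM ha) (inv_mem hqM)
          obtain ⟨_, ⟨n, hn, rfl⟩, c, hc, e⟩ := Subgroup.mem_sup_of_normal_right.1 h1
          rw [show x * q * a * (x * q)⁻¹ = x * (q * a * q⁻¹) * x⁻¹ by group, ← e, ← conj_mul]
          exact mul_mem (Subgroup.mem_sup_left ⟨_, hN.conj_mem n hn ⟨x, hx⟩, rfl⟩)
            (Subgroup.mem_sup_right (D.normal.conj_mem c hc x))
        rcases D.simple M hMn le_sup_right with h | h
        · left
          refine le_antisymm (fun n hn => Subgroup.mem_subgroupOf.2 ?_) hRN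
          exact hQY _ (h ▸ Subgroup.mem_sup_left ⟨n, hn, rfl⟩) n.2
        · right
          rw [eq_top_iff]
          intro x _
          have hxM : (x : Y) ∈ M := h ▸ Subgroup.mem_top _
          obtain ⟨_, ⟨n, hn, rfl⟩, c, hc, e⟩ := Subgroup.mem_sup_of_normal_right.1 hxM
          have hcY : c ∈ Y' := by
            rw [show c = (n : Y)⁻¹ * x by rw [← e]; simp]
            exact mul_mem (inv_mem n.2) x.2
          have : (⟨c, hcY⟩ : Y') ∈ N := hRN (Subgroup.mem_subgroupOf.2 (hQY c hc hcY))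
          rw [show x = n * ⟨c, hcY⟩ from Subtype.ext e.symm]
          exact mul_mem hn this
    haveI := D'.normal
    have LF' : Layer (R.subgroupOf Y') (F.subgroupOf Y') := by
      refine ⟨LF.normal.subgroupOf Y', fun a ha c hc => Subtype.ext (LF.comm _
        (Subgroup.mem_subgroupOf.1 ha) _ (Subgroup.mem_subgroupOf.1 hc)),
        fun a ha => Subtype.ext (LF.exp _ (Subgroup.mem_subgroupOf.1 ha)),
        fun q hq a ha => Subtype.ext (LF.cent _ (hRQ (Subgroup.mem_subgroupOf.1 hq)) _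
          (Subgroup.mem_subgroupOf.1 ha)), fun h' => LF.moved fun y a ha => ?_⟩
      obtain ⟨x, hx, q, hq, rfl⟩ := hsplit y
      have h1 : x * a = a * x :=
        congrArg Subtype.val (h' ⟨x, hx⟩ ⟨a, hRY (hFR ha)⟩ (Subgroup.mem_subgroupOf.2 ha))
      rw [mul_assoc, LF.cent q hq a ha, ← mul_assoc, h1, mul_assoc]
    refine no_eight_eight D' LF' ?_ (fun a ha => Subgroup.mem_subgroupOf.2
      (hFR (Subgroup.mem_subgroupOf.1 ha))) (fun a ha => Subgroup.mem_subgroupOf.2
      (hsq _ (hRQ (Subgroup.mem_subgroupOf.1 ha)))) ?_ ?_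
    · rw [Nat.card_congr (Subgroup.subgroupOfEquivOfLe (hFR.trans hRY)).toEquiv, hF]
    · by_contra hcon
      push Not at hcon
      refine LF.moved fun y k hk => ?_
      obtain ⟨x, hx, q, hq, rfl⟩ := hsplit y
      obtain ⟨a, ha, rfl⟩ := hsurj k hk
      have h1 : ⁅x, a⁆ ∈ F := Subgroup.mem_subgroupOf.1
        (hcon ⟨x, hx⟩ ⟨a, hRY ha⟩ (Subgroup.mem_subgroupOf.2 ha))
      have h2 : x * a ^ 2 * x⁻¹ = a ^ 2 := by
        rw [← conj_pow, show x * a * x⁻¹ = ⁅x, a⁆ * a by rw [commutatorElement_def]; group,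
          Commute.mul_pow (LF.cent a (hRQ ha) _ h1).symm, LF.exp _ h1, one_mul]
      rw [mul_assoc, LF.cent q hq _ hk, ← mul_assoc, mul_inv_eq_iff_eq_mul.1 h2, mul_assoc]
    · rw [Nat.card_congr (Subgroup.subgroupOfEquivOfLe hRY).toEquiv, hR64]
  -- no invariant hyperplane: a fixed point `z` of the top
  obtain ⟨zb, hzb, hzb1, hzbc⟩ := (fixed_or_hyperplane LK DF h16).resolve_right hH
  set S := zpowers zb with hSdef
  haveI : S.Normal := ⟨fun a ha y => by
    obtain ⟨i, rfl⟩ := ha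
    show y * zb ^ i * y⁻¹ ∈ S
    rw [(show Commute y zb from hzbc y).zpow_right i |>.eq, mul_inv_cancel_right]
    exact zpow_mem (mem_zpowers zb) i⟩
  have hSK : S ≤ Q.map π := zpowers_le.2 hzb
  have hS2 : Nat.card S = 2 := by
    rw [Nat.card_zpowers, orderOf_eq_prime (LK.exp zb hzb) hzb1]
  have hSfix : ∀ y : Y ⧸ F, ∀ s ∈ S, y * s = s * y := by
    rintro y s ⟨i, rfl⟩
    exact (show Commute y zb from hzbc y).zpow_right i
  obtain ⟨LM0, hM80⟩ := natural_quot LK DF le_rfl h16 S hSK hS2 hSfix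
  set π' : Y →* (Y ⧸ F) ⧸ S := (QuotientGroup.mk' S).comp π with hπ'
  have hπ's : Function.Surjective π' := (QuotientGroup.mk'_surjective S).comp hsurjπ
  have hmap : (Q.map π).map (QuotientGroup.mk' S) = Q.map π' := Subgroup.map_map _ _ _
  have DM : Seven ((Y ⧸ F) ⧸ S) (Q.map π') := hmap ▸ DF.quot S hSK
  have LM : Layer (Q.map π') (Q.map π') := hmap ▸ LM0
  have hM8 : Nat.card (Q.map π') = 8 := hmap ▸ hM80
  set U := π'.ker with hU
  have hUmem : ∀ x, x ∈ U ↔ π x ∈ S := fun x =>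
    MonoidHom.mem_ker.trans (QuotientGroup.eq_one_iff (π x))
  haveI hUn : U.Normal := inferInstance
  have hUQ : U ≤ Q := fun x hx => mem_of_map_mem F hFQ (hSK ((hUmem x).1 hx))
  have hFU : F ≤ U := fun x hx => (hUmem x).2 (by rw [(hπF x).2 hx]; exact one_mem S)
  have hU16 : Nat.card U = 16 := by
    have := Subgroup.card_mul_index (U.subgroupOf Q)
    rw [Nat.card_congr (Subgroup.subgroupOfEquivOfLe hUQ).toEquiv, hQ] at this
    rw [← Subgroup.relIndex_ker Q π', Subgroup.relIndex] at hM8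
    rw [hM8] at this
    omega
  have hS1 : ∀ x ∈ S, x = 1 ∨ x = zb := by
    intro x hx
    by_cases hx1 : x = 1
    · exact Or.inl hx1
    obtain ⟨w, -, huniq⟩ := (Nat.card_eq_two_iff' (1 : S)).1 hS2
    have h1 := congrArg Subtype.val (huniq ⟨x, hx⟩ fun e => hx1 (congrArg Subtype.val e))
    have h2 := congrArg Subtype.val (huniq ⟨zb, mem_zpowers zb⟩ fun e => hzb1 (congrArg Subtype.val e))
    exact Or.inr (h1.trans h2.symm)
  have hUF : ∀ x ∈ U, x ∉ F → π x = zb := fun x hx hxF =>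
    (hS1 _ ((hUmem x).1 hx)).resolve_left fun e => hxF ((hπF x).1 e)
  have hUdiff : ∀ x ∈ U, ∀ c ∈ U, x ∉ F → c ∉ F → x⁻¹ * c ∈ F := fun x hx c hc hxF hcF => by
    rw [← hπF, map_mul, map_inv, hUF x hx hxF, hUF c hc hcF, inv_mul_cancel]
  have hUexp : ∀ x ∈ U, x ^ 2 = 1 := by
    intro x hx
    by_cases hxF : x ∈ F
    · exact LF.exp x hxF
    refine LF.fixed_eq_one D hF (hsq x (hUQ hx)) fun y => ?_
    have hc : y * x * y⁻¹ ∈ U := hUn.conj_mem x hx y
    have hcF : y * x * y⁻¹ ∉ F := fun h => hxF (by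
      have := LF.conj_mem h y⁻¹
      rwa [show y⁻¹ * (y * x * y⁻¹) * y⁻¹⁻¹ = x by group] at this)
    have hd := hUdiff x hx _ hc hxF hcF
    set k := x⁻¹ * (y * x * y⁻¹) with hk
    rw [← mul_inv_eq_iff_eq_mul, ← conj_pow, show y * x * y⁻¹ = x * k by rw [hk, mul_inv_cancel_left],
      Commute.mul_pow (LF.cent x (hUQ hx) k hd), LF.exp k hd, mul_one]
  have hUab : ∀ x ∈ U, ∀ c ∈ U, x * c = c * x := fun x hx c hc => mul_comm_of_sq (by
    rw [hUexp x hx, hUexp c hc, hUexp _ (mul_mem hx hc), mul_one])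
  obtain ⟨u, hu, huF⟩ : ∃ u ∈ U, u ∉ F := by
    by_contra h
    push Not at h
    have := Subgroup.card_le_of_le h
    omega
  let ψ : (Y ⧸ F) ⧸ S → Y := fun z => if h : ∃ a ∈ Q, π' a = z then ⁅u, h.choose⁆ else 1
  have hψ : ∀ a ∈ Q, ψ (π' a) = ⁅u, a⁆ := by
    intro a ha
    have h : ∃ c ∈ Q, π' c = π' a := ⟨a, ha, rfl⟩
    show (if h : ∃ c ∈ Q, π' c = π' a then ⁅u, h.choose⁆ else 1) = ⁅u, a⁆
    rw [dif_pos h]
    obtain ⟨hcR, hce⟩ := h.choose_spec
    have hv : h.choose⁻¹ * a ∈ U := (MonoidHom.eq_iff π').1 hce.symm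
    have e : ⁅u, h.choose * (h.choose⁻¹ * a)⁆ =
        ⁅u, h.choose⁆ * (h.choose * ⁅u, h.choose⁻¹ * a⁆ * h.choose⁻¹) := by
      simp only [commutatorElement_def]; group
    rw [mul_inv_cancel_left, commutatorElement_eq_one_iff_mul_comm.2 (hUab u hu _ hv),
      mul_one, mul_inv_cancel, mul_one] at e
    exact e.symm
  have hother : ∀ c ∈ U, c ∉ F → ∀ a ∈ Q, ⁅c, a⁆ = ⁅u, a⁆ := by
    intro c hc hcF a ha
    have hd := hUdiff u hu c hc huF hcF
    conv_lhs => rw [← mul_inv_cancel_left u c]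
    rw [show ⁅u * (u⁻¹ * c), a⁆ = u * ⁅u⁻¹ * c, a⁆ * u⁻¹ * ⁅u, a⁆ by
      simp only [commutatorElement_def]; group,
      commutatorElement_eq_one_iff_mul_comm.2 (LF.cent a ha _ hd).symm, mul_one, mul_inv_cancel,
      one_mul]
  have E : Equi π' (Q.map π') F ψ := by
    refine ⟨?_, ?_⟩
    · rintro _ ⟨a, ha, rfl⟩; rw [hψ a ha]; exact commutator_mem_of_sq hsq (hUQ hu) ha
    · rintro y _ ⟨a, ha, rfl⟩
      rw [← map_inv, ← map_mul, ← map_mul, hψ _ (D.normal.conj_mem a ha y), hψ a ha]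
      have hc : y⁻¹ * u * y ∈ U := by
        have := hUn.conj_mem u hu y⁻¹
        rwa [inv_inv] at this
      have hcF : y⁻¹ * u * y ∉ F := fun h => huF (by
        have := LF.conj_mem h y
        rwa [show y * (y⁻¹ * u * y) * y⁻¹ = u by group] at this)
      rw [← hother _ hc hcF a ha]
      simp only [commutatorElement_def]; group
  rcases E.trivial_or_iso D DM LM LF hM8 hF hπ's le_rfl with h | ⟨hne, hsurjψ, hmul⟩
  · have hUcen : ∀ x ∈ U, ∀ a ∈ Q, x * a = a * x := by
      intro x hx a ha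
      by_cases hxF : x ∈ F
      · exact (LF.cent a ha x hxF).symm
      rw [← commutatorElement_eq_one_iff_mul_comm, hother x hx hxF a ha, ← hψ a ha]
      exact h _ (Subgroup.mem_map_of_mem π' ha)
    obtain ⟨-, -, hab⟩ := squares_iso D DM π' hπ's le_rfl LF hF hU.symm hUQ D.normal (by omega)
      hUexp hUcen hsq LM hM8
    exact no_abelian D LF hF hFQ hsq hab hQ
  -- a nontrivial pairing with `z`
  obtain ⟨p, hp, hp1⟩ : ∃ p ∈ Q.map π', p ≠ 1 := by
    by_contra h'
    push Not at h'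
    rw [(Subgroup.eq_bot_iff_forall _).2 h', Subgroup.card_bot] at hM8
    omega
  obtain ⟨p', hp', hp1', hpp⟩ : ∃ p' ∈ Q.map π', p' ≠ 1 ∧ p' ≠ p := by
    by_contra h'
    push Not at h'
    have hle : Q.map π' ≤ zpowers p := fun x hx => by
      by_cases hx1 : x = 1
      · rw [hx1]; exact one_mem _
      · rw [h' x hx hx1]; exact mem_zpowers p
    have := Subgroup.card_le_of_le hle
    have := Nat.le_of_dvd (by norm_num) (orderOf_dvd_of_pow_eq_one (LM.exp p hp))
    rw [Nat.card_zpowers, hM8] at *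
    omega
  obtain ⟨B, hB, hBi, -, -⟩ := exists_basis LM hM8 hp hp1 hp' hp1' hpp
  choose v hvQ hvB using hB
  obtain rfl : (fun i => π' (v i)) = B := funext hvB
  obtain ⟨yb, hyb⟩ := LM.exists_lin DM hM8 (fun i => Subgroup.mem_map_of_mem π' (hvQ i)) hBi
    companion companion_indep
  obtain ⟨y, rfl⟩ := hπ's yb
  obtain ⟨gb, hgb⟩ := LM.exists_lin DM hM8 (fun i => Subgroup.mem_map_of_mem π' (hvQ i)) hBi
    tri tri_indep
  obtain ⟨g, rfl⟩ := hπ's gb
  have hBK : ∀ i, π' (v i) ∈ Q.map π' := fun i => Subgroup.mem_map_of_mem π' (hvQ i)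
  have hback : ∀ x, π' x ∈ Q.map π' → x ∈ Q := by
    rintro x ⟨q, hq, he⟩
    have := mul_mem hq (hUQ ((MonoidHom.eq_iff π').1 he.symm))
    rwa [mul_inv_cancel_left] at this
  have hy4 : y ^ 4 ∈ Q := hback _ (LM.mem_of_fix DM fun k hk => by
    obtain ⟨x, rfl⟩ := comb_surjective LM hBK hBi hM8 hk
    have e : ∀ x, lin companion (lin companion (lin companion (lin companion x))) = x := by decide
    rw [← mul_inv_eq_iff_eq_mul, map_pow, show π' y ^ 4 = π' y ^ 2 * π' y ^ 2 by rw [← pow_add],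
      show π' y ^ 2 * π' y ^ 2 * comb (fun i => π' (v i)) x * (π' y ^ 2 * π' y ^ 2)⁻¹ =
        π' y ^ 2 * (π' y ^ 2 * comb (fun i => π' (v i)) x * (π' y ^ 2)⁻¹) * (π' y ^ 2)⁻¹ by group,
      conj_sq (π' y) (comb (fun i => π' (v i)) x), hyb, hyb, conj_sq, hyb, hyb, e])
  have hg3 : g ^ 3 ∈ Q := hback _ (LM.mem_of_fix DM fun k hk => by
    obtain ⟨x, rfl⟩ := comb_surjective LM hBK hBi hM8 hk
    have e : ∀ x, lin tri (lin tri (lin tri x)) = x := by decide
    rw [← mul_inv_eq_iff_eq_mul, map_pow, conj_cube, hgb, hgb, hgb, e])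
  have hb2 : comb (fun i => π' (v i)) ![0, 0, 1] = π' (v 2) := by
    simp [comb, show (1 : ZMod 2).val = 1 from rfl]
  have hfix2 : ∀ x : Y, π' x * π' (v 2) * (π' x)⁻¹ = π' (v 2) → ⁅x, v 2⁆ ∈ U := fun x hx => by
    rw [hU, MonoidHom.mem_ker, map_commutatorElement, commutatorElement_def, hx, mul_inv_cancel]
  have hyv : ⁅y, v 2⁆ ∈ U := hfix2 y (by
    rw [← hb2, hyb, show lin companion ![0, 0, 1] = ![0, 0, 1] by decide])
  have hgv2 : π' g * π' (v 2) * (π' g)⁻¹ = π' (v 2) := by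
    rw [← hb2, hgb, show lin tri ![0, 0, 1] = ![0, 0, 1] by decide]
  have hgv : ⁅g, v 2⁆ ∈ U := hfix2 g hgv2
  have hyvF : ⁅y, v 2⁆ ∉ F := fun h => hH (hyperplane_of_fix LK DF le_rfl h16 S hSK hS2 hSfix
    (b := fun i => π (v i)) (fun i => Subgroup.mem_map_of_mem π (hvQ i)) hBi
    (y := π y) (by rw [← map_pow]; exact Subgroup.mem_map_of_mem π hy4) hyb (by
      rw [← commutatorElement_eq_one_iff_mul_comm, ← map_commutatorElement, hπF]
      exact h))
  set a := v 2 ^ 2 with ha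
  have haF : a ∈ F := hsq _ (hvQ 2)
  set c := ψ (π' (v 2)) with hc
  have hconjsq : ∀ x : Y, ⁅x, v 2⁆ ∈ U → ⁅x, v 2⁆ ∉ F → x * a * x⁻¹ = c * a := by
    intro x hx hxF
    set w := ⁅x, v 2⁆ with hw
    have hwi : w⁻¹ = w := inv_eq_of_mul_eq_one_right (by rw [← pow_two, hUexp w hx])
    rw [ha, ← conj_pow, show x * v 2 * x⁻¹ = w * v 2 by rw [hw, commutatorElement_def]; group, hc,
      hψ _ (hvQ 2), ← hother w hx hxF _ (hvQ 2), commutatorElement_def, hwi]
    simp only [pow_two]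
    group
  have hfixa : g * a * g⁻¹ = a := by
    by_cases hgF : ⁅g, v 2⁆ ∈ F
    · rw [ha, ← conj_pow, show g * v 2 * g⁻¹ = ⁅g, v 2⁆ * v 2 by
        rw [commutatorElement_def]; group, Commute.mul_pow (LF.cent _ (hvQ 2) _ hgF).symm,
        LF.exp _ hgF, one_mul]
    exfalso
    have h1 := hconjsq g hgv hgF
    have h2 : g * c * g⁻¹ = c := by
      rw [hc, ← E.conj g _ (hBK 2), hgv2]
    have h3 : g ^ 3 * a * (g ^ 3)⁻¹ = a := by rw [LF.cent _ hg3 a haF, mul_inv_cancel_right]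
    have hcF : c ∈ F := E.mem _ (hBK 2)
    have step : ∀ x, g * (c * x) * g⁻¹ = c * (g * x * g⁻¹) := fun x => by
      rw [← conj_mul, h2]
    rw [conj_cube, h1, step, h1, ← mul_assoc c c, ← pow_two, LF.exp c hcF, one_mul, h1,
      mul_eq_right] at h3
    have h4 : π' (v 2) = 1 := hne _ (hBK 2) h3
    rw [← hb2] at h4
    exact absurd (hBi _ h4) (by decide)
  obtain ⟨m, hm, hma⟩ := hsurjψ a haF
  obtain ⟨x, rfl⟩ := comb_surjective LM hBK hBi hM8 hm
  have hinj : ∀ p ∈ Q.map π', ∀ q ∈ Q.map π', ψ p = ψ q → p = q := fun p hp q hq e => by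
    have h1 : ψ (p * q) = 1 := by
      rw [hmul p hp q hq, e, ← pow_two, LF.exp _ (E.mem q hq)]
    have h2 := hne _ (mul_mem hp hq) h1
    rw [mul_eq_one_iff_eq_inv.1 h2, LM.inv_eq hq]
  have h1 : lin tri x = x := comb_injective LM hBK hBi (hinj _ (comb_mem hBK _) _ (comb_mem hBK _) (by
    rw [← hgb, E.conj g _ (comb_mem hBK _), hma, hfixa]))
  have e : ∀ x, lin tri x = x → lin companion x = x := by decide
  have h2 : y * a * y⁻¹ = a := by
    rw [← hma, ← E.conj y _ (comb_mem hBK _), hyb, e x h1]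
  rw [hconjsq y hyv hyvF, mul_eq_right] at h2
  have h4 : π' (v 2) = 1 := hne _ (hBK 2) h2
  rw [← hb2] at h4
  exact absurd (hBi _ h4) (by decide)

end CfsgLib.Small.ConstrainedSeven
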