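import Cfsg.Agent.Lib.Small.ConstrainedSeven.Module

/-!
# Equivariant maps between layers of order eight

An equivariant map into a layer is trivial or an isomorphism, and any two nontrivial ones agree.
-/

set_option autoImplicit false
set_option linter.unusedSectionVars false
set_option linter.style.haveILetI false

namespace CfsgLib.Small.ConstrainedSeven

open Subgroup

variable {Y Z : Type*} [Group Y] [Finite Y] [Group Z] [Finite Z] {Q : Subgroup Y}
  {QZ : Subgroup Z}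

theorem Indep.third {Y : Type*} [Group Y] [Finite Y] {Q K : Subgroup Y} (L : Layer Q K)
    {B : Fin 3 → Y} (hi : Indep B) (hB : ∀ i, B i ∈ K) :
    B 2 ≠ 1 ∧ B 2 ≠ B 0 ∧ B 2 ≠ B 1 ∧ B 2 ≠ B 0 * B 1 := by
  have hinj := comb_injective L hB hi
  have h1 : (1 : ZMod 2).val = 1 := rfl
  refine ⟨fun e => ?_, fun e => ?_, fun e => ?_, fun e => ?_⟩
  · exact absurd (@hinj ![0, 0, 1] 0 (by simp [comb, e, h1])) (by decide)
  · exact absurd (@hinj ![0, 0, 1] ![1, 0, 0] (by simp [comb, e, h1])) (by decide)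
  · exact absurd (@hinj ![0, 0, 1] ![0, 1, 0] (by simp [comb, e, h1])) (by decide)
  · exact absurd (@hinj ![0, 0, 1] ![1, 1, 0] (by simp [comb, e, h1])) (by decide)

/-- A map commuting with conjugation. -/
structure Equi (π : Y →* Z) (M : Subgroup Z) (M' : Subgroup Y) (f : Z → Y) : Prop where
  mem : ∀ m ∈ M, f m ∈ M'
  conj : ∀ y : Y, ∀ m ∈ M, f (π y * m * (π y)⁻¹) = y * f m * y⁻¹

variable {π : Y →* Z} {M : Subgroup Z} {M' : Subgroup Y} {f g : Z → Y}

theorem Equi.map_one (E : Equi π M M' f) (D : Seven Y Q) (L' : Layer Q M')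
    (h' : Nat.card M' = 8) : f 1 = 1 := by
  refine L'.fixed_eq_one D h' (E.mem 1 (one_mem M)) fun y => ?_
  have h := E.conj y 1 (one_mem M)
  rw [mul_one, mul_inv_cancel, eq_mul_inv_iff_mul_eq] at h
  exact h.symm

/-- Values on nonidentity elements are conjugate. -/
theorem Equi.exists_eq_conj (E : Equi π M M' f) (DZ : Seven Z QZ) (L : Layer QZ M)
    (h : Nat.card M = 8) (hπ : Function.Surjective π) {u v : Z} (hu : u ∈ M) (hu1 : u ≠ 1)
    (hv : v ∈ M) (hv1 : v ≠ 1) : ∃ y : Y, π y * u * (π y)⁻¹ = v ∧ f v = y * f u * y⁻¹ := by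
  obtain ⟨z, hz⟩ := L.exists_conj_one DZ h hu hu1 hv hv1
  obtain ⟨y, rfl⟩ := hπ z
  exact ⟨y, hz, by rw [← E.conj y u hu, hz]⟩

/-- An equivariant map into a trivial layer is constant off the identity. -/
theorem Equi.const (E : Equi π M M' f) (DZ : Seven Z QZ) (L : Layer QZ M) (h : Nat.card M = 8)
    (hπ : Function.Surjective π) (hM' : ∀ y : Y, ∀ a ∈ M', y * a = a * y) {u v : Z}
    (hu : u ∈ M) (hu1 : u ≠ 1) (hv : v ∈ M) (hv1 : v ≠ 1) : f v = f u := by
  obtain ⟨y, -, hy⟩ := E.exists_eq_conj DZ L h hπ hu hu1 hv hv1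
  rw [hy, hM' y _ (E.mem u hu), mul_inv_cancel_right]

section

variable (D : Seven Y Q) (DZ : Seven Z QZ) (L : Layer QZ M) (L' : Layer Q M')
  (h : Nat.card M = 8) (h' : Nat.card M' = 8) (hπ : Function.Surjective π)
  (hQ : Q.map π ≤ QZ)
include D DZ L L' h h' hπ hQ

/-- An equivariant map is trivial or an isomorphism. -/
theorem Equi.trivial_or_iso (E : Equi π M M' f) :
    (∀ m ∈ M, f m = 1) ∨
      ((∀ m ∈ M, f m = 1 → m = 1) ∧ (∀ k ∈ M', ∃ m ∈ M, f m = k) ∧
        ∀ a ∈ M, ∀ b ∈ M, f (a * b) = f a * f b) := by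
  by_cases h0 : ∃ m ∈ M, m ≠ 1 ∧ f m = 1
  · left
    obtain ⟨u, hu, hu1, hfu⟩ := h0
    intro m hm
    by_cases hm1 : m = 1
    · rw [hm1, E.map_one D L' h']
    obtain ⟨y, -, hy⟩ := E.exists_eq_conj DZ L h hπ hu hu1 hm hm1
    rw [hy, hfu, mul_one, mul_inv_cancel]
  right
  push Not at h0
  have hne : ∀ m ∈ M, f m = 1 → m = 1 := fun m hm hf => by_contra fun hm1 => h0 m hm hm1 hf
  have hinj : ∀ u ∈ M, ∀ v ∈ M, u ≠ 1 → v ≠ 1 → f u = f v → u = v := by
    intro u hu v hv hu1 hv1 he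
    by_contra huv
    have hall : ∀ w ∈ M, w ≠ 1 → f w = f u := by
      intro w hw hw1
      by_cases hwu : w = u
      · rw [hwu]
      obtain ⟨z, hz1, hz2⟩ := L.exists_conj_two DZ h hu hu1 hv hv1 (Ne.symm huv) hu hu1 hw hw1 hwu
      obtain ⟨y, rfl⟩ := hπ z
      rw [← hz2, E.conj y v hv, ← he, ← E.conj y u hu, hz1]
    refine hu1 (hne u hu (L'.fixed_eq_one D h' (E.mem u hu) fun y => ?_))
    have hw : π y * u * (π y)⁻¹ ≠ 1 := fun e => hu1 (conj_eq_one_iff.1 e)
    have := hall _ (L.conj_mem hu (π y)) hw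
    rwa [E.conj y u hu, mul_inv_eq_iff_eq_mul] at this
  have hinj' : Function.Injective (fun m : M => (⟨f m, E.mem m m.2⟩ : M')) := by
    intro a b e
    have e' : f a = f b := congrArg Subtype.val e
    by_cases ha : (a : Z) = 1
    · rw [ha, E.map_one D L' h'] at e'
      exact Subtype.ext (ha.trans (hne _ b.2 e'.symm).symm)
    by_cases hb : (b : Z) = 1
    · rw [hb, E.map_one D L' h'] at e'
      exact absurd (hne _ a.2 e') ha
    exact Subtype.ext (hinj a a.2 b b.2 ha hb e')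
  have hbij := (Nat.bijective_iff_injective_and_card _).2 ⟨hinj', h.trans h'.symm⟩
  refine ⟨hne, fun k hk => ?_, fun a ha b hb => ?_⟩
  · obtain ⟨m, hm⟩ := hbij.2 ⟨k, hk⟩
    exact ⟨m, m.2, congrArg Subtype.val hm⟩
  by_cases ha1 : a = 1
  · rw [ha1, one_mul, E.map_one D L' h', one_mul]
  by_cases hb1 : b = 1
  · rw [hb1, mul_one, E.map_one D L' h', mul_one]
  by_cases hab : b = a
  · rw [hab, ← pow_two, ← pow_two, L.exp a ha, L'.exp _ (E.mem a ha), E.map_one D L' h']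
  have hab1 : a * b ≠ 1 := fun e => hab (by
    rw [mul_eq_one_iff_eq_inv.1 e, L.inv_eq hb])
  have haba : a * b ≠ a := fun e => hb1 (mul_left_cancel (e.trans (mul_one a).symm))
  have habb : a * b ≠ b := fun e => ha1 (mul_right_cancel (e.trans (one_mul b).symm))
  by_contra hne'
  -- a basis of the image is fixed by a transvection
  obtain ⟨c, hc, hc1, hca, hcb, hcab⟩ : ∃ c ∈ M, c ≠ 1 ∧ c ≠ a ∧ c ≠ b ∧ c ≠ a * b := by
    obtain ⟨B, hB, hBi, hB0, hB1⟩ := exists_basis L h ha ha1 hb hb1 hab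
    obtain ⟨h2, h20, h21, h201⟩ := hBi.third L hB
    exact ⟨B 2, hB 2, h2, hB0 ▸ h20, hB1 ▸ h21, hB0 ▸ hB1 ▸ h201⟩
  obtain ⟨z, hz⟩ := L.exists_conj DZ h (b := ![a, b, c]) (b' := ![a, b, a * c])
    (fun i => by fin_cases i <;> assumption)
    (indep_of L (fun i => by fin_cases i <;> assumption) ha1 hb1 hab hc1 hca hcb hcab)
    (fun i => by fin_cases i <;> first | assumption | exact mul_mem ha hc)
    (indep_of L (fun i => by fin_cases i <;> first | assumption | exact mul_mem ha hc) ha1 hb1 hab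
      (show a * c ≠ 1 from fun e => hca (by rw [← L.inv_eq hc, ← mul_eq_one_iff_eq_inv.1 e]))
      (show a * c ≠ a from fun e => hc1 (mul_left_cancel (e.trans (mul_one a).symm)))
      (show a * c ≠ b from fun e => hcab (by
        rw [← e, ← mul_assoc, ← pow_two, L.exp a ha, one_mul]))
      (show a * c ≠ a * b from fun e => hcb (mul_left_cancel e)))
  obtain ⟨y, rfl⟩ := hπ z
  have hza : π y * a * (π y)⁻¹ = a := hz 0
  have hzb : π y * b * (π y)⁻¹ = b := hz 1
  have hzab : π y * (a * b) * (π y)⁻¹ = a * b := by rw [← conj_mul, hza, hzb]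
  set B' : Fin 3 → Y := ![f a, f b, f (a * b)] with hB'def
  have hB' : ∀ i, B' i ∈ M' := fun i => by
    fin_cases i <;> first | exact E.mem a ha | exact E.mem b hb | exact E.mem _ (mul_mem ha hb)
  have hi' : Indep B' := indep_of L' hB' (fun e => ha1 (hne a ha e)) (fun e => hb1 (hne b hb e))
    (fun e => hab (hinj b hb a ha hb1 ha1 e)) (fun e => hab1 (hne _ (mul_mem ha hb) e))
    (fun e => haba (hinj _ (mul_mem ha hb) a ha hab1 ha1 e))
    (fun e => habb (hinj _ (mul_mem ha hb) b hb hab1 hb1 e)) hne'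
  have hfix : ∀ i, y * B' i * y⁻¹ = B' i := by
    intro i
    fin_cases i
    · show y * f a * y⁻¹ = f a; rw [← E.conj y a ha, hza]
    · show y * f b * y⁻¹ = f b; rw [← E.conj y b hb, hzb]
    · show y * f (a * b) * y⁻¹ = f (a * b); rw [← E.conj y _ (mul_mem ha hb), hzab]
  have hyQ : y ∈ Q := L'.mem_of_fix D fun k hk => by
    obtain ⟨v, rfl⟩ := comb_surjective L' hB' hi' h' hk
    rw [← mul_inv_eq_iff_eq_mul, comb_conj]
    simp only [hfix]
  have hzc : π y * c * (π y)⁻¹ = a * c := hz 2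
  rw [L.cent _ (hQ (Subgroup.mem_map_of_mem π hyQ)) c hc, mul_inv_cancel_right] at hzc
  exact ha1 (mul_right_cancel (hzc.symm.trans (one_mul c).symm))

/-- Nontrivial equivariant maps agree. -/
theorem Equi.eq_one_or_eq (E : Equi π M M' f) (G : Equi π M M' g)
    (hg : ¬ ∀ m ∈ M, g m = 1) : (∀ m ∈ M, f m = 1) ∨ ∀ m ∈ M, f m = g m := by
  obtain ⟨hgne, hgsurj, -⟩ := (G.trivial_or_iso D DZ L L' h h' hπ hQ).resolve_left hg
  have key : ∀ u ∈ M, u ≠ 1 → f u = 1 ∨ f u = g u := by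
    intro u hu hu1
    by_cases hfu : f u = 1
    · exact Or.inl hfu
    obtain ⟨v, hv, hv'⟩ := hgsurj _ (E.mem u hu)
    by_cases hvu : v = u
    · exact Or.inr (by rw [← hv', hvu])
    exfalso
    have hv1 : v ≠ 1 := fun e => hfu (by rw [← hv', e, G.map_one D L' h'])
    obtain ⟨B, hB, hBi, hB0, hB1⟩ := exists_basis L h hu hu1 hv hv1 hvu
    obtain ⟨hw1, hwu, hwv, -⟩ := hBi.third L hB
    rw [hB0] at hwu
    rw [hB1] at hwv
    obtain ⟨z, hz1, hz2⟩ :=
      L.exists_conj_two DZ h hu hu1 hv hv1 hvu hu hu1 (hB 2) hw1 hwu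
    obtain ⟨y, rfl⟩ := hπ z
    have e1 : g (B 2) = f u := by
      rw [← hz2, G.conj y v hv, hv', ← E.conj y u hu, hz1]
    have hiso := ((G.trivial_or_iso D DZ L L' h h' hπ hQ).resolve_left hg).2.2
    have : g (B 2 * v) = 1 := by
      rw [hiso _ (hB 2) v hv, e1, hv', ← pow_two, L'.exp _ (E.mem u hu)]
    exact hwv (by rw [mul_eq_one_iff_eq_inv.1 (hgne _ (mul_mem (hB 2) hv) this), L.inv_eq hv])
  by_cases hall : ∀ m ∈ M, f m = 1
  · exact Or.inl hall
  right
  push Not at hall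
  obtain ⟨u, hu, hfu⟩ := hall
  have hu1 : u ≠ 1 := fun e => hfu (by rw [e, E.map_one D L' h'])
  intro m hm
  by_cases hm1 : m = 1
  · rw [hm1, E.map_one D L' h', G.map_one D L' h']
  obtain ⟨z, hz⟩ := L.exists_conj_one DZ h hu hu1 hm hm1
  obtain ⟨y, rfl⟩ := hπ z
  rw [← hz, E.conj y u hu, G.conj y u hu, (key u hu hu1).resolve_left hfu]

end

end CfsgLib.Small.ConstrainedSeven
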