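import Cfsg.Agent.Lib.Small.ConstrainedSeven.Section

/-!
# Coordinates on a homocyclic normal subgroup of exponent four

An element acting as `companion` on the squares acts by the matrix `Bmat`, which is forced by
determinant one and order four.
-/

set_option autoImplicit false
set_option linter.unusedSectionVars false
set_option linter.style.haveILetI false

namespace CfsgLib.Small.ConstrainedSeven

open Subgroup

/-- Reduction modulo two. -/
def red (v : Fin 3 → ZMod 4) : Fin 3 → ZMod 2 := fun i => ((v i).val : ZMod 2)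

/-- The determinant of three columns. -/
def det3 {n : ℕ} (M : Fin 3 → Fin 3 → ZMod n) : ZMod n :=
  M 0 0 * (M 1 1 * M 2 2 - M 1 2 * M 2 1) - M 0 1 * (M 1 0 * M 2 2 - M 1 2 * M 2 0)
    + M 0 2 * (M 1 0 * M 2 1 - M 1 1 * M 2 0)

theorem det3_lin {n : ℕ} (M N : Fin 3 → Fin 3 → ZMod n) :
    det3 (fun i => lin M (N i)) = det3 M * det3 N := by
  simp only [det3, lin]
  ring

theorem red_add : ∀ v w : Fin 3 → ZMod 4, red (v + w) = red v + red w := by decide +kernel

theorem exists_two_mul : ∀ v : Fin 3 → ZMod 4, red v = 0 → ∃ w, w + w = v := by decide +kernel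

theorem two_mul_eq_zero : ∀ w : Fin 3 → ZMod 4, red w = 0 → w + w = 0 := by decide +kernel

theorem red_surjective : ∀ v : Fin 3 → ZMod 2, ∃ w, red w = v := by decide +kernel

/-- The action of an element of order four. -/
def Bmat : Fin 3 → Fin 3 → ZMod 4 := ![![1, 1, 0], ![0, 1, 1], ![0, 2, 3]]

/-- The action of its square. -/
def Tmat : Fin 3 → Fin 3 → ZMod 4 := ![![1, 2, 1], ![0, 3, 0], ![0, 0, 3]]

theorem lin_Bmat_sq : ∀ v, lin Bmat (lin Bmat v) = lin Tmat v := by decide +kernel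

theorem fixed_Bmat : ∀ v, lin Bmat v = v →
    ∃ k : ZMod 4, v + (fun i => k * ((![1, 0, 0] : Fin 3 → ZMod 4) i)) +
      lin Tmat (fun i => k * ((![1, 0, 0] : Fin 3 → ZMod 4) i)) = 0 := by decide +kernel

theorem column_unique : ∀ c : Fin 3 → ZMod 4, red c = ![0, 0, 1] →
    det3 ![![1, 1, 0], ![0, 1, 1], c] = 1 →
    (let L := lin ![![1, 1, 0], ![0, 1, 1], c]; L (L (L (L ![1, 0, 0]))) = ![1, 0, 0]) →
    c = ![0, 2, 3] := by decide +kernel

/-- The element with given coordinates. -/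
def comb4 {Y : Type*} [Group Y] (b : Fin 3 → Y) (v : Fin 3 → ZMod 4) : Y :=
  b 0 ^ (v 0).val * b 1 ^ (v 1).val * b 2 ^ (v 2).val

theorem comb4_conj {Y : Type*} [Group Y] (b : Fin 3 → Y) (v : Fin 3 → ZMod 4) (y : Y) :
    y * comb4 b v * y⁻¹ = comb4 (fun i => y * b i * y⁻¹) v := by
  simp only [comb4, conj_pow]
  group

/-- Coordinates on a homocyclic group of exponent four and rank three. -/
structure Coord {Y : Type*} [Group Y] (R : Subgroup Y) (b : Fin 3 → Y) : Prop where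
  normal : R.Normal
  mem : ∀ i, b i ∈ R
  comm : ∀ a ∈ R, ∀ c ∈ R, a * c = c * a
  exp : ∀ a ∈ R, a ^ 4 = 1
  card : Nat.card R = 64
  indep : Indep fun i => b i ^ 2

variable {Y : Type*} [Group Y] [Finite Y] {Q R : Subgroup Y} {b : Fin 3 → Y}

namespace Coord

variable (C : Coord R b)
include C

theorem comb4_mem (v : Fin 3 → ZMod 4) : comb4 b v ∈ R :=
  mul_mem (mul_mem (pow_mem (C.mem 0) _) (pow_mem (C.mem 1) _)) (pow_mem (C.mem 2) _)

theorem comb4_zero : comb4 b 0 = 1 := by simp [comb4]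

theorem comb4_add (v w : Fin 3 → ZMod 4) : comb4 b (v + w) = comb4 b v * comb4 b w := by
  have hc : ∀ i (a c : ZMod 4), b i ^ (a + c).val = b i ^ a.val * b i ^ c.val := by
    intro i a c
    rw [← pow_add, ZMod.val_add, ← pow_eq_pow_mod _ (C.exp _ (C.mem i))]
  simp only [comb4, Pi.add_apply, hc]
  have h10 := C.comm _ (pow_mem (C.mem 1) (v 1).val) _ (pow_mem (C.mem 0) (w 0).val)
  have h20 := C.comm _ (pow_mem (C.mem 2) (v 2).val) _
    (mul_mem (pow_mem (C.mem 0) (w 0).val) (pow_mem (C.mem 1) (w 1).val))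
  calc b 0 ^ (v 0).val * b 0 ^ (w 0).val * (b 1 ^ (v 1).val * b 1 ^ (w 1).val) *
        (b 2 ^ (v 2).val * b 2 ^ (w 2).val)
      = b 0 ^ (v 0).val * (b 0 ^ (w 0).val * b 1 ^ (v 1).val) * b 1 ^ (w 1).val *
        b 2 ^ (v 2).val * b 2 ^ (w 2).val := by group
    _ = b 0 ^ (v 0).val * b 1 ^ (v 1).val *
        ((b 0 ^ (w 0).val * b 1 ^ (w 1).val) * b 2 ^ (v 2).val) * b 2 ^ (w 2).val := by
        rw [← h10]; group
    _ = _ := by rw [← h20]; group

/-- The squares of a combination. -/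
theorem sq_comb4 (v : Fin 3 → ZMod 4) : comb4 b v ^ 2 = comb (fun i => b i ^ 2) (red v) := by
  have hpow : ∀ i (a : ZMod 4), (b i ^ 2) ^ ((a.val : ZMod 2)).val = (b i ^ a.val) ^ 2 := by
    intro i a
    have h4 := C.exp _ (C.mem i)
    rw [← pow_mul, ← pow_mul, ZMod.val_natCast, pow_eq_pow_mod _ h4,
      pow_eq_pow_mod (a.val * 2) h4]
    congr 1
    omega
  simp only [comb4, comb, red, hpow]
  rw [Commute.mul_pow (C.comm _ (mul_mem (pow_mem (C.mem 0) _) (pow_mem (C.mem 1) _)) _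
    (pow_mem (C.mem 2) _)), Commute.mul_pow (C.comm _ (pow_mem (C.mem 0) _) _
    (pow_mem (C.mem 1) _))]

theorem eq_zero_of_comb4 {v : Fin 3 → ZMod 4} (h : comb4 b v = 1) : v = 0 := by
  have hr : red v = 0 := C.indep _ (by rw [← C.sq_comb4, h, one_pow])
  obtain ⟨w, rfl⟩ := exists_two_mul v hr
  rw [C.comb4_add, ← pow_two] at h
  exact two_mul_eq_zero w (C.indep _ (by rw [← C.sq_comb4, h]))

theorem comb4_injective : Function.Injective (comb4 b) := by
  intro v w h
  have h1 : comb4 b (v - w) * comb4 b w = comb4 b v := by rw [← C.comb4_add, sub_add_cancel]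
  rw [h, mul_eq_right] at h1
  exact sub_eq_zero.1 (C.eq_zero_of_comb4 h1)

theorem comb4_surjective {x : Y} (hx : x ∈ R) : ∃ v, comb4 b v = x := by
  have hinj : Function.Injective (fun v => (⟨comb4 b v, C.comb4_mem v⟩ : R)) := fun v w h =>
    C.comb4_injective (congrArg Subtype.val h)
  have hbij := (Nat.bijective_iff_injective_and_card _).2 ⟨hinj, by
    rw [C.card, Nat.card_eq_fintype_card]; rfl⟩
  obtain ⟨v, hv⟩ := hbij.2 ⟨x, hx⟩
  exact ⟨v, congrArg Subtype.val hv⟩

theorem comb4_inv (v : Fin 3 → ZMod 4) : (comb4 b v)⁻¹ = comb4 b (-v) :=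
  inv_eq_of_mul_eq_one_right (by rw [← C.comb4_add, add_neg_cancel, C.comb4_zero])

theorem comb4_comb4 (M : Fin 3 → Fin 3 → ZMod 4) (v : Fin 3 → ZMod 4) :
    comb4 (fun i => comb4 b (M i)) v = comb4 b (lin M v) := by
  have hs : ∀ (n : ℕ) (w : Fin 3 → ZMod 4),
      comb4 b w ^ n = comb4 b (fun i => (n : ZMod 4) * w i) := by
    intro n w
    induction n with
    | zero =>
      rw [pow_zero, show (fun i : Fin 3 => ((0 : ℕ) : ZMod 4) * w i) = 0 from funext fun i => by
        simp, C.comb4_zero]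
    | succ n ih =>
      rw [pow_succ, ih, ← C.comb4_add]
      congr 1
      funext i
      simp only [Pi.add_apply, Nat.cast_succ]
      ring
  have : lin M v = (fun i => v 0 * M 0 i) + (fun i => v 1 * M 1 i) + fun i => v 2 * M 2 i := rfl
  rw [this, C.comb4_add, C.comb4_add]
  simp only [comb4] at hs ⊢
  rw [hs, hs, hs]
  simp [ZMod.natCast_zmod_val]

/-- The matrix of an element. -/
theorem exists_mat (y : Y) : ∃ M : Fin 3 → Fin 3 → ZMod 4,
    ∀ v, y * comb4 b v * y⁻¹ = comb4 b (lin M v) := by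
  have h : ∀ i, ∃ m, comb4 b m = y * b i * y⁻¹ := fun i =>
    C.comb4_surjective (C.normal.conj_mem _ (C.mem i) y)
  choose M hM using h
  refine ⟨M, fun v => ?_⟩
  rw [comb4_conj, ← C.comb4_comb4 M v]
  congr 1
  funext i
  exact (hM i).symm

theorem comb4_single : comb4 b ![1, 0, 0] = b 0 ∧ comb4 b ![0, 1, 0] = b 1 ∧
    comb4 b ![0, 0, 1] = b 2 := by
  have h1 : (1 : ZMod 4).val = 1 := rfl
  refine ⟨?_, ?_, ?_⟩ <;> simp [comb4, h1]

theorem mat_unique {y : Y} {M M' : Fin 3 → Fin 3 → ZMod 4}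
    (h : ∀ v, y * comb4 b v * y⁻¹ = comb4 b (lin M v))
    (h' : ∀ v, y * comb4 b v * y⁻¹ = comb4 b (lin M' v)) : M = M' := by
  funext i j
  have := congrFun (C.comb4_injective ((h (Pi.single i 1)).symm.trans (h' _))) j
  fin_cases i <;> simpa [lin, Pi.single_apply] using this

/-- Elements acting trivially on the group have determinant one, and so does everything. -/
theorem det_eq_one (D : Seven Y Q) (hcent : ∀ q ∈ Q, ∀ r ∈ R, q * r = r * q) {y : Y}
    {M : Fin 3 → Fin 3 → ZMod 4} (h : ∀ v, y * comb4 b v * y⁻¹ = comb4 b (lin M v)) :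
    det3 M = 1 := by
  choose m hm using C.exists_mat
  have hone : m 1 = fun i => (Pi.single i 1 : Fin 3 → ZMod 4) := C.mat_unique (hm 1) fun v => by
    rw [one_mul, inv_one, mul_one]
    congr 1
    funext j
    fin_cases j <;> simp [lin, Pi.single_apply]
  have hmul : ∀ x x', m (x * x') = fun i => lin (m x) (m x' i) := fun x x' =>
    C.mat_unique (hm (x * x')) fun v => by
      rw [show x * x' * comb4 b v * (x * x')⁻¹ = x * (x' * comb4 b v * x'⁻¹) * x⁻¹ by group, hm, hm]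
      congr 1
      funext j
      simp only [lin]
      ring
  let d : Y →* ZMod 4 :=
    { toFun := fun x => det3 (m x)
      map_one' := by rw [hone]; decide
      map_mul' := fun x x' => by rw [hmul, det3_lin] }
  have hd := D.hom_trivial d.toHomUnits (fun q hq => MonoidHom.mem_ker.2 (Units.ext (by
    show det3 (m q) = 1
    rw [C.mat_unique (hm q) (M' := fun i => (Pi.single i 1 : Fin 3 → ZMod 4)) fun v => by
      rw [hcent q hq _ (C.comb4_mem v), mul_inv_cancel_right]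
      congr 1
      funext j
      fin_cases j <;> simp [lin, Pi.single_apply]]
    decide))) y
  have := congrArg (fun u : (ZMod 4)ˣ => (u : ZMod 4)) hd
  rw [C.mat_unique h (hm y)]
  exact this

end Coord

/-- A frame: coordinates and an element acting by `Bmat`. -/
theorem exists_frame (D : Seven Y Q) {F : Subgroup Y} (LF : Layer Q F) (hF : Nat.card F = 8)
    (hn : R.Normal) (hcomm : ∀ a ∈ R, ∀ c ∈ R, a * c = c * a) (hR : Nat.card R = 64)
    (hsq : ∀ a ∈ R, a ^ 2 ∈ F) (hsurj : ∀ f ∈ F, ∃ a ∈ R, a ^ 2 = f)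
    (hcent : ∀ q ∈ Q, ∀ r ∈ R, q * r = r * q) :
    ∃ (b : Fin 3 → Y) (y : Y), Coord R b ∧ y ∉ Q ∧ y ^ 2 ∉ Q ∧ y ^ 4 ∈ Q ∧
      ∀ v, y * comb4 b v * y⁻¹ = comb4 b (lin Bmat v) := by
  obtain ⟨u, hu, hu1⟩ : ∃ u ∈ F, u ≠ 1 := by
    by_contra h
    push Not at h
    rw [(Subgroup.eq_bot_iff_forall F).2 h, Subgroup.card_bot] at hF
    omega
  obtain ⟨v, hv, hv1, hvu⟩ : ∃ v ∈ F, v ≠ 1 ∧ v ≠ u := by
    by_contra h
    push Not at h
    have hle : F ≤ zpowers u := fun w hw => by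
      by_cases hw1 : w = 1
      · rw [hw1]; exact one_mem _
      · rw [h w hw hw1]; exact mem_zpowers u
    have := Subgroup.card_le_of_le hle
    have := Nat.le_of_dvd (by norm_num) (orderOf_dvd_of_pow_eq_one (LF.exp u hu))
    rw [Nat.card_zpowers, hF] at *
    omega
  obtain ⟨f, hf, hfi, -, -⟩ := exists_basis LF hF hu hu1 hv hv1 hvu
  obtain ⟨y, hy⟩ := LF.exists_lin D hF hf hfi companion companion_indep
  have hf0 : comb f ![1, 0, 0] = f 0 := by simp [comb, show (1 : ZMod 2).val = 1 from rfl]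
  obtain ⟨x, hx, hxf⟩ := hsurj (f 0) (hf 0)
  set x1 := x⁻¹ * (y * x * y⁻¹) with hx1
  set x2 := x1⁻¹ * (y * x1 * y⁻¹) with hx2
  have hx1R : x1 ∈ R := mul_mem (inv_mem hx) (hn.conj_mem x hx y)
  have hx2R : x2 ∈ R := mul_mem (inv_mem hx1R) (hn.conj_mem x1 hx1R y)
  set b : Fin 3 → Y := ![x, x1, x2] with hb
  have hsqmul : ∀ a ∈ R, ∀ c ∈ R, (a * c) ^ 2 = a ^ 2 * c ^ 2 := fun a ha c hc =>
    Commute.mul_pow (hcomm a ha c hc) 2
  have hadd := comb_add LF hf
  have e1 : x1 ^ 2 = comb f ![0, 1, 0] := by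
    rw [hx1, hsqmul _ (inv_mem hx) _ (hn.conj_mem x hx y), conj_pow, inv_pow, hxf, ← hf0, hy,
      LF.inv_eq (comb_mem hf _), ← hadd]
    congr 1; decide
  have e2 : x2 ^ 2 = comb f ![0, 0, 1] := by
    rw [hx2, hsqmul _ (inv_mem hx1R) _ (hn.conj_mem x1 hx1R y), conj_pow, inv_pow, e1, hy,
      LF.inv_eq (comb_mem hf _), ← hadd]
    congr 1; decide
  have hbsq : (fun i => b i ^ 2) = f := by
    funext i
    fin_cases i
    · exact hxf
    · show x1 ^ 2 = f 1
      rw [e1]; simp [comb, show (1 : ZMod 2).val = 1 from rfl]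
    · show x2 ^ 2 = f 2
      rw [e2]; simp [comb, show (1 : ZMod 2).val = 1 from rfl]
  have C : Coord R b := ⟨hn, fun i => by fin_cases i <;> assumption, hcomm,
    fun a ha => by rw [show 4 = 2 * 2 from rfl, pow_mul, LF.exp _ (hsq a ha)], hR, hbsq ▸ hfi⟩
  have hact : ∀ z : Y, (∀ v, z * comb f v * z⁻¹ = comb f v) → z ∈ Q := fun z hz =>
    LF.mem_of_fix D fun k hk => by
      obtain ⟨v, rfl⟩ := comb_surjective LF hf hfi hF hk
      rw [← mul_inv_eq_iff_eq_mul, hz]
  have hy4 : y ^ 4 ∈ Q := hact _ fun v => by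
    have e : ∀ v, lin companion (lin companion (lin companion (lin companion v))) = v := by decide
    rw [show y ^ 4 = y ^ 2 * y ^ 2 by rw [← pow_add],
      show y ^ 2 * y ^ 2 * comb f v * (y ^ 2 * y ^ 2)⁻¹ =
        y ^ 2 * (y ^ 2 * comb f v * (y ^ 2)⁻¹) * (y ^ 2)⁻¹ by group, conj_sq y (comb f v), hy, hy,
      conj_sq, hy, hy, e]
  have hy2 : y ^ 2 ∉ Q := fun h => by
    have h1 := LF.cent _ h _ (comb_mem hf ![1, 0, 0])
    rw [← mul_inv_eq_iff_eq_mul, conj_sq, hy, hy] at h1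
    exact absurd (comb_injective LF hf hfi h1) (by decide)
  haveI := D.normal
  refine ⟨b, y, C, fun h => hy2 (pow_mem h 2), hy2, hy4, ?_⟩
  obtain ⟨M, hM⟩ := C.exists_mat y
  obtain ⟨s0, s1, s2⟩ := C.comb4_single
  have hb0 : b 0 = x := rfl
  have hb1 : b 1 = x1 := rfl
  have h0 : lin M ![1, 0, 0] = ![1, 1, 0] := C.comb4_injective (by
    rw [← hM, s0, hb0, show (![1, 1, 0] : Fin 3 → ZMod 4) = ![1, 0, 0] + ![0, 1, 0] by decide,
      C.comb4_add, s0, s1, hb0, hb1, hx1, mul_inv_cancel_left])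
  have h1 : lin M ![0, 1, 0] = ![0, 1, 1] := C.comb4_injective (by
    rw [← hM, s1, hb1, show (![0, 1, 1] : Fin 3 → ZMod 4) = ![0, 1, 0] + ![0, 0, 1] by decide,
      C.comb4_add, s1, s2, show b 2 = x2 from rfl, hb1, hx2, mul_inv_cancel_left])
  have hred : red (lin M ![0, 0, 1]) = ![0, 0, 1] := comb_injective LF hf hfi (by
    rw [← hbsq, ← C.sq_comb4, ← hM, conj_pow, C.sq_comb4, hbsq,
      show red ![0, 0, 1] = (![0, 0, 1] : Fin 3 → ZMod 2) by decide, hy]
    congr 1; decide)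
  have hMeq : M = ![![1, 1, 0], ![0, 1, 1], lin M ![0, 0, 1]] := by
    funext i j
    fin_cases i
    · have := congrFun h0 j; simpa [lin] using this
    · have := congrFun h1 j; simpa [lin] using this
    · simp [lin]
  have hcol : lin M ![0, 0, 1] = ![0, 2, 3] := by
    refine column_unique _ hred (hMeq ▸ C.det_eq_one D hcent hM) ?_
    show lin _ (lin _ (lin _ (lin _ _))) = _
    rw [← hMeq]
    apply C.comb4_injective
    rw [← hM, ← hM, ← hM, ← hM]
    have := hcent _ hy4 _ (C.comb4_mem ![1, 0, 0])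
    rw [← mul_inv_eq_iff_eq_mul] at this
    conv_rhs => rw [← this, show y ^ 4 = y * (y * (y * y)) by simp only [pow_succ, pow_zero, one_mul, mul_assoc]]
    group
  intro v
  rw [hM, hMeq, hcol]
  rfl

end CfsgLib.Small.ConstrainedSeven
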