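import Cfsg.Agent.Lib.Small.ConstrainedSeven.Frame

/-!
# The homocyclic group of order sixty-four cannot occur

Lifts of two commuting involutions with the same centre give an elementary section of order 32.
-/

set_option autoImplicit false
set_option linter.unusedSectionVars false
set_option linter.style.haveILetI false

namespace CfsgLib.Small.ConstrainedSeven

open Subgroup
open scoped commutatorElement

/-- The inverse of `Bmat`. -/
def Binv : Fin 3 → Fin 3 → ZMod 4 := ![![1, 1, 1], ![0, 3, 3], ![0, 2, 1]]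

/-- An element swapping the first two coordinates. -/
def swapMat : Fin 3 → Fin 3 → ZMod 2 := ![![0, 1, 0], ![1, 0, 0], ![0, 0, 1]]

/-- A shear. -/
def shear : Fin 3 → Fin 3 → ZMod 2 := ![![1, 0, 0], ![1, 1, 0], ![0, 0, 1]]

theorem swapMat_indep : ∀ v, lin swapMat v = 0 → v = 0 := by decide

theorem shear_indep : ∀ v, lin shear v = 0 → v = 0 := by decide

/-- The matrices inverting `Bmat`, by first column. -/
def invMat (r : Fin 3 → ZMod 4) : Fin 3 → Fin 3 → ZMod 4 :=
  ![r, lin Binv r - r, lin Binv (lin Binv r - r) - (lin Binv r - r)]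

/-- The coordinates of the smaller subgroup of the section. -/
abbrev IsN (v : Fin 3 → ZMod 4) : Prop := v 0 = 0 ∧ v 1 = 0 ∧ (v 2).val % 2 = 0

/-- The coordinates of the larger subgroup of the section. -/
abbrev IsM (v : Fin 3 → ZMod 4) : Prop := (v 0).val % 2 = 0 ∧ (v 1).val % 2 = 0

theorem isN_facts : IsN 0 ∧ (∀ v w, IsN v → IsN w → IsN (v + w)) ∧ (∀ v, IsN v → IsN (-v)) ∧
    (∀ v, IsN v → IsM v) ∧ IsM 0 ∧ (∀ v w, IsM v → IsM w → IsM (v + w)) ∧
    (∀ v, IsM v → IsM (-v)) ∧ (∀ v, IsM v → IsN (v + v)) ∧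
    (∀ v, IsM v → IsN (lin Tmat v - v)) := by
  refine ⟨?_, ?_, ?_, ?_, ?_, ?_, ?_, ?_, ?_⟩
  all_goals decide +kernel

theorem card_isN : Fintype.card {v // IsN v} = 2 := by decide +kernel

theorem card_isM : Fintype.card {v // IsM v} = 16 := by decide +kernel

theorem invMat_facts : ∀ r : Fin 3 → ZMod 4, red r = ![1, 0, 0] → det3 (invMat r) = 1 →
    lin (invMat r) (lin (invMat r) ![1, 0, 0]) = ![1, 0, 0] →
    (∀ v, IsM v → IsN (lin (invMat r) v - v)) ∧
      ∀ q, IsN (q + lin Tmat (lin (invMat r) q)) ∨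
        IsN (q + lin Tmat (lin (invMat r) q) +
          (lin (invMat r) ![0, 1, 0] - ![0, 1, 0])) := by decide +kernel

theorem lin_sub {n : ℕ} (M : Fin 3 → Fin 3 → ZMod n) (v w : Fin 3 → ZMod n) :
    lin M (v - w) = lin M v - lin M w := by
  funext i
  simp only [lin, Pi.sub_apply]
  ring

variable {Y : Type*} [Group Y] [Finite Y] {Q R : Subgroup Y} {b : Fin 3 → Y}

/-- The subgroup with coordinates in a given set. -/
def Coord.sub (C : Coord R b) (P : (Fin 3 → ZMod 4) → Prop) (h0 : P 0)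
    (hadd : ∀ v w, P v → P w → P (v + w)) (hneg : ∀ v, P v → P (-v)) : Subgroup Y where
  carrier := {x | ∃ v, P v ∧ comb4 b v = x}
  one_mem' := ⟨0, h0, C.comb4_zero⟩
  mul_mem' := by
    rintro _ _ ⟨v, hv, rfl⟩ ⟨w, hw, rfl⟩
    exact ⟨v + w, hadd v w hv hw, C.comb4_add v w⟩
  inv_mem' := by
    rintro _ ⟨v, hv, rfl⟩
    exact ⟨-v, hneg v hv, (C.comb4_inv v).symm⟩

theorem Coord.card_sub (C : Coord R b) (P : (Fin 3 → ZMod 4) → Prop) [DecidablePred P] (h0 : P 0)
    (hadd : ∀ v w, P v → P w → P (v + w)) (hneg : ∀ v, P v → P (-v)) :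
    Nat.card (C.sub P h0 hadd hneg) = Fintype.card {v // P v} := by
  rw [← Nat.card_eq_fintype_card]
  refine (Nat.card_eq_of_bijective (fun v : {v // P v} =>
    (⟨comb4 b v.1, v.1, v.2, rfl⟩ : C.sub P h0 hadd hneg)) ⟨fun v w h => ?_, ?_⟩).symm
  · exact Subtype.ext (C.comb4_injective (congrArg Subtype.val h))
  · rintro ⟨_, v, hv, rfl⟩
    exact ⟨⟨v, hv⟩, rfl⟩

/-- A square of the product with an element of the coordinate group. -/
theorem Coord.sq_mul (C : Coord R b) {x : Y} {M : Fin 3 → Fin 3 → ZMod 4}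
    (hx : ∀ v, x * comb4 b v * x⁻¹ = comb4 b (lin M v)) {w : Fin 3 → ZMod 4}
    (hw : x ^ 2 = comb4 b w) (v : Fin 3 → ZMod 4) :
    (x * comb4 b v) ^ 2 = comb4 b (lin M v + w + v) := by
  rw [C.comb4_add, C.comb4_add, ← hx, ← hw, pow_two, pow_two]
  group

/-- A commutator with an element of the coordinate group. -/
theorem Coord.commutator (C : Coord R b) {x : Y} {M : Fin 3 → Fin 3 → ZMod 4}
    (hx : ∀ v, x * comb4 b v * x⁻¹ = comb4 b (lin M v)) (v : Fin 3 → ZMod 4) :
    ⁅x, comb4 b v⁆ = comb4 b (lin M v - v) := by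
  rw [commutatorElement_def, hx, C.comb4_inv, ← C.comb4_add, sub_eq_add_neg]

/-- An involution lifting the square of the element of order four. -/
theorem Coord.exists_involution (C : Coord R b) {y : Y}
    (hy : ∀ v, y * comb4 b v * y⁻¹ = comb4 b (lin Bmat v)) (hy4 : y ^ 4 ∈ R) :
    ∃ q ∈ R, (y ^ 2 * q) ^ 2 = 1 := by
  have hT : ∀ v, y ^ 2 * comb4 b v * (y ^ 2)⁻¹ = comb4 b (lin Tmat v) := fun v => by
    rw [conj_sq, hy, hy, lin_Bmat_sq]
  obtain ⟨c, hc⟩ := C.comb4_surjective hy4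
  have hfix : lin Bmat c = c := C.comb4_injective (by rw [← hy, hc]; group)
  obtain ⟨k, hk⟩ := fixed_Bmat c hfix
  set q : Fin 3 → ZMod 4 := fun i => k * (![1, 0, 0] : Fin 3 → ZMod 4) i
  refine ⟨comb4 b q, C.comb4_mem q, ?_⟩
  rw [C.sq_mul hT (w := c) (by rw [hc, ← pow_mul]), show lin Tmat q + c + q = 0 by rw [← hk]; abel,
    C.comb4_zero]

/-- A group homocyclic of exponent four and rank three is impossible. -/
theorem no_homocyclic (D : Seven Y Q) {F : Subgroup Y} (LF : Layer Q F) (hF : Nat.card F = 8)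
    (hcomm : ∀ a ∈ Q, ∀ c ∈ Q, a * c = c * a) (hQ : Nat.card Q = 64)
    (hsq : ∀ a ∈ Q, a ^ 2 ∈ F) (hsurj : ∀ f ∈ F, ∃ a ∈ Q, a ^ 2 = f) : False := by
  obtain ⟨b, y, C, -, -, hy4, hy⟩ := exists_frame D LF hF D.normal hcomm hQ hsq hsurj hcomm
  obtain ⟨q, hqQ, hu⟩ := C.exists_involution hy hy4
  set u := y ^ 2 * q with hudef
  have hqc : ∀ v, q * comb4 b v * q⁻¹ = comb4 b v := fun v => by
    rw [hcomm q hqQ _ (C.comb4_mem v), mul_inv_cancel_right]
  have hT : ∀ v, u * comb4 b v * u⁻¹ = comb4 b (lin Tmat v) := fun v => by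
    rw [hudef, show y ^ 2 * q * comb4 b v * (y ^ 2 * q)⁻¹ =
      y ^ 2 * (q * comb4 b v * q⁻¹) * (y ^ 2)⁻¹ by group, hqc, conj_sq, hy, hy, lin_Bmat_sq]
  -- the squares
  set f : Fin 3 → Y := fun i => b i ^ 2 with hfdef
  have hf : ∀ i, f i ∈ F := fun i => hsq _ (C.mem i)
  have hfi : Indep f := C.indep
  have hredf : ∀ (x : Y) (M : Fin 3 → Fin 3 → ZMod 4) (N : Fin 3 → Fin 3 → ZMod 2),
      (∀ v, x * comb4 b v * x⁻¹ = comb4 b (lin M v)) →
      (∀ v, x * comb f v * x⁻¹ = comb f (lin N v)) → ∀ v, red (lin M v) = lin N (red v) := by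
    intro x M N hM hN v
    apply comb_injective LF hf hfi
    rw [← C.sq_comb4, ← hM, conj_pow, C.sq_comb4, hN]
  have hyf : ∀ v, y * comb f v * y⁻¹ = comb f (lin companion v) := fun v => by
    obtain ⟨w, rfl⟩ := red_surjective v
    have e : ∀ w : Fin 3 → ZMod 4, red (lin Bmat w) = lin companion (red w) := by decide +kernel
    rw [← C.sq_comb4, ← conj_pow, hy, C.sq_comb4, e]
  have huf : ∀ v, u * comb f v * u⁻¹ = comb f (lin companion (lin companion v)) := fun v => by
    rw [hudef, show y ^ 2 * q * comb f v * (y ^ 2 * q)⁻¹ =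
      y ^ 2 * (q * comb f v * q⁻¹) * (y ^ 2)⁻¹ by group, LF.cent q hqQ _ (comb_mem hf v),
      mul_inv_cancel_right, conj_sq, hyf, hyf]
  have hact : ∀ z : Y, (∀ v, z * comb f v * z⁻¹ = comb f v) → z ∈ Q := fun z hz =>
    LF.mem_of_fix D fun k hk => by
      obtain ⟨v, rfl⟩ := comb_surjective LF hf hfi hF hk
      rw [← mul_inv_eq_iff_eq_mul, hz]
  have hnot : ∀ (z : Y) (N : Fin 3 → Fin 3 → ZMod 2) (v : Fin 3 → ZMod 2),
      (∀ v, z * comb f v * z⁻¹ = comb f (lin N v)) → lin N v ≠ v → z ∉ Q := by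
    intro z N v hz hne h
    refine hne (comb_injective LF hf hfi ?_)
    rw [← hz, LF.cent z h _ (comb_mem hf v), mul_inv_cancel_right]
  -- a second involution with the same centre
  obtain ⟨h, hh⟩ := LF.exists_lin D hF hf hfi swapMat swapMat_indep
  obtain ⟨g, hg⟩ := LF.exists_lin D hF hf hfi shear shear_indep
  set Tb : Fin 3 → Fin 3 → ZMod 2 := ![![1, 0, 1], ![0, 1, 0], ![0, 0, 1]]
  set Sb : Fin 3 → Fin 3 → ZMod 2 := ![![1, 0, 0], ![0, 1, 1], ![0, 0, 1]]
  set Wb : Fin 3 → Fin 3 → ZMod 2 := ![![1, 0, 1], ![0, 1, 1], ![0, 0, 1]]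
  have huT : ∀ v, u * comb f v * u⁻¹ = comb f (lin Tb v) := fun v => by
    rw [huf]
    have e : ∀ v, lin companion (lin companion v) = lin Tb v := by decide
    rw [e]
  have hconj : ∀ (x : Y) (A A' : Fin 3 → Fin 3 → ZMod 2),
      (∀ v, x * comb f v * x⁻¹ = comb f (lin A v)) → (∀ v, lin A (lin A' v) = v) →
      ∀ v, x * u * x⁻¹ * comb f v * (x * u * x⁻¹)⁻¹ = comb f (lin A (lin Tb (lin A' v))) := by
    intro x A A' hA hinv v
    rw [← hA, ← huT]
    conv_lhs => rw [← hinv v, ← hA]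
    group
  set v' := h * u * h⁻¹ with hvdef
  have hv2 : v' ^ 2 = 1 := by rw [hvdef, conj_pow, hu, mul_one, mul_inv_cancel]
  have hvS : ∀ x, v' * comb f x * v'⁻¹ = comb f (lin Sb x) := fun x => by
    rw [hvdef, hconj h swapMat swapMat hh (by decide)]
    have e : ∀ v, lin swapMat (lin Tb (lin swapMat v)) = lin Sb v := by decide
    rw [e]
  set w := g * u * g⁻¹ with hwdef
  have hw2 : w ^ 2 = 1 := by rw [hwdef, conj_pow, hu, mul_one, mul_inv_cancel]
  have hwW : ∀ x, w * comb f x * w⁻¹ = comb f (lin Wb x) := fun x => by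
    rw [hwdef, hconj g shear shear hg (by decide)]
    have e : ∀ v, lin shear (lin Tb (lin shear v)) = lin Wb v := by decide
    rw [e]
  obtain ⟨S, hS⟩ := C.exists_mat v'
  -- `S` inverts `Bmat`
  have hrel : v' * y * v'⁻¹ * y ∈ Q := hact _ fun x => by
    have e : ∀ x, lin Sb (lin companion (lin Sb (lin companion x))) = x := by decide
    rw [show v' * y * v'⁻¹ * y * comb f x * (v' * y * v'⁻¹ * y)⁻¹ =
      v' * (y * (v'⁻¹ * (y * comb f x * y⁻¹) * v') * y⁻¹) * v'⁻¹ by group, hyf]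
    have hinv : v'⁻¹ = v' := inv_eq_of_mul_eq_one_right (by rw [← pow_two, hv2])
    have h1 := hvS (lin companion x)
    rw [hinv] at h1 ⊢
    rw [h1, hyf]
    have h2 := hvS (lin companion (lin Sb (lin companion x)))
    rw [hinv] at h2
    rw [h2, e]
  have hSS : ∀ x, lin S (lin S x) = x := fun x => C.comb4_injective (by
    rw [← hS, ← hS, ← conj_sq, hv2, one_mul, inv_one, mul_one])
  have hSB : ∀ x, lin S (lin Bmat x) = lin Binv (lin S x) := by
    intro x
    have hBB : ∀ x, lin Binv (lin Bmat x) = x := by decide +kernel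
    have hinv : v'⁻¹ = v' := inv_eq_of_mul_eq_one_right (by rw [← pow_two, hv2])
    have h1 : lin S (lin Bmat (lin S (lin Bmat x))) = x := C.comb4_injective (by
      rw [← hS, ← hy, ← hS, ← hy]
      have h0 := hcomm _ hrel _ (C.comb4_mem x)
      rw [← mul_inv_eq_iff_eq_mul] at h0
      conv_rhs => rw [← h0]
      rw [hinv]
      simp only [mul_assoc, mul_inv_rev, hinv])
    have h2 : lin Bmat (lin S (lin Bmat x)) = lin S x := by
      rw [← hSS (lin Bmat (lin S (lin Bmat x))), h1]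
    rw [← h2, hBB]
  have hinvM : S = invMat (S 0) := by
    have e0 : lin S ![1, 0, 0] = S 0 := by funext j; simp [lin]
    have e1 : lin S ![0, 1, 0] = S 1 := by funext j; simp [lin]
    have e2 : lin S ![0, 0, 1] = S 2 := by funext j; simp [lin]
    have h1 := hSB ![1, 0, 0]
    rw [show lin Bmat ![1, 0, 0] = ![0, 1, 0] - (- ![1, 0, 0]) by decide, lin_sub,
      show lin S (- ![1, 0, 0]) = - lin S ![1, 0, 0] by funext j; simp [lin], e0, e1] at h1
    have h2 := hSB ![0, 1, 0]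
    rw [show lin Bmat ![0, 1, 0] = ![0, 0, 1] - (- ![0, 1, 0]) by decide, lin_sub,
      show lin S (- ![0, 1, 0]) = - lin S ![0, 1, 0] by funext j; simp [lin], e1, e2] at h2
    have h1' : S 1 = lin Binv (S 0) - S 0 := by rw [← h1]; abel
    have h2' : S 2 = lin Binv (S 1) - S 1 := by rw [← h2]; abel
    funext i
    fin_cases i
    · rfl
    · exact h1'
    · show S 2 = _; rw [h2', h1']; rfl
  have hred : red (S 0) = ![1, 0, 0] := by
    have := hredf v' S Sb hS hvS ![1, 0, 0]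
    rw [show lin S ![1, 0, 0] = S 0 by funext j; simp [lin]] at this
    rw [this]; decide
  obtain ⟨hSM, hpick⟩ := invMat_facts (S 0) hred (hinvM ▸ C.det_eq_one D hcomm hS)
    (by rw [← hinvM]; exact hSS _)
  rw [← hinvM] at hSM hpick
  -- the product is a lift of the third involution
  have hr : w⁻¹ * (u * v') ∈ Q := hact _ fun x => by
    have hinv : w⁻¹ = w := inv_eq_of_mul_eq_one_right (by rw [← pow_two, hw2])
    have e : ∀ x, lin Wb (lin Tb (lin Sb x)) = x := by decide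
    rw [show w⁻¹ * (u * v') * comb f x * (w⁻¹ * (u * v'))⁻¹ =
      w⁻¹ * (u * (v' * comb f x * v'⁻¹) * u⁻¹) * w by group, hvS, huT]
    have h1 := hwW (lin Tb (lin Sb x))
    rw [hinv] at h1 ⊢
    rw [h1, e]
  obtain ⟨r, hr'⟩ := C.comb4_surjective hr
  have hW : ∀ x, w * comb4 b x * w⁻¹ = comb4 b (lin Tmat (lin S x)) := fun x => by
    rw [← hT, ← hS]
    have h0 := hcomm _ hr _ (C.comb4_mem x)
    rw [← mul_inv_eq_iff_eq_mul] at h0
    conv_lhs => rw [← h0]
    group
  set d := r + lin Tmat (lin S r)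
  have hd : (u * v') ^ 2 = comb4 b d := by
    rw [show u * v' = w * comb4 b r by rw [hr']; group, pow_two,
      show w * comb4 b r * (w * comb4 b r) = (w * comb4 b r * w⁻¹) * w ^ 2 * comb4 b r by
        rw [pow_two]; group,
      hw2, mul_one, hW, ← C.comb4_add]
    congr 1
    exact add_comm _ _
  obtain ⟨hN0, hNadd, hNneg, hNM, hM0, hMadd, hMneg, hMsq, hTM⟩ := isN_facts
  set N := C.sub IsN hN0 hNadd hNneg
  set M := C.sub IsM hM0 hMadd hMneg
  have hrel' : 8 ≤ N.relIndex M := by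
    have hle : N ≤ M := by rintro _ ⟨x, hx, rfl⟩; exact ⟨x, hNM x hx, rfl⟩
    have h3 := Subgroup.card_mul_index (N.subgroupOf M)
    rw [Nat.card_congr (Subgroup.subgroupOfEquivOfLe hle).toEquiv, C.card_sub, C.card_sub,
      card_isN, card_isM] at h3
    show 8 ≤ (N.subgroupOf M).index
    omega
  suffices key : ∀ u' : Y, (∀ x, u' * comb4 b x * u'⁻¹ = comb4 b (lin Tmat x)) →
      (∀ x, u' * comb f x * u'⁻¹ = comb f (lin Tb x)) → u' ^ 2 = 1 → (u' * v') ^ 2 ∈ N → False by
    rcases hpick r with hp | hp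
    · exact key u hT huT hu ⟨d, hp, hd.symm⟩
    · obtain ⟨-, s1, -⟩ := C.comb4_single
      refine key (u * b 1) (fun x => ?_) (fun x => ?_) ?_ ?_
      · rw [show u * b 1 * comb4 b x * (u * b 1)⁻¹ = u * (b 1 * comb4 b x * (b 1)⁻¹) * u⁻¹ by group,
          hcomm _ (C.mem 1) _ (C.comb4_mem x), mul_inv_cancel_right, hT]
      · rw [show u * b 1 * comb f x * (u * b 1)⁻¹ = u * (b 1 * comb f x * (b 1)⁻¹) * u⁻¹ by group,
          LF.cent _ (C.mem 1) _ (comb_mem hf x), mul_inv_cancel_right, huT]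
      · rw [← s1, C.sq_mul hT (w := 0) (by rw [C.comb4_zero, hu]),
          show lin Tmat ![0, 1, 0] + 0 + ![0, 1, 0] = 0 by decide, C.comb4_zero]
      · refine ⟨_, hp, ?_⟩
        have hv'inv : v'⁻¹ = v' := inv_eq_of_mul_eq_one_right (by rw [← pow_two, hv2])
        have e : u * b 1 * v' = u * v' * comb4 b (lin S ![0, 1, 0]) := by
          rw [← hS, s1, hv'inv]
          calc u * b 1 * v' = u * 1 * b 1 * v' := by group
            _ = u * v' ^ 2 * b 1 * v' := by rw [hv2]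
            _ = _ := by rw [pow_two]; group
        have hTS : ∀ x, u * v' * comb4 b x * (u * v')⁻¹ = comb4 b (lin (fun i => lin Tmat (S i)) x) := by
          intro x
          rw [show u * v' * comb4 b x * (u * v')⁻¹ = u * (v' * comb4 b x * v'⁻¹) * u⁻¹ by group,
            hS, hT]
          congr 1
          funext j
          simp only [lin]
          ring
        rw [e, C.sq_mul hTS (w := d) hd]
        congr 1
        have e' : lin (fun i => lin Tmat (S i)) (lin S ![0, 1, 0]) = - ![0, 1, 0] := by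
          have : lin (fun i => lin Tmat (S i)) (lin S ![0, 1, 0]) =
              lin Tmat (lin S (lin S ![0, 1, 0])) := by
            funext j; simp only [lin]; ring
          rw [this, hSS]; decide
        rw [e']
        simp only [d]
        abel
  intro u' hT' huT' hu' huv'
  have hmem : ∀ m ∈ M, ∃ x, IsM x ∧ comb4 b x = m := fun m hm => hm
  have hMQ : M ≤ Q := by rintro _ ⟨x, -, rfl⟩; exact C.comb4_mem x
  have hinvu : u'⁻¹ = u' := inv_eq_of_mul_eq_one_right (by rw [← pow_two, hu'])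
  have hinvv : v'⁻¹ = v' := inv_eq_of_mul_eq_one_right (by rw [← pow_two, hv2])
  have huvQ : u' * v' ∉ Q := hnot _ Wb ![1, 0, 0] (fun x => by
    rw [show u' * v' * comb f x * (u' * v')⁻¹ = u' * (v' * comb f x * v'⁻¹) * u'⁻¹ by group,
      hvS, huT']
    have e : ∀ x, lin Tb (lin Sb x) = lin Wb x := by decide
    rw [e]) (by decide)
  refine section_two D (by rintro _ ⟨x, hx, rfl⟩; exact ⟨x, hNM x hx, rfl⟩) hMQ (u := u') (v := v')
    ?_ ?_ ?_ ?_ (by rw [hu']; exact one_mem _) (by rw [hv2]; exact one_mem _) ?_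
    (hnot u' Tb ![1, 0, 0] huT' (by decide)) (hnot v' Sb ![0, 1, 0] hvS (by decide))
    (by rwa [hinvu]) huvQ hrel'
  · rintro _ ⟨x, hx, rfl⟩
    exact ⟨x + x, hMsq x hx, by rw [C.comb4_add, pow_two]⟩
  · intro m hm m' hm'
    rw [commutatorElement_eq_one_iff_mul_comm.2 (hcomm m (hMQ hm) m' (hMQ hm'))]
    exact one_mem _
  · rintro _ ⟨x, hx, rfl⟩
    exact ⟨_, hTM x hx, (C.commutator hT' x).symm⟩
  · rintro _ ⟨x, hx, rfl⟩
    exact ⟨_, hSM x hx, (C.commutator hS x).symm⟩
  · rw [commutatorElement_def, hinvu, hinvv]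
    convert huv' using 1
    rw [pow_two]; group

end CfsgLib.Small.ConstrainedSeven
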