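import Cfsg.Agent.Lib.Small.ConstrainedSeven.OneLayer
import Cfsg.Agent.Lib.Small.ConstrainedFive.Main

/-!
# The 2-core below the simple group of order 168
-/

set_option autoImplicit false
set_option linter.unusedSectionVars false
set_option linter.style.haveILetI false

namespace CfsgLib.Small.ConstrainedSeven

open Subgroup
open scoped commutatorElement

variable {Y : Type*} [Group Y] [Finite Y] {Q : Subgroup Y}

/-- The Frattini subgroup of `Q` inside `Y`. -/
def frat (Q : Subgroup Y) : Subgroup Y := (frattini Q).map Q.subtype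

theorem frat_le : frat Q ≤ Q := Subgroup.map_subtype_le _

theorem frat_normal (D : Seven Y Q) : (frat Q).Normal := by
  haveI := D.normal
  unfold frat
  infer_instance

theorem sq_mem_frat (D : Seven Y Q) {x : Y} (hx : x ∈ Q) : x ^ 2 ∈ frat Q := by
  haveI : Fact (Nat.Prime 2) := ⟨Nat.prime_two⟩
  exact ⟨⟨x, hx⟩ ^ 2, CfsgLib.PGroups.pow_mem_frattini D.two _, rfl⟩

theorem frat_le_of_squares (D : Seven Y Q) (N : Subgroup Y) [N.Normal]
    (h : ∀ x ∈ Q, x ^ 2 ∈ N) : frat Q ≤ N := by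
  rintro _ ⟨q, hq, rfl⟩
  have hle := CfsgLib.PGroups.NoSCNThree.frattini_le_of_squares D.two (N := N.subgroupOf Q)
    fun q => Subgroup.mem_subgroupOf.2 (h q q.2)
  exact Subgroup.mem_subgroupOf.1 (hle hq)

/-- A minimal normal subgroup inside `Q` is central in `Q`, elementary, and of order 2 or a
natural layer. -/
theorem bottom_layer (D : Seven Y Q) (P : Subgroup Y) [P.Normal] (hPQ : P ≤ Q) (hne : P ≠ ⊥)
    (hmin : ∀ U : Subgroup Y, U.Normal → U ≤ P → U = ⊥ ∨ U = P) :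
    (∀ q ∈ Q, ∀ x ∈ P, q * x = x * q) ∧ (∀ x ∈ P, x ^ 2 = 1) ∧
      (Nat.card P = 2 ∨ (Nat.card P = 8 ∧ Layer Q P)) := by
  haveI : Fact (Nat.Prime 2) := ⟨Nat.prime_two⟩
  haveI := D.normal
  obtain ⟨w, hw, hw1⟩ := (Subgroup.bot_or_exists_ne_one P).resolve_left hne
  set Zc := (center Q).map Q.subtype with hZc
  haveI : Zc.Normal := inferInstance
  have hPZ : P ⊓ Zc = P := by
    refine (hmin _ inferInstance inf_le_left).resolve_left fun h => ?_
    have hP' : P.subgroupOf Q ≠ ⊥ := fun e => by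
      have h1 : (⟨w, hPQ hw⟩ : Q) ∈ P.subgroupOf Q := Subgroup.mem_subgroupOf.2 hw
      rw [e, Subgroup.mem_bot] at h1
      exact hw1 (congrArg (fun q : Q => (q : Y)) h1)
    refine CfsgLib.PGroups.inf_center_ne_bot D.two hP' (Subgroup.eq_bot_iff_forall _ |>.2 ?_)
    intro q hq
    refine Subtype.ext (Subgroup.mem_bot.1 (h ▸ ?_ : (q : Y) ∈ (⊥ : Subgroup Y)))
    exact Subgroup.mem_inf.2 ⟨Subgroup.mem_subgroupOf.1 hq.1, ⟨q, hq.2, rfl⟩⟩
  have hcen : ∀ q ∈ Q, ∀ x ∈ P, q * x = x * q := by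
    intro q hq x hx
    obtain ⟨c, hc, rfl⟩ := ((inf_eq_left.1 hPZ) hx : x ∈ Zc)
    exact congrArg Subtype.val (Subgroup.mem_center_iff.1 hc ⟨q, hq⟩)
  have hab : ∀ a ∈ P, ∀ b ∈ P, a * b = b * a := fun a ha b hb => hcen a (hPQ ha) b hb
  let U : Subgroup Y :=
    { carrier := {x | x ∈ P ∧ x ^ 2 = 1}
      one_mem' := ⟨one_mem _, one_pow 2⟩
      mul_mem' := fun {a b} ha hb => ⟨mul_mem ha.1 hb.1, by
        rw [Commute.mul_pow (hab a ha.1 b hb.1), ha.2, hb.2, one_mul]⟩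
      inv_mem' := fun {a} ha => ⟨inv_mem ha.1, by rw [inv_pow, ha.2, inv_one]⟩ }
  have hU : U.Normal := ⟨fun n hn y => ⟨(inferInstance : P.Normal).conj_mem n hn.1 y, by
    rw [conj_pow, hn.2, mul_one, mul_inv_cancel]⟩⟩
  have hUP : U = P := by
    refine (hmin U hU fun x hx => hx.1).resolve_left fun h => ?_
    have hP2 : IsPGroup 2 P := D.two.of_injective (Subgroup.inclusion hPQ)
      (Subgroup.inclusion_injective hPQ)
    have hdvd : 2 ∣ Nat.card P := by
      obtain ⟨n, hn⟩ := IsPGroup.iff_card.1 hP2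
      rw [hn]
      refine dvd_pow_self 2 fun h0 => hne (Subgroup.card_eq_one.1 (by rw [hn, h0, pow_zero]))
    obtain ⟨x, hx⟩ := exists_prime_orderOf_dvd_card' 2 hdvd
    have hxU : (x : Y) ∈ U := ⟨x.2, by rw [← SubmonoidClass.coe_pow, ← hx, pow_orderOf_eq_one]; rfl⟩
    rw [h, Subgroup.mem_bot] at hxU
    rw [show x = 1 from Subtype.ext hxU, orderOf_one] at hx
    omega
  have hexp : ∀ x ∈ P, x ^ 2 = 1 := fun x hx => (hUP.symm ▸ hx : x ∈ U).2
  refine ⟨hcen, hexp, ?_⟩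
  have key : ∀ x ∈ P, x ≠ 1 → (∀ y : Y, y * x = x * y) → Nat.card P = 2 := by
    intro x hx hx1 hfix
    haveI : (zpowers x).Normal := ⟨fun n hn y => by
      obtain ⟨i, rfl⟩ := hn
      show y * x ^ i * y⁻¹ ∈ zpowers x
      rw [(show Commute y x from hfix y).zpow_right i |>.eq, mul_inv_cancel_right]
      exact zpow_mem (mem_zpowers x) i⟩
    have heq := (hmin _ inferInstance (zpowers_le.2 hx)).resolve_left fun h =>
      hx1 (Subgroup.mem_bot.1 (h ▸ mem_zpowers x))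
    rw [← heq, Nat.card_zpowers, orderOf_eq_prime (hexp x hx) hx1]
  by_cases htriv : ∀ y : Y, ∀ x ∈ P, y * x = x * y
  · exact Or.inl (key w hw hw1 fun y => htriv y w hw)
  right
  have LP : Layer Q P := ⟨inferInstance, hab, hexp, hcen, htriv⟩
  rcases LP.card_cases D with ⟨h8, -⟩ | ⟨h16, -⟩
  · exact ⟨h8, LP⟩
  exfalso
  rcases fixed_or_hyperplane LP D h16 with ⟨z, hz, hz1, hzc⟩ | ⟨H, hHn, hHP, hH8⟩
  · have := key z hz hz1 hzc; omega
  · rcases hmin H hHn hHP with rfl | rfl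
    · rw [Subgroup.card_bot] at hH8; omega
    · omega

/-- Three layers are impossible. -/
theorem no_three_layer (D : Seven Y Q) {L P : Subgroup Y} [hLn : L.Normal] [hPn : P.Normal]
    (hLP : L ≤ P) (hPQ : P ≤ Q) (hcenL : ∀ q ∈ Q, ∀ x ∈ L, q * x = x * q)
    (hL : Nat.card L = 2 ∨ (Nat.card L = 8 ∧ Layer Q L))
    (hidxP : L.relIndex P = 2) (hsq : ∀ a ∈ Q, a ^ 2 ∈ P) (hne : ∃ a ∈ Q, a ^ 2 ∉ L)
    (hV : ∃ y : Y, ∃ q ∈ Q, ⁅y, q⁆ ∉ P) : False := by
  classical
  haveI := D.normal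
  have hLQ := hLP.trans hPQ
  set π := QuotientGroup.mk' L with hπ
  have hπL : ∀ x, π x = 1 ↔ x ∈ L := fun x => QuotientGroup.eq_one_iff x
  have hsurjπ := QuotientGroup.mk'_surjective L
  have hback : ∀ x, π x ∈ P.map π → x ∈ P := fun x hx => mem_of_map_mem L hLP hx
  haveI : (P.map π).Normal := hPn.map π hsurjπ
  have hF2 : Nat.card (P.map π) = 2 := by
    rw [← Subgroup.relIndex_ker P π, QuotientGroup.ker_mk', hidxP]
  have hcomm0 : ∀ y : Y, ∀ x ∈ P, ⁅y, x⁆ ∈ L := fun y x hx => by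
    rw [← hπL, map_commutatorElement, commutatorElement_eq_one_iff_mul_comm]
    exact fixed_of_card_two _ hF2 _ _ (Subgroup.mem_map_of_mem π hx)
  obtain ⟨R₀, hR₀n, hFR, hR₀Q, hidx₀, hR16, hR₀exp, hout₀, hab₀, LH, -⟩ :=
    one_layer (D.quot L hLQ) (F := P.map π) (Subgroup.map_mono hPQ) hF2
      (by rintro _ ⟨a, ha, rfl⟩; rw [← map_pow]; exact Subgroup.mem_map_of_mem π (hsq a ha))
      (by
        obtain ⟨a, ha, ha2⟩ := hne
        exact ⟨π a, Subgroup.mem_map_of_mem π ha, fun h => ha2 ((hπL _).1 (by rw [map_pow, h]))⟩)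
      (by
        obtain ⟨y, q, hq, hyq⟩ := hV
        exact ⟨π y, π q, Subgroup.mem_map_of_mem π hq, fun h => hyq (hback _ (by
          rw [map_commutatorElement]; exact h))⟩)
  set R := R₀.comap π with hR
  haveI hRn : R.Normal := hR₀n.comap π
  have hRQ : R ≤ Q := fun x hx => mem_of_map_mem L hLQ (hR₀Q hx)
  have hPR : P ≤ R := fun x hx => Subgroup.mem_comap.2 (hFR (Subgroup.mem_map_of_mem π hx))
  have hidx : (R.subgroupOf Q).index = 2 := by
    rw [← hidx₀]
    exact Subgroup.relIndex_comap R₀ π Q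
  have hsqR : ∀ a ∈ R, a ^ 2 ∈ L := fun a ha => (hπL _).1 (by rw [map_pow]; exact hR₀exp _ ha)
  have hsqQ : ∀ a ∈ Q, a ∉ R → a ^ 2 ∈ P ∧ a ^ 2 ∉ L := fun a ha haR => ⟨hsq a ha, fun h =>
    hout₀ (π a) (Subgroup.mem_map_of_mem π ha) haR (by rw [← map_pow]; exact (hπL _).2 h)⟩
  have hcomm : ∀ a ∈ Q, ∀ c ∈ Q, ⁅a, c⁆ ∈ L := fun a ha c hc => by
    rw [← hπL, map_commutatorElement, commutatorElement_eq_one_iff_mul_comm]
    exact hab₀ _ (Subgroup.mem_map_of_mem π ha) _ (Subgroup.mem_map_of_mem π hc)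
  set σ := QuotientGroup.mk' P with hσ
  have hσP : ∀ x, σ x = 1 ↔ x ∈ P := fun x => QuotientGroup.eq_one_iff x
  have LM : Layer (Q.map σ) (R.map σ) := by
    refine ⟨hRn.map σ (QuotientGroup.mk'_surjective P), ?_, ?_, ?_, fun h => LH.moved ?_⟩
    · rintro _ ⟨a, ha, rfl⟩ _ ⟨c, hc, rfl⟩
      rw [← commutatorElement_eq_one_iff_mul_comm, ← map_commutatorElement, hσP]
      exact hLP (hcomm a (hRQ ha) c (hRQ hc))
    · rintro _ ⟨a, ha, rfl⟩
      rw [← map_pow, hσP]
      exact hLP (hsqR a ha)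
    · rintro _ ⟨a, ha, rfl⟩ _ ⟨c, hc, rfl⟩
      rw [← commutatorElement_eq_one_iff_mul_comm, ← map_commutatorElement, hσP]
      exact hLP (hcomm a ha c (hRQ hc))
    intro y a ha
    obtain ⟨a, haR, rfl⟩ := ha
    obtain ⟨a, rfl⟩ := hsurjπ a
    obtain ⟨y, rfl⟩ := QuotientGroup.mk'_surjective _ y
    obtain ⟨y, rfl⟩ := hsurjπ y
    rw [← commutatorElement_eq_one_iff_mul_comm, ← map_commutatorElement, ← map_commutatorElement]
    refine (QuotientGroup.eq_one_iff _).2 (Subgroup.mem_map_of_mem π ?_)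
    rw [← hσP, map_commutatorElement, commutatorElement_eq_one_iff_mul_comm]
    exact h _ _ (Subgroup.mem_map_of_mem σ haR)
  have hRcard : Nat.card R = 16 * Nat.card L := by
    have h1 := Subgroup.card_mul_index (L.subgroupOf R)
    rw [Nat.card_congr (Subgroup.subgroupOfEquivOfLe (hLP.trans hPR)).toEquiv] at h1
    rw [← Subgroup.map_comap_eq_self_of_surjective hsurjπ R₀, ← hR,
      ← Subgroup.relIndex_ker R π, QuotientGroup.ker_mk', Subgroup.relIndex] at hR16
    rw [hR16] at h1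
    omega
  have hPcard : Nat.card P = 2 * Nat.card L := by
    have h1 := Subgroup.card_mul_index (L.subgroupOf P)
    rw [Nat.card_congr (Subgroup.subgroupOfEquivOfLe hLP).toEquiv] at h1
    rw [Subgroup.relIndex] at hidxP
    rw [hidxP] at h1
    omega
  have hM8 : Nat.card (R.map σ) = 8 := by
    have h1 := Subgroup.card_mul_index (P.subgroupOf R)
    rw [Nat.card_congr (Subgroup.subgroupOfEquivOfLe hPR).toEquiv] at h1
    rw [← Subgroup.relIndex_ker R σ, QuotientGroup.ker_mk', Subgroup.relIndex]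
    have : 0 < Nat.card L := Nat.card_pos
    rw [hPcard, hRcard] at h1
    nlinarith
  rcases hL with hL2 | ⟨hL8, LL⟩
  · exact no_two_layer D hLP hPR hRQ hL2 (by omega) hidx hsqR hsqQ hcomm LM hM8
  obtain ⟨w, hwQ, hwR⟩ : ∃ w ∈ Q, w ∉ R := by
    by_contra h
    push Not at h
    rw [Subgroup.subgroupOf_eq_top.2 h, Subgroup.index_top] at hidx
    omega
  have hP16 : Nat.card P = 16 := by omega
  have hR128 : Nat.card R = 128 := by omega
  -- the middle term is elementary and central in `Q`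
  have hsqP : ∀ x ∈ P, x ^ 2 ∈ L := fun x hx => hsqR x (hPR hx)
  have hPexp : ∀ x ∈ P, x ^ 2 = 1 := by
    intro x hx
    refine LL.fixed_eq_one D hL8 (hsqP x hx) fun y => ?_
    have hk := hcomm0 y x hx
    rw [← mul_inv_eq_iff_eq_mul, ← conj_pow,
      show y * x * y⁻¹ = ⁅y, x⁆ * x by rw [commutatorElement_def]; group,
      Commute.mul_pow (hcenL x (hPQ hx) _ hk).symm, LL.exp _ hk, one_mul]
  have hPab : ∀ a ∈ P, ∀ c ∈ P, a * c = c * a := fun a ha c hc => mul_comm_of_sq (by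
    rw [hPexp a ha, hPexp c hc, hPexp _ (mul_mem ha hc), mul_one])
  have hPcen : ∀ q ∈ Q, ∀ p ∈ P, q * p = p * q := by
    have hout : ∀ q ∈ Q, q ∉ R → ∀ p ∈ P, q * p = p * q := by
      intro q hq hqR p hp
      by_cases hpL : p ∈ L
      · exact hcenL q hq p hpL
      obtain ⟨hq2, hq2L⟩ := hsqQ q hq hqR
      have hd : (q ^ 2)⁻¹ * p ∈ L := commute_of_index_two hidxP hq2 hq2L hp hpL
      rw [← mul_inv_cancel_left (q ^ 2) p, ← mul_assoc, (Commute.self_pow q 2).eq, mul_assoc,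
        hcenL q hq _ hd, ← mul_assoc]
    intro q hq p hp
    by_cases hqR : q ∈ R
    · have h1 : w * q ∉ R := fun h => hwR (by
        have := mul_mem h (inv_mem hqR); rwa [mul_inv_cancel_right] at this)
      have h2 := hout _ (mul_mem hwQ hq) h1 p hp
      have h3 := hout w hwQ hwR p hp
      rw [mul_assoc, ← mul_assoc p, ← h3, mul_assoc w p] at h2
      exact mul_left_cancel h2
    · exact hout q hq hqR p hp
  have LP : Layer Q P := ⟨hPn, hPab, hPexp, hPcen, fun h => LL.moved fun y a ha => h y a (hLP ha)⟩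
  by_cases hfix : ∃ z ∈ P, z ∉ L ∧ ∀ y : Y, y * z = z * y
  · obtain ⟨z, hzP, hzL, hzc⟩ := hfix
    set N := zpowers z with hN
    haveI : N.Normal := ⟨fun a ha y => by
      obtain ⟨i, rfl⟩ := ha
      show y * z ^ i * y⁻¹ ∈ N
      rw [(show Commute y z from hzc y).zpow_right i |>.eq, mul_inv_cancel_right]
      exact zpow_mem (mem_zpowers z) i⟩
    set ν := QuotientGroup.mk' N with hν
    have hNQ : N ≤ Q := zpowers_le.2 (hPQ hzP)
    have hνz : ν z = 1 := (QuotientGroup.eq_one_iff z).2 (mem_zpowers z)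
    have hN2 : ∀ x ∈ N, x = 1 ∨ x = z := by
      rintro x ⟨i, rfl⟩
      have h2 : z ^ (2 : ℤ) = 1 := by exact_mod_cast hPexp z hzP
      show z ^ i = 1 ∨ z ^ i = z
      rcases Int.even_or_odd i with ⟨j, rfl⟩ | ⟨j, rfl⟩
      · left; rw [← two_mul, zpow_mul, h2, one_zpow]
      · right; rw [zpow_add, zpow_mul, h2, one_zpow, one_mul, zpow_one]
    have hLN : ∀ x ∈ L, x ∈ N → x = 1 := fun x hx hxN =>
      (hN2 x hxN).resolve_right fun e => hzL (e ▸ hx)
    have hPL : ∀ x ∈ P, ν x ∈ L.map ν := by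
      intro x hx
      by_cases hxL : x ∈ L
      · exact Subgroup.mem_map_of_mem ν hxL
      refine ⟨z⁻¹ * x, commute_of_index_two hidxP hzP hzL hx hxL, ?_⟩
      rw [map_mul, map_inv, hνz, inv_one, one_mul]
    haveI : (L.map ν).Normal := hLn.map ν (QuotientGroup.mk'_surjective N)
    have LF : Layer (Q.map ν) (L.map ν) := by
      refine ⟨inferInstance, ?_, ?_, ?_, fun h => LL.moved fun y a ha => ?_⟩
      · rintro _ ⟨a, ha, rfl⟩ _ ⟨c, hc, rfl⟩
        rw [← map_mul, ← map_mul, LL.comm a ha c hc]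
      · rintro _ ⟨a, ha, rfl⟩
        rw [← map_pow, LL.exp a ha, map_one]
      · rintro _ ⟨a, ha, rfl⟩ _ ⟨c, hc, rfl⟩
        rw [← map_mul, ← map_mul, LL.cent a ha c hc]
      have h1 := h (ν y) (ν a) (Subgroup.mem_map_of_mem ν ha)
      rw [← commutatorElement_eq_one_iff_mul_comm, ← map_commutatorElement] at h1
      rw [← commutatorElement_eq_one_iff_mul_comm]
      refine hLN _ ?_ ((QuotientGroup.eq_one_iff _).1 h1)
      rw [commutatorElement_def]
      exact mul_mem (LL.conj_mem ha y) (inv_mem ha)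
    refine no_eight_layer (D.quot N hNQ) LF ?_ (Subgroup.map_mono hLQ) ?_ ?_
    · rw [← Subgroup.relIndex_ker L ν, QuotientGroup.ker_mk']
      have h1 : N.subgroupOf L = ⊥ := (Subgroup.eq_bot_iff_forall _).2 fun x hx =>
        Subtype.ext (hLN x x.2 hx)
      rw [Subgroup.relIndex, h1, Subgroup.index_bot, hL8]
    · rintro _ ⟨a, ha, rfl⟩
      rw [← map_pow]
      exact hPL _ (hsq a ha)
    · obtain ⟨y, q, hq, hyq⟩ := hV
      refine ⟨ν y, ν q, Subgroup.mem_map_of_mem ν hq, fun h => hyq ?_⟩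
      rw [← map_commutatorElement] at h
      exact mem_of_map_mem N (zpowers_le.2 hzP) (Subgroup.map_mono hLP h)
  push Not at hfix
  have hsurjσ := QuotientGroup.mk'_surjective P
  have DP := D.quot P hPQ
  obtain ⟨-, hsurj, hab⟩ := squares_iso D DP σ hsurjσ le_rfl LL hL8 (QuotientGroup.ker_mk' P) hPR
    hRn (by omega) hPexp (fun u hu a ha => (hPcen a (hRQ ha) u hu).symm) hsqR LM hM8
  have hcoset : ∀ c ∈ Q, c ∉ R → w⁻¹ * c ∈ R := fun c hc hcR =>
    commute_of_index_two hidx hwQ hwR hc hcR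
  let ψ : Y ⧸ P → Y := fun x => if h : ∃ a ∈ R, σ a = x then ⁅w, h.choose⁆ else 1
  have hψ : ∀ a ∈ R, ψ (σ a) = ⁅w, a⁆ := by
    intro a ha
    have h : ∃ c ∈ R, σ c = σ a := ⟨a, ha, rfl⟩
    show (if h : ∃ c ∈ R, σ c = σ a then ⁅w, h.choose⁆ else 1) = ⁅w, a⁆
    rw [dif_pos h]
    obtain ⟨hcR, hce⟩ := h.choose_spec
    have hu : h.choose⁻¹ * a ∈ P := QuotientGroup.eq.1 hce
    have e : ⁅w, h.choose * (h.choose⁻¹ * a)⁆ =
        ⁅w, h.choose⁆ * (h.choose * ⁅w, h.choose⁻¹ * a⁆ * h.choose⁻¹) := by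
      simp only [commutatorElement_def]; group
    rw [mul_inv_cancel_left, commutatorElement_eq_one_iff_mul_comm.2 (hPcen w hwQ _ hu),
      mul_one, mul_inv_cancel, mul_one] at e
    exact e.symm
  have E : Equi σ (R.map σ) L ψ := by
    refine ⟨?_, ?_⟩
    · rintro _ ⟨a, ha, rfl⟩; rw [hψ a ha]; exact hcomm w hwQ a (hRQ ha)
    · rintro y _ ⟨a, ha, rfl⟩
      rw [← map_inv, ← map_mul, ← map_mul, hψ _ (hRn.conj_mem a ha y), hψ a ha]
      have hr : w⁻¹ * (y⁻¹ * w * y) ∈ R := by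
        refine hcoset _ ?_ fun h => hwR ?_
        · have := D.normal.conj_mem w hwQ y⁻¹; rwa [inv_inv] at this
        · have := hRn.conj_mem _ h y
          rwa [show y * (y⁻¹ * w * y) * y⁻¹ = w by group] at this
      set r := w⁻¹ * (y⁻¹ * w * y) with hr'
      have e : ⁅w, y * a * y⁻¹⁆ = y * ⁅w * r, a⁆ * y⁻¹ := by
        rw [hr', mul_inv_cancel_left]; simp only [commutatorElement_def]; group
      have e2 : ⁅w * r, a⁆ = w * ⁅r, a⁆ * w⁻¹ * ⁅w, a⁆ := by
        simp only [commutatorElement_def]; group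
      rw [e, e2, commutatorElement_eq_one_iff_mul_comm.2 (hab r hr a ha), mul_one,
        mul_inv_cancel, one_mul]
  let sg : Y ⧸ P → Y := fun x => if h : ∃ a ∈ R, σ a = x then h.choose ^ 2 else 1
  have hsg : ∀ a ∈ R, sg (σ a) = a ^ 2 := by
    intro a ha
    have h : ∃ c ∈ R, σ c = σ a := ⟨a, ha, rfl⟩
    show (if h : ∃ c ∈ R, σ c = σ a then h.choose ^ 2 else 1) = a ^ 2
    rw [dif_pos h]
    obtain ⟨hcR, hce⟩ := h.choose_spec
    have hu : h.choose⁻¹ * a ∈ P := QuotientGroup.eq.1 hce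
    calc h.choose ^ 2 = h.choose ^ 2 * (h.choose⁻¹ * a) ^ 2 := by rw [hPexp _ hu, mul_one]
      _ = (h.choose * (h.choose⁻¹ * a)) ^ 2 :=
        (Commute.mul_pow (hPcen _ (hRQ hcR) _ hu) 2).symm
      _ = a ^ 2 := by rw [mul_inv_cancel_left]
  have G : Equi σ (R.map σ) L sg := by
    refine ⟨?_, ?_⟩
    · rintro _ ⟨a, ha, rfl⟩; rw [hsg a ha]; exact hsqR a ha
    · rintro y _ ⟨a, ha, rfl⟩
      rw [← map_inv, ← map_mul, ← map_mul, hsg _ (hRn.conj_mem a ha y), hsg a ha, conj_pow]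
  have hGne : ¬ ∀ m ∈ R.map σ, sg m = 1 := fun h => by
    obtain ⟨k, hk, hk1⟩ : ∃ k ∈ L, k ≠ 1 := by
      by_contra h'
      push Not at h'
      rw [(Subgroup.eq_bot_iff_forall L).2 h', Subgroup.card_bot] at hL8
      omega
    obtain ⟨a, ha, rfl⟩ := hsurj k hk
    exact hk1 ((hsg a ha).symm.trans (h _ (Subgroup.mem_map_of_mem σ ha)))
  rcases E.eq_one_or_eq D DP LM LL hM8 hL8 hsurjσ le_rfl G hGne with h | h
  · have hwc : ∀ a ∈ R, w * a = a * w := fun a ha => by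
      rw [← commutatorElement_eq_one_iff_mul_comm, ← hψ a ha]
      exact h _ (Subgroup.mem_map_of_mem σ ha)
    have hRc : ∀ c ∈ Q, ∀ a ∈ R, c * a = a * c := by
      intro c hc a ha
      by_cases hcR : c ∈ R
      · exact hab c hcR a ha
      have hr := hcoset c hc hcR
      rw [← mul_inv_cancel_left w c, mul_assoc w, hab _ hr a ha, ← mul_assoc, hwc a ha, mul_assoc]
    refine no_core_two D LL hL8 LP hP16 hLP hPR hRn hRQ hR128 hab hRc hsqR hsurj ?_ ?_
    · intro z hz hzc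
      by_contra hzL
      obtain ⟨y, hy⟩ := hfix z hz hzL
      exact hy (hzc y)
    · intro y q hy hy4 hq hyq
      by_contra hqR
      obtain ⟨h1, h2⟩ := hsqQ q hq hqR
      obtain ⟨z, hz, hzL, hzc⟩ := exists_fixed_outside LP D hP16 hLn hLP hL8 hy hy4 h1 h2
        ((show Commute y q from hyq).pow_right 2)
      obtain ⟨x, hx⟩ := hfix z hz hzL
      exact hx (hzc x)
  -- inversion: the square of `w` is fixed
  have hinvw : ∀ r ∈ R, (w * r) ^ 2 = w ^ 2 := by
    intro r hr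
    have h1 : ⁅w, r⁆ = r ^ 2 := by
      rw [← hψ r hr, ← hsg r hr]; exact h _ (Subgroup.mem_map_of_mem σ hr)
    have h4 : r ^ 2 * r ^ 2 = 1 := by rw [← pow_two]; exact LL.exp _ (hsqR r hr)
    have h2 : w * r * w⁻¹ = r ^ 2 * r := by rw [← h1, commutatorElement_def]; group
    calc (w * r) ^ 2 = w * r * w⁻¹ * (w ^ 2 * r) := by rw [pow_two, pow_two]; group
      _ = r ^ 2 * r * (r * w ^ 2) := by rw [h2, hPcen r (hRQ hr) _ (hsq w hwQ)]
      _ = r ^ 2 * r ^ 2 * w ^ 2 := by simp only [pow_two]; group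
      _ = w ^ 2 := by rw [h4, one_mul]
  obtain ⟨hz, hzL⟩ := hsqQ w hwQ hwR
  obtain ⟨y, hy⟩ := hfix _ hz hzL
  apply hy
  have hc : y * w * y⁻¹ ∈ Q := D.normal.conj_mem w hwQ y
  have hcR : y * w * y⁻¹ ∉ R := fun h => hwR (by
    have := hRn.conj_mem _ h y⁻¹
    rwa [show y⁻¹ * (y * w * y⁻¹) * y⁻¹⁻¹ = w by group] at this)
  have h2 := hinvw _ (hcoset _ hc hcR)
  rw [mul_inv_cancel_left, conj_pow] at h2
  exact mul_inv_eq_iff_eq_mul.1 h2

/-- The group when the Frattini layer has order two. -/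
theorem iso_of_one_layer (D : Seven Y Q) {F : Subgroup Y} [F.Normal] (hFQ : F ≤ Q)
    (hF2 : Nat.card F = 2) (hsq : ∀ a ∈ Q, a ^ 2 ∈ F) (hne : ∃ a ∈ Q, a ^ 2 ≠ 1)
    (hV : ∃ y : Y, ∃ q ∈ Q, ⁅y, q⁆ ∉ F) :
    Nonempty (Q ≃* Multiplicative (ZMod 4) × (Fin 3 → Multiplicative (ZMod 2))) := by
  classical
  obtain ⟨R, hRn, hFR, hRQ, hidx, hR16, hRexp, hout, hab, LH, hH8⟩ :=
    one_layer D hFQ hF2 hsq hne hV
  set π := QuotientGroup.mk' F with hπ
  obtain ⟨B, hB, hBi⟩ := exists_basis_of_layer LH hH8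
  choose b hbR hbB using hB
  obtain ⟨w, hwQ, hw2⟩ := hne
  have hwR : w ∉ R := fun h => hw2 (hRexp w h)
  have LR : Layer Q R := ⟨hRn, fun a ha c hc => hab a (hRQ ha) c (hRQ hc), hRexp,
    fun q hq a ha => hab q hq a (hRQ ha), fun h => LH.moved fun y a ha => by
      obtain ⟨a, ha, rfl⟩ := ha
      obtain ⟨y, rfl⟩ := QuotientGroup.mk'_surjective F y
      rw [hπ, ← map_mul, ← map_mul, h y a ha]⟩
  have hw4 : w ^ 4 = 1 := by
    rw [show 4 = 2 * 2 from rfl, pow_mul]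
    exact hRexp _ (hFR (hsq w hwQ))
  let f : Multiplicative (ZMod 4) × (Fin 3 → Multiplicative (ZMod 2)) →* Q :=
    MonoidHom.mk' (fun p => ⟨w ^ (Multiplicative.toAdd p.1).val *
        comb b fun i => Multiplicative.toAdd (p.2 i),
      mul_mem (pow_mem hwQ _) (hRQ (comb_mem hbR _))⟩) fun p q => by
      apply Subtype.ext
      show w ^ (Multiplicative.toAdd p.1 + Multiplicative.toAdd q.1).val *
          comb b ((fun i => Multiplicative.toAdd (p.2 i)) + fun i => Multiplicative.toAdd (q.2 i)) =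
        w ^ (Multiplicative.toAdd p.1).val * comb b (fun i => Multiplicative.toAdd (p.2 i)) *
          (w ^ (Multiplicative.toAdd q.1).val * comb b fun i => Multiplicative.toAdd (q.2 i))
      rw [comb_add LR hbR, ZMod.val_add, ← pow_eq_pow_mod _ hw4, pow_add, mul_assoc, mul_assoc,
        ← mul_assoc (comb b _) (w ^ _), hab _ (hRQ (comb_mem hbR _)) _ (pow_mem hwQ _)]
      simp only [mul_assoc]
  have hinj : Function.Injective f := by
    rw [injective_iff_map_eq_one]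
    rintro ⟨i, v⟩ h
    have h' : w ^ (Multiplicative.toAdd i).val * comb b (fun j => Multiplicative.toAdd (v j)) = 1 :=
      congrArg Subtype.val h
    have hwi : w ^ (Multiplicative.toAdd i).val ∈ R := by
      rw [eq_inv_of_mul_eq_one_left h']
      exact inv_mem (comb_mem hbR _)
    have hlt := ZMod.val_lt (Multiplicative.toAdd i)
    have hi : (Multiplicative.toAdd i).val = 0 ∨ (Multiplicative.toAdd i).val = 2 := by
      generalize (Multiplicative.toAdd i).val = n at hwi hlt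
      interval_cases n
      · exact Or.inl rfl
      · exact absurd (by simpa using hwi) hwR
      · exact Or.inr rfl
      · refine absurd ?_ hwR
        have := mul_mem (inv_mem (hFR (hsq w hwQ))) hwi
        rwa [show (w ^ 2)⁻¹ * w ^ 3 = w by group] at this
    have hπw : π (w ^ (Multiplicative.toAdd i).val) = 1 := by
      rcases hi with hi | hi <;> rw [hi]
      · rw [pow_zero, map_one]
      · exact (QuotientGroup.eq_one_iff _).2 (hsq w hwQ)
    have hv : (fun j => Multiplicative.toAdd (v j)) = 0 := hBi _ (by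
      have h2 := congrArg π h'
      rw [map_mul, hπw, one_mul, map_one, map_comb] at h2
      rw [← h2]
      exact congrArg (fun c => comb c _) (funext fun j => (hbB j).symm))
    rw [hv, comb_zero LR hbR, mul_one] at h'
    have hi0 : (Multiplicative.toAdd i).val = 0 := hi.resolve_right fun e => hw2 (e ▸ h')
    refine Prod.ext ?_ (funext fun j => congr_fun hv j)
    exact (ZMod.val_eq_zero (Multiplicative.toAdd i)).1 hi0
  have hQ32 : Nat.card Q = 32 := by
    have := Subgroup.card_mul_index (R.subgroupOf Q)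
    rw [Nat.card_congr (Subgroup.subgroupOfEquivOfLe hRQ).toEquiv, hR16, hidx] at this
    omega
  refine ⟨(MulEquiv.ofBijective f ((Nat.bijective_iff_injective_and_card _).2 ⟨hinj, ?_⟩)).symm⟩
  rw [hQ32, Nat.card_eq_fintype_card]
  simp

theorem main (D : Seven Y Q) (hV : ∃ y : Y, ∃ x ∈ Q, ⁅y, x⁆ ∉ frat Q) :
    (Cfsg.IsElementaryAbelian 2 Q ∧ (Nat.card Q = 8 ∨ Nat.card Q = 16)) ∨
      Nonempty (Q ≃* Multiplicative (ZMod 4) × (Fin 3 → Multiplicative (ZMod 2))) := by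
  classical
  haveI : Fact (Nat.Prime 2) := ⟨Nat.prime_two⟩
  haveI := D.normal
  haveI := frat_normal D
  by_cases hΦ : frat Q = ⊥
  · left
    have hexp : ∀ x ∈ Q, x ^ 2 = 1 := fun x hx => Subgroup.mem_bot.1 (hΦ ▸ sq_mem_frat D hx)
    have hab : ∀ a ∈ Q, ∀ b ∈ Q, a * b = b * a := fun a ha b hb => congrArg Subtype.val
      (CfsgLib.PGroups.NoSCNThree.comm_of_sq_one (Q := Q) (fun q => Subtype.ext (hexp q q.2))
        ⟨a, ha⟩ ⟨b, hb⟩)
    have LQ : Layer Q Q := ⟨D.normal, hab, hexp, hab, fun h => by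
      obtain ⟨y, x, hx, hyx⟩ := hV
      exact hyx (by rw [commutatorElement_eq_one_iff_mul_comm.2 (h y x hx)]; exact one_mem _)⟩
    exact ⟨⟨⟨⟨fun a b => Subtype.ext (hab a a.2 b b.2)⟩⟩, hexp⟩,
      (LQ.card_cases D).imp (fun h => h.1) fun h => h.1⟩
  right
  obtain ⟨S, hS⟩ := Set.Finite.exists_maximal
    (s := {S : Subgroup Y | S.Normal ∧ S < frat Q}) (Set.toFinite _)
    ⟨⊥, inferInstance, bot_lt_iff_ne_bot.2 hΦ⟩
  obtain ⟨hSn, hSlt⟩ := hS.1
  haveI := hSn
  have hSQ : S ≤ Q := hSlt.le.trans frat_le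
  set π := QuotientGroup.mk' S with hπ
  haveI : ((frat Q).map π).Normal :=
    Subgroup.Normal.map inferInstance π (QuotientGroup.mk'_surjective S)
  obtain ⟨hFne, hFmin⟩ := ConstrainedFive.map_minimal hSlt fun U hU hlt hle =>
    le_antisymm (hS.2 ⟨hU, hlt⟩ hle) hle
  obtain ⟨-, -, hFcard⟩ :=
    bottom_layer (D.quot S hSQ) ((frat Q).map π) (Subgroup.map_mono frat_le) hFne hFmin
  have hsqF : ∀ x ∈ Q.map π, x ^ 2 ∈ (frat Q).map π := by
    rintro _ ⟨x, hx, rfl⟩
    rw [← map_pow]; exact Subgroup.mem_map_of_mem π (sq_mem_frat D hx)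
  have hF2 : Nat.card ((frat Q).map π) = 2 := by
    refine hFcard.resolve_right fun h => ?_
    refine no_eight_layer (D.quot S hSQ) h.2 h.1 (Subgroup.map_mono frat_le) hsqF ?_
    obtain ⟨y, x, hx, hyx⟩ := hV
    refine ⟨π y, π x, Subgroup.mem_map_of_mem π hx, fun h => hyx ?_⟩
    rw [← map_commutatorElement] at h
    exact mem_of_map_mem S hSlt.le h
  have hidxS : S.relIndex (frat Q) = 2 := by
    rw [← hF2, ← Subgroup.relIndex_ker (frat Q) π, QuotientGroup.ker_mk']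
  by_cases hS1 : S = ⊥
  · subst hS1
    rw [Subgroup.relIndex_bot_left] at hidxS
    refine iso_of_one_layer D frat_le hidxS (fun x hx => sq_mem_frat D hx) ?_ hV
    by_contra h
    push Not at h
    exact hΦ (le_bot_iff.1 (frat_le_of_squares D ⊥ fun x hx => Subgroup.mem_bot.2 (h x hx)))
  exfalso
  obtain ⟨T, hT⟩ := Set.Finite.exists_maximal
    (s := {T : Subgroup Y | T.Normal ∧ T < S}) (Set.toFinite _)
    ⟨⊥, inferInstance, bot_lt_iff_ne_bot.2 hS1⟩
  obtain ⟨hTn, hTlt⟩ := hT.1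
  haveI := hTn
  have hTQ : T ≤ Q := hTlt.le.trans hSQ
  set τ := QuotientGroup.mk' T with hτ
  haveI : (S.map τ).Normal := Subgroup.Normal.map inferInstance τ (QuotientGroup.mk'_surjective T)
  haveI : ((frat Q).map τ).Normal :=
    Subgroup.Normal.map inferInstance τ (QuotientGroup.mk'_surjective T)
  obtain ⟨hLne, hLmin⟩ := ConstrainedFive.map_minimal hTlt fun U hU hlt hle =>
    le_antisymm (hT.2 ⟨hU, hlt⟩ hle) hle
  obtain ⟨hLcen, -, hLcard⟩ :=
    bottom_layer (D.quot T hTQ) (S.map τ) (Subgroup.map_mono hSQ) hLne hLmin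
  refine no_three_layer (D.quot T hTQ) (Subgroup.map_mono hSlt.le) (Subgroup.map_mono frat_le)
    hLcen hLcard ?_ ?_ ?_ ?_
  · rw [Subgroup.relIndex_map_map, QuotientGroup.ker_mk', sup_eq_left.2 hTlt.le,
      sup_eq_left.2 (hTlt.le.trans hSlt.le), hidxS]
  · rintro _ ⟨x, hx, rfl⟩
    rw [← map_pow]; exact Subgroup.mem_map_of_mem τ (sq_mem_frat D hx)
  · by_contra h
    push Not at h
    refine hSlt.not_ge (frat_le_of_squares D S fun x hx => ?_)
    refine mem_of_map_mem T hTlt.le ?_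
    rw [map_pow]
    exact h _ (Subgroup.mem_map_of_mem τ hx)
  · obtain ⟨y, x, hx, hyx⟩ := hV
    refine ⟨τ y, τ x, Subgroup.mem_map_of_mem τ hx, fun h => hyx ?_⟩
    rw [← map_commutatorElement] at h
    exact mem_of_map_mem T (hTlt.le.trans hSlt.le) h

end CfsgLib.Small.ConstrainedSeven
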