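import Cfsg.Agent.Lib.Small.ConstrainedFive.Module
import Cfsg.Agent.Lib.Small.SixOnSixteenConstrained

/-!
# Layers of the 2-core below a simple group of order 168

`Q` is a normal 2-subgroup of `Y` with `Y/Q` simple of order 168 and `Y` has sectional 2-rank at
most four. A nontrivial elementary abelian layer has order eight or sixteen; on a layer of order
eight every automorphism is induced by `Y`.
-/

set_option autoImplicit false
set_option linter.unusedSectionVars false
set_option linter.style.haveILetI false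

namespace CfsgLib.Small.ConstrainedSeven

open Subgroup
open scoped commutatorElement

/-- The combination of three columns. -/
def lin {n : ℕ} (M : Fin 3 → Fin 3 → ZMod n) (v : Fin 3 → ZMod n) : Fin 3 → ZMod n :=
  fun i => v 0 * M 0 i + v 1 * M 1 i + v 2 * M 2 i

theorem card_bases :
    Fintype.card {M : Fin 3 → Fin 3 → ZMod 2 // ∀ v, lin M v = 0 → v = 0} = 168 := by
  decide +kernel

/-- The data: a normal 2-subgroup with simple quotient of order 168. -/
structure Seven (Y : Type*) [Group Y] (Q : Subgroup Y) : Prop where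
  normal : Q.Normal
  two : IsPGroup 2 Q
  rank : Cfsg.SectionalPRankLE 2 4 Y
  index : Q.index = 168
  simple : ∀ N : Subgroup Y, N.Normal → Q ≤ N → N = Q ∨ N = ⊤

/-- An elementary abelian normal subgroup centralised by `Q` but not by `Y`. -/
structure Layer {Y : Type*} [Group Y] (Q K : Subgroup Y) : Prop where
  normal : K.Normal
  comm : ∀ a ∈ K, ∀ b ∈ K, a * b = b * a
  exp : ∀ a ∈ K, a ^ 2 = 1
  cent : ∀ q ∈ Q, ∀ a ∈ K, q * a = a * q
  moved : ¬ ∀ y : Y, ∀ a ∈ K, y * a = a * y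

variable {Y : Type*} [Group Y] [Finite Y] {Q : Subgroup Y}

theorem Seven.quot (D : Seven Y Q) (S : Subgroup Y) [S.Normal] (hS : S ≤ Q) :
    Seven (Y ⧸ S) (Q.map (QuotientGroup.mk' S)) := by
  haveI := D.normal
  have hsurj := QuotientGroup.mk'_surjective S
  have hker : (QuotientGroup.mk' S).ker ≤ Q := by rwa [QuotientGroup.ker_mk']
  refine ⟨Subgroup.Normal.map inferInstance _ hsurj, D.two.map _,
    SixOnSixteen.sectionalPRankLE_of_surjective _ hsurj D.rank, ?_, fun N hN hQN => ?_⟩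
  · rw [Subgroup.index_map_eq _ hsurj hker, D.index]
  · have hle : Q ≤ N.comap (QuotientGroup.mk' S) := Subgroup.map_le_iff_le_comap.1 hQN
    rcases D.simple _ (hN.comap _) hle with h | h
    · left; rw [← Subgroup.map_comap_eq_self_of_surjective hsurj N, h]
    · right; rw [← Subgroup.map_comap_eq_self_of_surjective hsurj N, h,
        Subgroup.map_top_of_surjective _ hsurj]

theorem Seven.exists_seven (D : Seven Y Q) : ∃ a : Y, a ∉ Q ∧ a ^ 7 ∈ Q := by
  haveI := D.normal
  haveI : Fact (Nat.Prime 7) := ⟨by norm_num⟩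
  obtain ⟨x, hx⟩ := exists_prime_orderOf_dvd_card' (G := Y ⧸ Q) 7
    (by rw [← Subgroup.index_eq_card, D.index]; norm_num)
  obtain ⟨a, rfl⟩ := QuotientGroup.mk_surjective x
  refine ⟨a, fun h => ?_, (QuotientGroup.eq_one_iff _).1 (by
    rw [QuotientGroup.mk_pow, ← hx, pow_orderOf_eq_one])⟩
  rw [(QuotientGroup.eq_one_iff a).2 h, orderOf_one] at hx
  norm_num at hx

/-- A homomorphism to an abelian group killing `Q` is trivial. -/
theorem Seven.hom_trivial (D : Seven Y Q) {A : Type*} [CommGroup A] (f : Y →* A)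
    (hf : Q ≤ f.ker) (y : Y) : f y = 1 := by
  suffices h : f.ker = ⊤ from MonoidHom.mem_ker.1 (h ▸ mem_top y)
  refine (D.simple _ inferInstance hf).resolve_left fun hQ => ?_
  obtain ⟨a, ha, ha7⟩ := D.exists_seven
  rcases D.simple ((zpowers (f a)).comap f) inferInstance
    (fun q hq => by rw [Subgroup.mem_comap, MonoidHom.mem_ker.1 (hf hq)]; exact one_mem _)
    with h | h
  · exact ha (h ▸ (mem_zpowers (f a) : a ∈ (zpowers (f a)).comap f))
  · have hr : f.range ≤ zpowers (f a) := by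
      rintro _ ⟨x, rfl⟩
      exact (h.ge (mem_top x) : x ∈ (zpowers (f a)).comap f)
    haveI : Finite f.range := Finite.of_surjective _ f.rangeRestrict_surjective
    have h7 : f a ^ 7 = 1 := by rw [← map_pow, MonoidHom.mem_ker.1 (hf ha7)]
    have hfin : IsOfFinOrder (f a) := isOfFinOrder_iff_pow_eq_one.2 ⟨7, by norm_num, h7⟩
    haveI : Finite (zpowers (f a)) := hfin.finite_zpowers
    have h1 : Nat.card f.range ≤ Nat.card (zpowers (f a)) := Subgroup.card_le_of_le hr
    rw [← Subgroup.index_ker, hQ, D.index, Nat.card_zpowers] at h1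
    have := Nat.le_of_dvd (by norm_num) (orderOf_dvd_of_pow_eq_one h7)
    omega

variable {K : Subgroup Y}

theorem Layer.conj_mem (L : Layer Q K) {a : Y} (ha : a ∈ K) (y : Y) : y * a * y⁻¹ ∈ K :=
  L.normal.conj_mem a ha y

theorem Layer.inv_eq (L : Layer Q K) {a : Y} (ha : a ∈ K) : a⁻¹ = a :=
  inv_eq_of_mul_eq_one_right (by rw [← pow_two, L.exp a ha])

/-- The kernel on a layer is exactly `Q`. -/
theorem Layer.mem_of_fix (L : Layer Q K) (D : Seven Y Q) {y : Y}
    (h : ∀ a ∈ K, y * a = a * y) : y ∈ Q := by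
  haveI := L.normal
  have hmem : ∀ x : Y, x ∈ centralizer (K : Set Y) ↔ ∀ a ∈ K, x * a = a * x := fun x => by
    rw [mem_centralizer_iff]
    exact ⟨fun h a ha => (h a ha).symm, fun h a ha => (h a ha).symm⟩
  have hQ : Q ≤ centralizer (K : Set Y) := fun q hq => (hmem q).2 (L.cent q hq)
  rcases D.simple _ inferInstance hQ with hC | hC
  · exact hC ▸ (hmem y).2 h
  · exact absurd (fun x => (hmem x).1 (hC ▸ mem_top x)) L.moved

/-- An element of order seven modulo `Q` fixes one element of a layer of order eight and two of a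
layer of order sixteen; there are no other orders. -/
theorem Layer.card_cases (L : Layer Q K) (D : Seven Y Q) :
    (Nat.card K = 8 ∧ ∀ a : Y, a ∉ Q → a ^ 7 ∈ Q → ∀ k ∈ K, a * k = k * a → k = 1) ∨
      (Nat.card K = 16 ∧ ∀ a : Y, a ∉ Q → a ^ 7 ∈ Q →
        Nat.card (K ⊓ centralizer ({a} : Set Y) : Subgroup Y) = 2) := by
  haveI : Fact (Nat.Prime 7) := ⟨by norm_num⟩
  haveI : Fact (Nat.Prime 2) := ⟨Nat.prime_two⟩
  haveI := L.normal
  have hK2 : IsPGroup 2 K := fun k => ⟨1, Subtype.ext (L.exp k k.2)⟩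
  obtain ⟨i, hi⟩ := IsPGroup.iff_card.1 hK2
  have hi4 : i ≤ 4 := (Nat.pow_le_pow_iff_right (by norm_num : 1 < 2)).1
    ((hi ▸ ConstrainedFive.card_le_sixteen D.rank K L.comm L.exp).trans
      (by norm_num : (16 : ℕ) ≤ 2 ^ 4))
  have key : ∀ a : Y, a ∉ Q → a ^ 7 ∈ Q →
      (i = 3 ∧ Nat.card (K ⊓ centralizer ({a} : Set Y) : Subgroup Y) = 1) ∨
      (i = 4 ∧ Nat.card (K ⊓ centralizer ({a} : Set Y) : Subgroup Y) = 2) := by
    intro a ha ha7
    set C := K ⊓ centralizer ({a} : Set Y) with hC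
    set φ : MulAut K := MulAut.conjNormal a with hφ
    have hm := card_fixed_aut_modEq (p := 7) (φ := φ) (by
        rw [hφ, ← map_pow]
        refine MulEquiv.ext fun k => Subtype.ext ?_
        rw [MulAut.conjNormal_apply, L.cent _ ha7 k k.2, mul_inv_cancel_right]
        rfl)
      (P := fun _ => True) (fun _ _ => trivial)
    have e1 : Nat.card {q : K // True ∧ φ q = q} = Nat.card C := Nat.card_congr
      { toFun := fun q => ⟨q.1, q.1.2, mem_centralizer_singleton_iff.2 (by
          have h : ((MulAut.conjNormal a q.1 : K) : Y) = q.1 := congrArg Subtype.val q.2.2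
          rw [MulAut.conjNormal_apply, mul_inv_eq_iff_eq_mul] at h
          exact h.symm)⟩
        invFun := fun c => ⟨⟨c, c.2.1⟩, trivial, Subtype.ext (by
          show ((MulAut.conjNormal a (⟨c, c.2.1⟩ : K) : K) : Y) = c
          rw [MulAut.conjNormal_apply, mul_inv_eq_iff_eq_mul]
          exact (mem_centralizer_singleton_iff.1 c.2.2).symm)⟩
        left_inv := fun q => rfl
        right_inv := fun c => rfl }
    have e2 : Nat.card {q : K // True} = Nat.card K :=
      Nat.card_congr (Equiv.subtypeUnivEquiv fun _ => trivial)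
    rw [e1, e2] at hm
    have hC2 : IsPGroup 2 C := hK2.of_injective (Subgroup.inclusion inf_le_left)
      (Subgroup.inclusion_injective _)
    obtain ⟨j, hj⟩ := IsPGroup.iff_card.1 hC2
    have hji : j ≤ i := (Nat.pow_le_pow_iff_right (by norm_num : 1 < 2)).1
      (hi ▸ hj ▸ Subgroup.card_le_of_le inf_le_left)
    have hne : j ≠ i := by
      intro he
      have hT : C = K := Subgroup.eq_of_le_of_card_ge inf_le_left (by rw [hj, hi, he])
      exact ha (L.mem_of_fix D fun k hk =>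
        (mem_centralizer_singleton_iff.1 (hT ▸ hk : k ∈ C).2).symm)
    rw [hi, hj] at hm
    have h34 : (i = 3 ∧ j = 0) ∨ (i = 4 ∧ j = 1) := by
      unfold Nat.ModEq at hm
      interval_cases i <;> interval_cases j <;> norm_num at hm <;> omega
    rcases h34 with ⟨h, h'⟩ | ⟨h, h'⟩ <;> rw [hj, h'] <;> simp [h]
  obtain ⟨a₀, ha₀, ha₀7⟩ := D.exists_seven
  rcases key a₀ ha₀ ha₀7 with ⟨h3, -⟩ | ⟨h4, -⟩
  · left
    refine ⟨by rw [hi, h3]; norm_num, fun a ha ha7 k hk hak => ?_⟩
    have h1 := ((key a ha ha7).resolve_right (by omega)).2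
    have : k ∈ K ⊓ centralizer ({a} : Set Y) := ⟨hk, mem_centralizer_singleton_iff.2 hak.symm⟩
    rwa [Subgroup.card_eq_one.1 h1, Subgroup.mem_bot] at this
  · right
    exact ⟨by rw [hi, h4]; norm_num, fun a ha ha7 => ((key a ha ha7).resolve_left (by omega)).2⟩

/-- An element fixed by everything in a layer of order eight is trivial. -/
theorem Layer.fixed_eq_one (L : Layer Q K) (D : Seven Y Q) (h8 : Nat.card K = 8) {k : Y}
    (hk : k ∈ K) (h : ∀ y : Y, y * k = k * y) : k = 1 := by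
  obtain ⟨a, ha, ha7⟩ := D.exists_seven
  exact ((L.card_cases D).resolve_right (fun h' => by omega)).2 a ha ha7 k hk (h a)

/-! ### Bases of a layer of order eight -/

/-- The element with given coordinates. -/
def comb (b : Fin 3 → Y) (v : Fin 3 → ZMod 2) : Y :=
  b 0 ^ (v 0).val * b 1 ^ (v 1).val * b 2 ^ (v 2).val

/-- Three independent elements. -/
def Indep (b : Fin 3 → Y) : Prop := ∀ v, comb b v = 1 → v = 0

theorem comb_mem {b : Fin 3 → Y} (hb : ∀ i, b i ∈ K) (v : Fin 3 → ZMod 2) : comb b v ∈ K :=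
  mul_mem (mul_mem (pow_mem (hb 0) _) (pow_mem (hb 1) _)) (pow_mem (hb 2) _)

theorem comb_conj (b : Fin 3 → Y) (v : Fin 3 → ZMod 2) (y : Y) :
    y * comb b v * y⁻¹ = comb (fun i => y * b i * y⁻¹) v := by
  simp only [comb, conj_pow]
  group

section

variable (L : Layer Q K) {b : Fin 3 → Y} (hb : ∀ i, b i ∈ K)
include L hb

theorem comb_add (v w : Fin 3 → ZMod 2) : comb b (v + w) = comb b v * comb b w := by
  have hc : ∀ i (a c : ZMod 2), b i ^ (a + c).val = b i ^ a.val * b i ^ c.val := by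
    intro i a c
    rw [← pow_add, ZMod.val_add, ← pow_eq_pow_mod _ (L.exp _ (hb i))]
  simp only [comb, Pi.add_apply, hc]
  have h10 := L.comm _ (pow_mem (hb 1) (v 1).val) _ (pow_mem (hb 0) (w 0).val)
  have h20 := L.comm _ (pow_mem (hb 2) (v 2).val) _
    (mul_mem (pow_mem (hb 0) (w 0).val) (pow_mem (hb 1) (w 1).val))
  calc b 0 ^ (v 0).val * b 0 ^ (w 0).val * (b 1 ^ (v 1).val * b 1 ^ (w 1).val) *
        (b 2 ^ (v 2).val * b 2 ^ (w 2).val)
      = b 0 ^ (v 0).val * (b 0 ^ (w 0).val * b 1 ^ (v 1).val) * b 1 ^ (w 1).val *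
        b 2 ^ (v 2).val * b 2 ^ (w 2).val := by group
    _ = b 0 ^ (v 0).val * b 1 ^ (v 1).val *
        ((b 0 ^ (w 0).val * b 1 ^ (w 1).val) * b 2 ^ (v 2).val) * b 2 ^ (w 2).val := by
        rw [← h10]; group
    _ = _ := by rw [← h20]; group

theorem comb_zero : comb b 0 = 1 := by simp [comb]

theorem comb_injective (hi : Indep b) : Function.Injective (comb b) := by
  intro v w h
  have : comb b (v + w) = 1 := by
    rw [comb_add L hb, h, ← pow_two, L.exp _ (comb_mem hb w)]
  have e := hi _ this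
  funext i
  have := congrFun e i
  rw [Pi.add_apply, Pi.zero_apply, CharTwo.add_eq_zero] at this
  exact this

theorem comb_surjective (hi : Indep b) (h8 : Nat.card K = 8) {k : Y} (hk : k ∈ K) :
    ∃ v, comb b v = k := by
  have hinj : Function.Injective (fun v => (⟨comb b v, comb_mem hb v⟩ : K)) := fun v w h =>
    comb_injective L hb hi (congrArg Subtype.val h)
  have hbij := (Nat.bijective_iff_injective_and_card _).2 ⟨hinj, by
    rw [h8, Nat.card_eq_fintype_card]; rfl⟩
  obtain ⟨v, hv⟩ := hbij.2 ⟨k, hk⟩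
  exact ⟨v, congrArg Subtype.val hv⟩

theorem comb_comb (M : Fin 3 → Fin 3 → ZMod 2) (v : Fin 3 → ZMod 2) :
    comb (fun i => comb b (M i)) v = comb b (lin M v) := by
  have hs : ∀ (c : ZMod 2) (w : Fin 3 → ZMod 2),
      comb b w ^ c.val = comb b (fun i => c * w i) := by
    intro c w
    obtain rfl | rfl : c = 0 ∨ c = 1 := by revert c; decide
    · rw [show (fun i : Fin 3 => (0 : ZMod 2) * w i) = 0 from funext fun i => zero_mul _,
        comb_zero L hb, ZMod.val_zero, pow_zero]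
    · simp [show ((1 : ZMod 2).val) = 1 from rfl]
  have : lin M v = (fun i => v 0 * M 0 i) + (fun i => v 1 * M 1 i) + fun i => v 2 * M 2 i := rfl
  rw [this, comb_add L hb, comb_add L hb, ← hs, ← hs, ← hs]
  rfl

end

theorem indep_of {b : Fin 3 → Y} (L : Layer Q K) (hb : ∀ i, b i ∈ K) (h0 : b 0 ≠ 1) (h1 : b 1 ≠ 1)
    (h10 : b 1 ≠ b 0) (h2 : b 2 ≠ 1) (h20 : b 2 ≠ b 0) (h21 : b 2 ≠ b 1)
    (h201 : b 2 ≠ b 0 * b 1) : Indep b := by
  intro v hv
  have hinv : ∀ i, (b i)⁻¹ = b i := fun i => L.inv_eq (hb i)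
  have hcases : ∀ v : Fin 3 → ZMod 2, v = 0 ∨ v = ![1, 0, 0] ∨ v = ![0, 1, 0] ∨ v = ![0, 0, 1] ∨
      v = ![1, 1, 0] ∨ v = ![1, 0, 1] ∨ v = ![0, 1, 1] ∨ v = ![1, 1, 1] := by decide
  have hval : (1 : ZMod 2).val = 1 := rfl
  rcases hcases v with rfl | rfl | rfl | rfl | rfl | rfl | rfl | rfl
  · rfl
  all_goals
    exfalso
    simp [comb, hval, mul_eq_one_iff_eq_inv] at hv
  · exact h0 hv
  · exact h1 hv
  · exact h2 hv
  · exact h10 (by rw [hv, hinv])
  · exact h20 (by rw [hv, hinv])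
  · exact h21 (by rw [hv, hinv])
  · exact h201 (by rw [hv, hinv])

/-- Every nonidentity element starts a basis. -/
theorem exists_basis (L : Layer Q K) (h8 : Nat.card K = 8) {u v : Y} (hu : u ∈ K) (hu1 : u ≠ 1)
    (hv : v ∈ K) (hv1 : v ≠ 1) (huv : v ≠ u) :
    ∃ b : Fin 3 → Y, (∀ i, b i ∈ K) ∧ Indep b ∧ b 0 = u ∧ b 1 = v := by
  classical
  obtain ⟨w, hw, hw1, hwu, hwv, hwuv⟩ : ∃ w ∈ K, w ≠ 1 ∧ w ≠ u ∧ w ≠ v ∧ w ≠ u * v := by
    by_contra h
    push Not at h
    have hle : Nat.card K ≤ ({1, u, v, u * v} : Finset Y).card := by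
      rw [← Nat.card_eq_finsetCard]
      refine Nat.card_le_card_of_injective (fun k : K => (⟨k, ?_⟩ :
        ({1, u, v, u * v} : Finset Y))) fun a b e => Subtype.ext (congrArg Subtype.val e :)
      simp only [Finset.mem_insert, Finset.mem_singleton]
      by_cases h1 : (k : Y) = 1
      · exact Or.inl h1
      by_cases h2 : (k : Y) = u
      · exact Or.inr (Or.inl h2)
      by_cases h3 : (k : Y) = v
      · exact Or.inr (Or.inr (Or.inl h3))
      exact Or.inr (Or.inr (Or.inr (h k k.2 h1 h2 h3)))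
    have := hle.trans Finset.card_le_four
    omega
  refine ⟨![u, v, w], fun i => by fin_cases i <;> assumption,
    indep_of L (fun i => by fin_cases i <;> assumption) hu1 hv1 huv hw1 hwu hwv hwuv, rfl, rfl⟩

/-- Any two bases of a layer of order eight are conjugate. -/
theorem Layer.exists_conj (L : Layer Q K) (D : Seven Y Q) (h8 : Nat.card K = 8)
    {b b' : Fin 3 → Y} (hb : ∀ i, b i ∈ K) (hi : Indep b) (hb' : ∀ i, b' i ∈ K)
    (hi' : Indep b') : ∃ y : Y, ∀ i, y * b i * y⁻¹ = b' i := by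
  haveI := D.normal
  let coord : ∀ y : Y, {M : Fin 3 → Fin 3 → ZMod 2 // ∀ v, lin M v = 0 → v = 0} := fun y =>
    ⟨fun i => (comb_surjective L hb hi h8 (L.conj_mem (hb i) y)).choose, fun v hv => by
      have hspec := fun i => (comb_surjective L hb hi h8 (L.conj_mem (hb i) y)).choose_spec
      have h := comb_comb L hb
        (fun i => (comb_surjective L hb hi h8 (L.conj_mem (hb i) y)).choose) v
      rw [hv, comb_zero L hb] at h
      simp only [hspec] at h
      refine hi v ?_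
      rw [← comb_conj] at h
      rwa [conj_eq_one_iff] at h⟩
  have hcoord : ∀ y i, comb b ((coord y).1 i) = y * b i * y⁻¹ := fun y i =>
    (comb_surjective L hb hi h8 (L.conj_mem (hb i) y)).choose_spec
  have heq : ∀ y y' : Y, coord y = coord y' ↔ (y : Y ⧸ Q) = y' := by
    intro y y'
    rw [QuotientGroup.eq]
    refine ⟨fun h => L.mem_of_fix D fun k hk => ?_, fun h => Subtype.ext (funext fun i => ?_)⟩
    · obtain ⟨v, rfl⟩ := comb_surjective L hb hi h8 hk
      have : y * comb b v * y⁻¹ = y' * comb b v * y'⁻¹ := by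
        rw [comb_conj, comb_conj]
        congr 1
        funext i
        rw [← hcoord, ← hcoord, h]
      calc y⁻¹ * y' * comb b v = y⁻¹ * (y' * comb b v * y'⁻¹) * y' := by group
        _ = y⁻¹ * (y * comb b v * y⁻¹) * y' := by rw [this]
        _ = comb b v * (y⁻¹ * y') := by group
    · apply comb_injective L hb hi
      rw [hcoord, hcoord]
      have hc := L.cent _ h (b i) (hb i)
      calc y * b i * y⁻¹ = y * (b i * (y⁻¹ * y')) * y'⁻¹ := by group
        _ = y * (y⁻¹ * y' * b i) * y'⁻¹ := by rw [hc]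
        _ = y' * b i * y'⁻¹ := by group
  let f : Y ⧸ Q → {M : Fin 3 → Fin 3 → ZMod 2 // ∀ v, lin M v = 0 → v = 0} :=
    fun x => coord x.out
  have hinj : Function.Injective f := fun x x' h => by
    have := (heq _ _).1 h
    rwa [QuotientGroup.out_eq', QuotientGroup.out_eq'] at this
  have hbij := (Nat.bijective_iff_injective_and_card f).2 ⟨hinj, by
    rw [← Subgroup.index_eq_card, D.index, Nat.card_eq_fintype_card, card_bases]⟩
  obtain ⟨M, hM⟩ : ∃ M : Fin 3 → Fin 3 → ZMod 2, ∀ i, comb b (M i) = b' i :=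
    ⟨fun i => (comb_surjective L hb hi h8 (hb' i)).choose,
      fun i => (comb_surjective L hb hi h8 (hb' i)).choose_spec⟩
  have hMi : ∀ v, lin M v = 0 → v = 0 := fun v hv => hi' v (by
    have h := comb_comb L hb M v
    simp only [hM] at h
    rw [h, hv, comb_zero L hb])
  obtain ⟨x, hx⟩ := hbij.2 ⟨M, hMi⟩
  refine ⟨x.out, fun i => ?_⟩
  rw [← hcoord, ← hM]
  exact congrArg (fun T : {M : Fin 3 → Fin 3 → ZMod 2 // ∀ v, lin M v = 0 → v = 0} =>
    comb b (T.1 i)) hx

/-- An element inducing a prescribed automorphism in coordinates. -/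
theorem Layer.exists_lin (L : Layer Q K) (D : Seven Y Q) (h8 : Nat.card K = 8)
    {b : Fin 3 → Y} (hb : ∀ i, b i ∈ K) (hi : Indep b) (M : Fin 3 → Fin 3 → ZMod 2)
    (hM : ∀ v, lin M v = 0 → v = 0) :
    ∃ y : Y, ∀ v, y * comb b v * y⁻¹ = comb b (lin M v) := by
  obtain ⟨y, hy⟩ := L.exists_conj D h8 hb hi (b' := fun i => comb b (M i))
    (fun i => comb_mem hb _) (fun v hv => hM v (hi _ (by rwa [← comb_comb L hb M v])))
  refine ⟨y, fun v => ?_⟩
  rw [comb_conj, ← comb_comb L hb M v]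
  congr 1
  funext i
  exact hy i

/-- Any two distinct nonidentity elements are conjugate to any others. -/
theorem Layer.exists_conj_two (L : Layer Q K) (D : Seven Y Q) (h8 : Nat.card K = 8)
    {u v u' v' : Y} (hu : u ∈ K) (hu1 : u ≠ 1) (hv : v ∈ K) (hv1 : v ≠ 1) (huv : v ≠ u)
    (hu' : u' ∈ K) (hu1' : u' ≠ 1) (hv' : v' ∈ K) (hv1' : v' ≠ 1) (huv' : v' ≠ u') :
    ∃ y : Y, y * u * y⁻¹ = u' ∧ y * v * y⁻¹ = v' := by
  obtain ⟨b, hb, hbi, rfl, rfl⟩ := exists_basis L h8 hu hu1 hv hv1 huv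
  obtain ⟨b', hb', hbi', rfl, rfl⟩ := exists_basis L h8 hu' hu1' hv' hv1' huv'
  obtain ⟨y, hy⟩ := L.exists_conj D h8 hb hbi hb' hbi'
  exact ⟨y, hy 0, hy 1⟩

/-- Any two nonidentity elements are conjugate. -/
theorem Layer.exists_conj_one (L : Layer Q K) (D : Seven Y Q) (h8 : Nat.card K = 8)
    {u u' : Y} (hu : u ∈ K) (hu1 : u ≠ 1) (hu' : u' ∈ K) (hu1' : u' ≠ 1) :
    ∃ y : Y, y * u * y⁻¹ = u' := by
  have hex : ∀ x ∈ K, x ≠ 1 → ∃ w ∈ K, w ≠ 1 ∧ w ≠ x := by
    intro x hx hx1
    by_contra h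
    push Not at h
    have hle : K ≤ zpowers x := fun w hw => by
      by_cases hw1 : w = 1
      · rw [hw1]; exact one_mem _
      · rw [h w hw hw1]; exact mem_zpowers x
    have h2 : orderOf x ≤ 2 :=
      Nat.le_of_dvd (by norm_num) (orderOf_dvd_of_pow_eq_one (L.exp x hx))
    have := Subgroup.card_le_of_le hle
    rw [Nat.card_zpowers, h8] at this
    omega
  obtain ⟨v, hv, hv1, hvu⟩ := hex u hu hu1
  obtain ⟨v', hv', hv1', hvu'⟩ := hex u' hu' hu1'
  obtain ⟨y, hy, -⟩ := L.exists_conj_two D h8 hu hu1 hv hv1 hvu hu' hu1' hv' hv1' hvu'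
  exact ⟨y, hy⟩

end CfsgLib.Small.ConstrainedSeven
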