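import Cfsg.Agent.Lib.Small.ConstrainedSeven.TwoLayer

/-!
# A centralised Frattini layer of order two

The group is `ℤ/4 × E₈`.
-/

set_option autoImplicit false
set_option linter.unusedSectionVars false
set_option linter.style.haveILetI false

namespace CfsgLib.Small.ConstrainedSeven

open Subgroup
open scoped commutatorElement

variable {Y : Type*} [Group Y] [Finite Y] {Q : Subgroup Y}

theorem exists_two_outside {Z : Type*} [Group Z] [Finite Z] {QZ M : Subgroup Z}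
    (L : Layer QZ M) (h : Nat.card M = 8) (p : Z) (hp : p ∈ M) :
    ∃ q ∈ M, q ≠ 1 ∧ q ≠ p := by
  by_contra h'
  push Not at h'
  have hle : M ≤ zpowers p := fun x hx => by
    by_cases hx1 : x = 1
    · rw [hx1]; exact one_mem _
    · rw [h' x hx hx1]; exact mem_zpowers p
  have := Subgroup.card_le_of_le hle
  have := Nat.le_of_dvd (by norm_num) (orderOf_dvd_of_pow_eq_one (L.exp p hp))
  rw [Nat.card_zpowers, h] at *
  omega

theorem exists_basis_of_layer {Z : Type*} [Group Z] [Finite Z] {QZ M : Subgroup Z}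
    (L : Layer QZ M) (h : Nat.card M = 8) : ∃ b : Fin 3 → Z, (∀ i, b i ∈ M) ∧ Indep b := by
  obtain ⟨p, hp, hp1, -⟩ := exists_two_outside L h 1 (one_mem M)
  obtain ⟨p', hp', hp1', hpp⟩ := exists_two_outside L h p hp
  obtain ⟨B, hB, hBi, -, -⟩ := exists_basis L h hp hp1 hp' hp1' hpp
  exact ⟨B, hB, hBi⟩

section

variable {Z : Type*} [Group Z] [Finite Z] {QZ : Subgroup Z}

/-- Commutators in a centralised group over a natural quotient are trivial. -/
theorem abelian_of_trivial (DZ : Seven Z QZ) (π : Y →* Z) (hπ : Function.Surjective π)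
    {F U R : Subgroup Y} (hker : π.ker = U) (hn : R.Normal)
    (hcen : ∀ u ∈ U, ∀ a ∈ R, u * a = a * u) (hcomm : ∀ a ∈ R, ∀ c ∈ R, ⁅a, c⁆ ∈ F)
    (hFc : ∀ y : Y, ∀ k ∈ F, y * k = k * y) (LR : Layer QZ (R.map π))
    (hR8 : Nat.card (R.map π) = 8) : ∀ a ∈ R, ∀ c ∈ R, a * c = c * a := by
  intro a ha c hc
  rw [← commutatorElement_eq_one_iff_mul_comm]
  have hmul : ∀ x ∈ R, ∀ d ∈ R, ∀ e ∈ R, ⁅x, d * e⁆ = ⁅x, d⁆ * ⁅x, e⁆ := fun x hx d hd e he => by
    rw [show ⁅x, d * e⁆ = ⁅x, d⁆ * (d * ⁅x, e⁆ * d⁻¹) by simp only [commutatorElement_def]; group,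
      hFc d _ (hcomm x hx e he), mul_inv_cancel_right]
  have hmodU : ∀ x ∈ R, ∀ d ∈ R, ∀ d' ∈ R, π d = π d' → ⁅x, d⁆ = ⁅x, d'⁆ := by
    intro x hx d hd d' hd' e
    have hu : d'⁻¹ * d ∈ U := hker ▸ (MonoidHom.eq_iff π).1 e
    conv_lhs => rw [← mul_inv_cancel_left d' d]
    rw [hmul x hx d' hd' _ (mul_mem (inv_mem hd') hd),
      commutatorElement_eq_one_iff_mul_comm.2 (hcen _ hu x hx).symm, mul_one]
  have hmodU' : ∀ x ∈ R, ∀ x' ∈ R, ∀ d ∈ R, π x = π x' → ⁅x, d⁆ = ⁅x', d⁆ := fun x hx x' hx' d hd e => by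
    rw [← commutatorElement_inv, hmodU d hd x hx x' hx' e, commutatorElement_inv]
  by_cases h1 : π a = 1
  · rw [hmodU' a ha 1 (one_mem R) c hc (by rw [h1, map_one]), commutatorElement_one_left]
  by_cases h2 : π c = 1
  · rw [hmodU a ha c hc 1 (one_mem R) (by rw [h2, map_one]), commutatorElement_one_right]
  by_cases h3 : π c = π a
  · rw [hmodU a ha c hc a ha h3, commutatorElement_self]
  obtain ⟨B, hB, hBi, hB0, hB1⟩ := exists_basis LR hR8 (Subgroup.mem_map_of_mem π ha) h1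
    (Subgroup.mem_map_of_mem π hc) h2 h3
  obtain ⟨d, hd, hdB⟩ := hB 2
  obtain ⟨h21, h20, h2b, h2ab⟩ := hBi.third LR hB
  rw [hB0] at h20
  rw [← hdB] at h21 h20
  have key : ∀ c' ∈ R, π c' ≠ 1 → π c' ≠ π a → ⁅a, c'⁆ = ⁅a, c⁆ := by
    intro c' hc' hc1' hca'
    obtain ⟨yb, hy1, hy2⟩ := LR.exists_conj_two DZ hR8 (Subgroup.mem_map_of_mem π ha) h1
      (Subgroup.mem_map_of_mem π hc) h2 h3 (Subgroup.mem_map_of_mem π ha) h1
      (Subgroup.mem_map_of_mem π hc') hc1' hca'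
    obtain ⟨y, rfl⟩ := hπ yb
    have ha' : π (y * a * y⁻¹) = π a := by rw [map_mul, map_mul, map_inv, hy1]
    have hc'' : π (y * c * y⁻¹) = π c' := by rw [map_mul, map_mul, map_inv, hy2]
    rw [← hmodU a ha _ (hn.conj_mem c hc y) c' hc' hc'',
      ← hmodU' _ (hn.conj_mem a ha y) a ha _ (hn.conj_mem c hc y) ha',
      show ⁅y * a * y⁻¹, y * c * y⁻¹⁆ = y * ⁅a, c⁆ * y⁻¹ by
        simp only [commutatorElement_def]; group, hFc y _ (hcomm a ha c hc), mul_inv_cancel_right]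
  have hcd : π (c * d) ≠ 1 ∧ π (c * d) ≠ π a := by
    rw [map_mul, hdB, ← hB1, ← hB0]
    refine ⟨fun e => h2b ?_, fun e => h2ab ?_⟩
    · rw [eq_inv_of_mul_eq_one_right e, LR.inv_eq (hB 1)]
    · rw [← e, LR.comm _ (hB 1) _ (hB 2), mul_assoc, ← pow_two, LR.exp _ (hB 1), mul_one]
  have e2 := key (c * d) (mul_mem hc hd) hcd.1 hcd.2
  rw [hmul a ha c hc d hd, key d hd h21 h20, mul_eq_left] at e2
  exact e2

/-- Over a natural quotient and a centralised group the squares are trivial. -/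
theorem elementary_of_trivial (DZ : Seven Z QZ) (π : Y →* Z) (hπ : Function.Surjective π)
    {F U R : Subgroup Y} (hker : π.ker = U) (hn : R.Normal)
    (hcen : ∀ u ∈ U, ∀ a ∈ R, u * a = a * u) (hexp : ∀ u ∈ U, u ^ 2 = 1)
    (hsq : ∀ a ∈ R, a ^ 2 ∈ F) (hcomm : ∀ a ∈ R, ∀ c ∈ R, ⁅a, c⁆ ∈ F)
    (hFc : ∀ y : Y, ∀ k ∈ F, y * k = k * y) (LR : Layer QZ (R.map π))
    (hR8 : Nat.card (R.map π) = 8) :
    (∀ a ∈ R, a ^ 2 = 1) ∧ ∀ a ∈ R, ∀ c ∈ R, a * c = c * a := by
  have hab := abelian_of_trivial DZ π hπ hker hn hcen hcomm hFc LR hR8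
  refine ⟨fun a ha => ?_, hab⟩
  by_cases h1 : π a = 1
  · exact hexp a (hker ▸ MonoidHom.mem_ker.2 h1)
  obtain ⟨q, ⟨c, hc, rfl⟩, hc1, hca⟩ :=
    exists_two_outside LR hR8 (π a) (Subgroup.mem_map_of_mem π ha)
  have key : ∀ x ∈ R, π x ≠ 1 → x ^ 2 = a ^ 2 := by
    intro x hx hx1
    obtain ⟨yb, hy⟩ := LR.exists_conj_one DZ hR8 (Subgroup.mem_map_of_mem π ha) h1
      (Subgroup.mem_map_of_mem π hx) hx1
    obtain ⟨y, rfl⟩ := hπ yb
    have e : π (y * a * y⁻¹) = π x := by rw [map_mul, map_mul, map_inv, hy]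
    have hu : x⁻¹ * (y * a * y⁻¹) ∈ U := hker ▸ (MonoidHom.eq_iff π).1 e
    have h2 : (y * a * y⁻¹) ^ 2 = a ^ 2 := by
      rw [conj_pow, hFc y _ (hsq a ha), mul_inv_cancel_right]
    rw [← h2]
    conv_rhs => rw [← mul_inv_cancel_left x (y * a * y⁻¹)]
    rw [Commute.mul_pow (hcen _ hu x hx).symm, hexp _ hu, mul_one]
  have hac : π (a * c) ≠ 1 := fun e => hca (by
    rw [map_mul] at e
    rw [eq_inv_of_mul_eq_one_right e, LR.inv_eq (Subgroup.mem_map_of_mem π ha)])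
  have h3 := key (a * c) (mul_mem ha hc) hac
  rw [Commute.mul_pow (hab a ha c hc), key c hc hc1, mul_eq_left] at h3
  exact h3

/-- A map into a central subgroup, additive and invariant on a natural quotient, is trivial. -/
theorem additive_invariant_trivial (DZ : Seven Z QZ) (π : Y →* Z) (hπ : Function.Surjective π)
    {R : Subgroup Y} (LR : Layer QZ (R.map π)) (hR8 : Nat.card (R.map π) = 8) (f : Y → Y)
    (hmul : ∀ a ∈ R, ∀ c ∈ R, f (a * c) = f a * f c)
    (hinv : ∀ y : Y, ∀ a ∈ R, ∀ a' ∈ R, π a' = π y * π a * (π y)⁻¹ → f a' = f a) :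
    ∀ a ∈ R, π a ≠ 1 → f a = 1 := by
  intro a ha h1
  obtain ⟨q, ⟨c, hc, rfl⟩, hc1, hca⟩ :=
    exists_two_outside LR hR8 (π a) (Subgroup.mem_map_of_mem π ha)
  have key : ∀ x ∈ R, π x ≠ 1 → f x = f a := by
    intro x hx hx1
    obtain ⟨yb, hy⟩ := LR.exists_conj_one DZ hR8 (Subgroup.mem_map_of_mem π ha) h1
      (Subgroup.mem_map_of_mem π hx) hx1
    obtain ⟨y, rfl⟩ := hπ yb
    exact hinv y a ha x hx hy.symm
  have hac : π (a * c) ≠ 1 := fun e => hca (by
    rw [map_mul] at e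
    rw [eq_inv_of_mul_eq_one_right e, LR.inv_eq (Subgroup.mem_map_of_mem π ha)])
  have h3 := key (a * c) (mul_mem ha hc) hac
  rwa [hmul a ha c hc, key c hc hc1, mul_eq_left] at h3

end

/-- A centralised layer of order two. -/
theorem one_layer (D : Seven Y Q) {F : Subgroup Y} [hFn : F.Normal] (hFQ : F ≤ Q)
    (hF2 : Nat.card F = 2) (hsq : ∀ a ∈ Q, a ^ 2 ∈ F) (hne : ∃ a ∈ Q, a ^ 2 ≠ 1)
    (hV : ∃ y : Y, ∃ q ∈ Q, ⁅y, q⁆ ∉ F) :
    ∃ R : Subgroup Y, R.Normal ∧ F ≤ R ∧ R ≤ Q ∧ (R.subgroupOf Q).index = 2 ∧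
      Nat.card R = 16 ∧ (∀ a ∈ R, a ^ 2 = 1) ∧ (∀ a ∈ Q, a ∉ R → a ^ 2 ≠ 1) ∧
      (∀ a ∈ Q, ∀ c ∈ Q, a * c = c * a) ∧
      Layer (Q.map (QuotientGroup.mk' F)) (R.map (QuotientGroup.mk' F)) ∧
      Nat.card (R.map (QuotientGroup.mk' F)) = 8 := by
  classical
  haveI := D.normal
  have hFc := fixed_of_card_two F hF2
  have hFexp : ∀ k ∈ F, k ^ 2 = 1 := fun k hk => by
    have := congrArg Subtype.val (pow_card_eq_one' (x := (⟨k, hk⟩ : F)))
    rwa [hF2] at this
  have hcomm : ∀ a ∈ Q, ∀ c ∈ Q, ⁅a, c⁆ ∈ F := fun a ha c hc => commutator_mem_of_sq hsq ha hc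
  set π := QuotientGroup.mk' F with hπdef
  have hπF : ∀ x, π x = 1 ↔ x ∈ F := fun x => QuotientGroup.eq_one_iff x
  have hsurjπ := QuotientGroup.mk'_surjective F
  have DF := D.quot F hFQ
  have LK := top_layer D F hsq hV
  rw [← hπdef] at LK
  rcases LK.card_cases DF with ⟨h8, -⟩ | ⟨h16, -⟩
  · exfalso
    obtain ⟨hexp, -⟩ := elementary_of_trivial DF π hsurjπ (QuotientGroup.ker_mk' F) D.normal
      (fun u hu a _ => (hFc a u hu).symm) hFexp hsq hcomm hFc LK h8
    obtain ⟨a, ha, ha2⟩ := hne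
    exact ha2 (hexp a ha)
  have hQ32 : Nat.card Q = 32 := by
    have := Subgroup.card_mul_index (F.subgroupOf Q)
    rw [Nat.card_congr (Subgroup.subgroupOfEquivOfLe hFQ).toEquiv, hF2] at this
    rw [hπdef, ← Subgroup.relIndex_ker Q (QuotientGroup.mk' F), QuotientGroup.ker_mk',
      Subgroup.relIndex] at h16
    rw [h16] at this
    omega
  have hH : ∃ H : Subgroup (Y ⧸ F), H.Normal ∧ H ≤ Q.map π ∧ Nat.card H = 8 := by
    by_contra hH
    obtain ⟨zb, hzb, hzb1, hzbc⟩ := (fixed_or_hyperplane LK DF h16).resolve_right hH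
    obtain ⟨u, huQ, rfl⟩ := hzb
    set S := zpowers (π u) with hSdef
    haveI : S.Normal := ⟨fun a ha y => by
      obtain ⟨i, rfl⟩ := ha
      show y * π u ^ i * y⁻¹ ∈ S
      rw [(show Commute y (π u) from hzbc y).zpow_right i |>.eq, mul_inv_cancel_right]
      exact zpow_mem (mem_zpowers (π u)) i⟩
    have hSK : S ≤ Q.map π := zpowers_le.2 (Subgroup.mem_map_of_mem π huQ)
    have hS2 : Nat.card S = 2 := by
      rw [Nat.card_zpowers, orderOf_eq_prime (LK.exp _ (Subgroup.mem_map_of_mem π huQ)) hzb1]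
    have hSfix : ∀ y : Y ⧸ F, ∀ s ∈ S, y * s = s * y := by
      rintro y s ⟨i, rfl⟩
      exact (show Commute y (π u) from hzbc y).zpow_right i
    obtain ⟨LM0, hM80⟩ := natural_quot LK DF le_rfl h16 S hSK hS2 hSfix
    set π' : Y →* (Y ⧸ F) ⧸ S := (QuotientGroup.mk' S).comp π with hπ'
    have hπ's : Function.Surjective π' := (QuotientGroup.mk'_surjective S).comp hsurjπ
    have hmap : (Q.map π).map (QuotientGroup.mk' S) = Q.map π' := Subgroup.map_map _ _ _
    have DM : Seven ((Y ⧸ F) ⧸ S) (Q.map π') := hmap ▸ DF.quot S hSK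
    have LM : Layer (Q.map π') (Q.map π') := hmap ▸ LM0
    have hM8 : Nat.card (Q.map π') = 8 := hmap ▸ hM80
    have hUmem : ∀ x, x ∈ π'.ker ↔ π x ∈ S := fun x =>
      MonoidHom.mem_ker.trans (QuotientGroup.eq_one_iff (π x))
    have hUdec : ∀ x ∈ π'.ker, x ∈ F ∨ u⁻¹ * x ∈ F := by
      intro x hx
      obtain ⟨i, hi⟩ := (hUmem x).1 hx
      have h2 : π u ^ (2 : ℤ) = 1 := by
        exact_mod_cast LK.exp _ (Subgroup.mem_map_of_mem π huQ)
      rcases Int.even_or_odd i with ⟨j, rfl⟩ | ⟨j, rfl⟩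
      · left
        rw [← hπF, ← hi]
        show π u ^ (j + j) = 1
        rw [← two_mul, zpow_mul, h2, one_zpow]
      · right
        rw [← hπF, map_mul, map_inv, ← hi]
        show (π u)⁻¹ * π u ^ (2 * j + 1) = 1
        rw [zpow_add, zpow_mul, h2, one_zpow, one_mul, zpow_one, inv_mul_cancel]
    have hu : u ∈ π'.ker := (hUmem u).2 (mem_zpowers _)
    have hcu : ∀ v, u⁻¹ * v ∈ F → u * v = v * u := by
      intro v hv
      have e := hFc u _ hv
      rw [mul_inv_cancel_left] at e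
      calc u * v = u * (u⁻¹ * v * u) := by rw [← e]
        _ = v * u := by group
    -- `u` is central in `Q`
    have hucen : ∀ a ∈ Q, u * a = a * u := by
      intro a ha
      rw [← commutatorElement_eq_one_iff_mul_comm]
      by_cases h1 : π' a = 1
      · rcases hUdec a h1 with h | h
        · exact commutatorElement_eq_one_iff_mul_comm.2 (hFc u a h)
        · exact commutatorElement_eq_one_iff_mul_comm.2 (hcu a h)
      refine additive_invariant_trivial DM π' hπ's LM hM8 (fun a => ⁅u, a⁆) (fun a ha c hc => ?_)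
        (fun y a ha a' ha' e => ?_) a ha h1
      · show ⁅u, a * c⁆ = ⁅u, a⁆ * ⁅u, c⁆
        rw [show ⁅u, a * c⁆ = ⁅u, a⁆ * (a * ⁅u, c⁆ * a⁻¹) by
          simp only [commutatorElement_def]; group, hFc a _ (hcomm u huQ c hc), mul_inv_cancel_right]
      show ⁅u, a'⁆ = ⁅u, a⁆
      have hk : (y * a * y⁻¹)⁻¹ * a' ∈ π'.ker :=
        (MonoidHom.eq_iff π').1 (by rw [e, map_mul, map_mul, map_inv])
      have huU : ∀ v ∈ π'.ker, ⁅u, v⁆ = 1 := fun v hv => by
        rcases hUdec v hv with h | h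
        · exact commutatorElement_eq_one_iff_mul_comm.2 (hFc u v h)
        · exact commutatorElement_eq_one_iff_mul_comm.2 (hcu v h)
      have hd : u⁻¹ * (y⁻¹ * u * y) ∈ F := by
        rw [← hπF, map_mul, map_inv, map_mul, map_mul, map_inv, hzbc (π y)⁻¹]
        group
      rw [← mul_inv_cancel_left (y * a * y⁻¹) a',
        show ⁅u, y * a * y⁻¹ * ((y * a * y⁻¹)⁻¹ * a')⁆ = ⁅u, y * a * y⁻¹⁆ *
          (y * a * y⁻¹ * ⁅u, (y * a * y⁻¹)⁻¹ * a'⁆ * (y * a * y⁻¹)⁻¹) by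
          simp only [commutatorElement_def]; group, huU _ hk, mul_one, mul_inv_cancel, mul_one,
        show ⁅u, y * a * y⁻¹⁆ = y * ⁅y⁻¹ * u * y, a⁆ * y⁻¹ by
          simp only [commutatorElement_def]; group]
      conv_lhs => rw [← mul_inv_cancel_left u (y⁻¹ * u * y)]
      rw [show ⁅u * (u⁻¹ * (y⁻¹ * u * y)), a⁆ = u * ⁅u⁻¹ * (y⁻¹ * u * y), a⁆ * u⁻¹ * ⁅u, a⁆ by
          simp only [commutatorElement_def]; group,
        commutatorElement_eq_one_iff_mul_comm.2 (hFc a _ hd).symm, mul_one, mul_inv_cancel, one_mul,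
        hFc y _ (hcomm u huQ a ha), mul_inv_cancel_right]
    have hUcen : ∀ v ∈ π'.ker, ∀ a ∈ Q, v * a = a * v := by
      intro v hv a ha
      rcases hUdec v hv with h | h
      · exact (hFc a v h).symm
      · rw [← mul_inv_cancel_left u v, mul_assoc, ← hFc a _ h, ← mul_assoc, hucen a ha, mul_assoc]
    have hQab := abelian_of_trivial DM π' hπ's rfl D.normal hUcen hcomm hFc LM hM8
    by_cases hu2 : u ^ 2 = 1
    · obtain ⟨hexp, -⟩ := elementary_of_trivial DM π' hπ's rfl D.normal hUcen (fun v hv => by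
        rcases hUdec v hv with h | h
        · exact hFexp v h
        · rw [← mul_inv_cancel_left u v, Commute.mul_pow (hFc u _ h), hu2, hFexp _ h, mul_one])
        hsq hcomm hFc LM hM8
      obtain ⟨a, ha, ha2⟩ := hne
      exact ha2 (hexp a ha)
    -- otherwise the involutions form a hyperplane
    let φ : Q →* F := MonoidHom.mk' (fun a => ⟨(a : Y) ^ 2, hsq a a.2⟩) fun a c =>
      Subtype.ext (Commute.mul_pow (hQab a a.2 c c.2) 2)
    set W := φ.ker.map Q.subtype with hW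
    have hWmem : ∀ a, a ∈ W ↔ a ∈ Q ∧ a ^ 2 = 1 := fun a => by
      refine ⟨?_, fun h => ⟨⟨a, h.1⟩, MonoidHom.mem_ker.2 (Subtype.ext h.2), rfl⟩⟩
      rintro ⟨c, hc, rfl⟩
      exact ⟨c.2, congrArg Subtype.val (MonoidHom.mem_ker.1 hc)⟩
    have hW16 : Nat.card W = 16 := by
      have h := Subgroup.card_mul_index φ.ker
      have hr : Nat.card φ.range = 2 := by
        refine le_antisymm (hF2 ▸ Subgroup.card_le_card_group _) ?_
        refine (Subgroup.one_lt_card_iff_ne_bot _).2 fun e => ?_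
        have h1 : φ ⟨u, huQ⟩ ∈ φ.range := ⟨⟨u, huQ⟩, rfl⟩
        rw [e, Subgroup.mem_bot] at h1
        exact hu2 (congrArg (fun k : F => (k : Y)) h1)
      rw [Subgroup.index_ker, hr, hQ32] at h
      rw [hW, Subgroup.card_subtype]
      omega
    have hWn : W.Normal := ⟨fun a ha y => (hWmem _).2 ⟨D.normal.conj_mem a ((hWmem a).1 ha).1 y, by
      rw [conj_pow, ((hWmem a).1 ha).2, mul_one, mul_inv_cancel]⟩⟩
    refine hH ⟨W.map π, hWn.map π hsurjπ, Subgroup.map_mono fun a ha => ((hWmem a).1 ha).1, ?_⟩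
    have hFW : F ≤ W := fun k hk => (hWmem k).2 ⟨hFQ hk, hFexp k hk⟩
    have := Subgroup.card_mul_index (F.subgroupOf W)
    rw [Nat.card_congr (Subgroup.subgroupOfEquivOfLe hFW).toEquiv, hF2, hW16] at this
    rw [← Subgroup.relIndex_ker W π, QuotientGroup.ker_mk', Subgroup.relIndex]
    omega
  obtain ⟨H, hHn, hHK, hH8⟩ := hH
  set R := H.comap π with hRdef
  have hRn : R.Normal := hHn.comap π
  have hRQ : R ≤ Q := fun a ha => mem_of_map_mem F hFQ (hHK ha)
  have hFR : F ≤ R := fun a ha => by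
    rw [hRdef, Subgroup.mem_comap, (hπF a).2 ha]; exact one_mem H
  have hRmap : R.map π = H := Subgroup.map_comap_eq_self_of_surjective hsurjπ H
  have hR16 : Nat.card R = 16 := by
    have := Subgroup.card_mul_index (F.subgroupOf R)
    rw [Nat.card_congr (Subgroup.subgroupOfEquivOfLe hFR).toEquiv, hF2] at this
    rw [← hRmap, ← Subgroup.relIndex_ker R π, QuotientGroup.ker_mk', Subgroup.relIndex] at hH8
    rw [hH8] at this
    omega
  have hidx : (R.subgroupOf Q).index = 2 := by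
    have := Subgroup.card_mul_index (R.subgroupOf Q)
    rw [Nat.card_congr (Subgroup.subgroupOfEquivOfLe hRQ).toEquiv, hR16, hQ32] at this
    omega
  have LH : Layer (Q.map π) (R.map π) := hRmap ▸ LK.sub DF h16 hHn hHK hH8
  have hH8' : Nat.card (R.map π) = 8 := by rw [hRmap]; exact hH8
  obtain ⟨hRexp, hRab⟩ := elementary_of_trivial DF π hsurjπ (QuotientGroup.ker_mk' F) hRn
    (fun u hu a _ => (hFc a u hu).symm) hFexp (fun a ha => hsq a (hRQ ha))
    (fun a ha c hc => hcomm a (hRQ ha) c (hRQ hc)) hFc LH hH8'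
  obtain ⟨w, hwQ, hw2⟩ := hne
  have hwR : w ∉ R := fun h => hw2 (hRexp w h)
  have hwc : ∀ a ∈ R, w * a = a * w := by
    intro a ha
    rw [← commutatorElement_eq_one_iff_mul_comm]
    by_cases h1 : π a = 1
    · exact commutatorElement_eq_one_iff_mul_comm.2 (hFc w a ((hπF a).1 h1))
    refine additive_invariant_trivial DF π hsurjπ LH hH8' (fun a => ⁅w, a⁆) (fun a ha c hc => ?_)
      (fun y a ha a' ha' e => ?_) a ha h1
    · show ⁅w, a * c⁆ = ⁅w, a⁆ * ⁅w, c⁆
      rw [show ⁅w, a * c⁆ = ⁅w, a⁆ * (a * ⁅w, c⁆ * a⁻¹) by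
        simp only [commutatorElement_def]; group, hFc a _ (hcomm w hwQ c (hRQ hc)),
        mul_inv_cancel_right]
    show ⁅w, a'⁆ = ⁅w, a⁆
    have hk : (y * a * y⁻¹)⁻¹ * a' ∈ F := by
      rw [← hπF, map_mul, map_inv, e, map_mul, map_mul, map_inv, inv_mul_cancel]
    have hw' : y⁻¹ * w * y ∈ Q := by
      have := D.normal.conj_mem w hwQ y⁻¹; rwa [inv_inv] at this
    have hw'R : y⁻¹ * w * y ∉ R := fun h => hwR (by
      have := hRn.conj_mem _ h y
      rwa [show y * (y⁻¹ * w * y) * y⁻¹ = w by group] at this)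
    have hr := commute_of_index_two hidx hwQ hwR hw' hw'R
    rw [← mul_inv_cancel_left (y * a * y⁻¹) a',
      show ⁅w, y * a * y⁻¹ * ((y * a * y⁻¹)⁻¹ * a')⁆ = ⁅w, y * a * y⁻¹⁆ *
        (y * a * y⁻¹ * ⁅w, (y * a * y⁻¹)⁻¹ * a'⁆ * (y * a * y⁻¹)⁻¹) by
        simp only [commutatorElement_def]; group,
      commutatorElement_eq_one_iff_mul_comm.2 (hFc w _ hk), mul_one, mul_inv_cancel, mul_one,
      show ⁅w, y * a * y⁻¹⁆ = y * ⁅y⁻¹ * w * y, a⁆ * y⁻¹ by
        simp only [commutatorElement_def]; group]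
    conv_lhs => rw [← mul_inv_cancel_left w (y⁻¹ * w * y)]
    rw [show ⁅w * (w⁻¹ * (y⁻¹ * w * y)), a⁆ = w * ⁅w⁻¹ * (y⁻¹ * w * y), a⁆ * w⁻¹ * ⁅w, a⁆ by
        simp only [commutatorElement_def]; group,
      commutatorElement_eq_one_iff_mul_comm.2 (hRab _ hr a ha), mul_one, mul_inv_cancel, one_mul,
      hFc y _ (hcomm w hwQ a (hRQ ha)), mul_inv_cancel_right]
  have hQR : ∀ a ∈ Q, ∀ c ∈ R, a * c = c * a := by
    intro a ha c hc
    by_cases haR : a ∈ R
    · exact hRab a haR c hc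
    have hr := commute_of_index_two hidx hwQ hwR ha haR
    rw [← mul_inv_cancel_left w a, mul_assoc, hRab _ hr c hc, ← mul_assoc, hwc c hc, mul_assoc]
  refine ⟨R, hRn, hFR, hRQ, hidx, hR16, hRexp, fun a ha haR => ?_, fun a ha c hc => ?_, LH, hH8'⟩
  · have hr := commute_of_index_two hidx hwQ hwR ha haR
    rw [← mul_inv_cancel_left w a, Commute.mul_pow (hwc _ hr), hRexp _ hr, mul_one]
    exact hw2
  · by_cases hcR : c ∈ R
    · exact hQR a ha c hcR
    by_cases haR : a ∈ R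
    · exact (hQR c hc a haR).symm
    have hr := commute_of_index_two hidx hwQ hwR hc hcR
    have hra := commute_of_index_two hidx hwQ hwR ha haR
    have haw : a * w = w * a := by
      rw [← mul_inv_cancel_left w a, mul_assoc w, ← hwc _ hra]
    rw [← mul_inv_cancel_left w c, ← mul_assoc a w, haw, mul_assoc w a, hQR a ha _ hr,
      ← mul_assoc w]

end CfsgLib.Small.ConstrainedSeven
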