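import Cfsg.Agent.Lib.Small.ConstrainedSeven.Sixteen

/-!
# Elementary sections of order thirty-two
-/

set_option autoImplicit false
set_option linter.unusedSectionVars false
set_option linter.style.haveILetI false

namespace CfsgLib.Small.ConstrainedSeven

open Subgroup
open scoped commutatorElement

variable {Y : Type*} [Group Y] [Finite Y] {Q : Subgroup Y}

/-- Generators commuting and squaring into `N`, with enough representatives, give a section that
contradicts the rank bound. -/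
theorem section_false (D : Seven Y Q) {N M : Subgroup Y} (hNM : N ≤ M) (hMQ : M ≤ Q)
    (G : Set Y) (hMG : (M : Set Y) ⊆ closure G) (hsq : ∀ x ∈ G, x ^ 2 ∈ N)
    (hnorm : ∀ x ∈ G, ∀ n ∈ N, x * n * x⁻¹ ∈ N) (hcomm : ∀ x ∈ G, ∀ y ∈ G, ⁅x, y⁆ ∈ N)
    {k : ℕ} (r : Fin k → Y) (hr : ∀ i, r i ∈ closure G) (hrQ : ∀ i j, (r i)⁻¹ * r j ∈ Q → i = j)
    (h32 : 32 ≤ k * N.relIndex M) : False := by
  set Nm := Subgroup.normalizer (N : Set Y) with hNm
  have hGN : G ⊆ Nm := by
    intro x hx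
    rw [SetLike.mem_coe, Subgroup.mem_normalizer_iff]
    intro n
    refine ⟨hnorm x hx n, fun h => ?_⟩
    have h2 : x ^ 2 ∈ N := hsq x hx
    have h3 := hnorm x hx _ h
    have h4 : x * (x * n * x⁻¹) * x⁻¹ = x ^ 2 * n * (x ^ 2)⁻¹ := (conj_sq x n).symm
    rw [h4] at h3
    have := mul_mem (mul_mem (inv_mem h2) h3) h2
    rwa [show (x ^ 2)⁻¹ * (x ^ 2 * n * (x ^ 2)⁻¹) * x ^ 2 = n by group] at this
  have hHN : closure G ≤ Nm := (closure_le _).2 hGN
  haveI : (N.subgroupOf Nm).Normal := Subgroup.normal_in_normalizer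
  set π := QuotientGroup.mk' (N.subgroupOf Nm) with hπ
  set G' : Set (Nm ⧸ N.subgroupOf Nm) := π '' {x : Nm | (x : Y) ∈ G} with hG'
  have hπN : ∀ x : Nm, π x = 1 ↔ (x : Y) ∈ N := fun x =>
    (QuotientGroup.eq_one_iff x).trans Subgroup.mem_subgroupOf
  have hc : ∀ a ∈ G', ∀ b ∈ G', a * b = b * a := by
    rintro _ ⟨x, hx, rfl⟩ _ ⟨y, hy, rfl⟩
    rw [← commutatorElement_eq_one_iff_mul_comm, ← map_commutatorElement, hπN]
    exact hcomm _ hx _ hy
  have hcl : ∀ a ∈ closure G', ∀ b ∈ closure G', a * b = b * a := by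
    have h1 : closure G' ≤ centralizer G' := (closure_le _).2 fun a ha =>
      mem_centralizer_iff.2 fun b hb => hc b hb a ha
    have h2 : closure G' ≤ centralizer (closure G' : Set _) := (closure_le _).2 fun a ha =>
      mem_centralizer_iff.2 fun b hb => (mem_centralizer_iff.1 (h1 hb) a ha).symm
    exact fun a ha b hb => (mem_centralizer_iff.1 (h2 ha) b hb).symm
  have hsq' : ∀ a ∈ closure G', a ^ 2 = 1 := by
    intro a ha
    induction ha using Subgroup.closure_induction with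
    | mem a ha =>
      obtain ⟨x, hx, rfl⟩ := ha
      rw [← map_pow, hπN]
      exact hsq _ hx
    | one => rw [one_pow]
    | mul a b ha hb iha ihb => rw [Commute.mul_pow (hcl a ha b hb), iha, ihb, one_mul]
    | inv a ha iha => rw [inv_pow, iha, inv_one]
  have hmem : ∀ x : Nm, (x : Y) ∈ closure G → π x ∈ closure G' := by
    intro x hx
    suffices h : ∀ y : Y, y ∈ closure G → ∀ hy : y ∈ Nm, π ⟨y, hy⟩ ∈ closure G' from h _ hx x.2
    intro y hy
    induction hy using Subgroup.closure_induction with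
    | mem y hy => exact fun hy' => subset_closure ⟨⟨y, hy'⟩, hy, rfl⟩
    | one => exact fun h => (show π (1 : Nm) ∈ closure G' by rw [map_one]; exact one_mem _)
    | mul a b ha hb iha ihb =>
      exact fun h => (show π (⟨a, hHN ha⟩ * ⟨b, hHN hb⟩ : Nm) ∈ closure G' by
        rw [map_mul]; exact mul_mem (iha _) (ihb _))
    | inv a ha iha =>
      exact fun h => (show π ((⟨a, hHN ha⟩ : Nm)⁻¹) ∈ closure G' by
        rw [map_inv]; exact inv_mem (iha _))
  have hNH : N ≤ closure G := fun n hn => hMG (hNM hn)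
  have hbound := ConstrainedFive.relIndex_le D.rank hNH
    (fun h hh n hn => (Subgroup.mem_normalizer_iff.1 (hHN hh) n).1 hn)
    (fun a ha b hb => by
      have h1 : π ⁅(⟨a, hHN ha⟩ : Nm), ⟨b, hHN hb⟩⁆ = 1 := by
        rw [map_commutatorElement, commutatorElement_eq_one_iff_mul_comm]
        exact hcl _ (hmem ⟨a, hHN ha⟩ ha) _ (hmem ⟨b, hHN hb⟩ hb)
      exact (hπN _).1 h1)
    (fun a ha => by
      have h1 : π ((⟨a, hHN ha⟩ : Nm) ^ 2) = 1 := by
        rw [map_pow]; exact hsq' _ (hmem ⟨a, hHN ha⟩ ha)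
      exact (hπN _).1 h1)
  have hinj : Function.Injective (fun p : Fin k × M =>
      (⟨r p.1 * p.2, mul_mem (hr p.1) (hMG p.2.2)⟩ : closure G)) := by
    rintro ⟨i, m⟩ ⟨j, m'⟩ e
    have e' : r i * m = r j * m' := congrArg Subtype.val e
    have hij : i = j := hrQ i j (by
      rw [show (r i)⁻¹ * r j = (m : Y) * (m' : Y)⁻¹ by
        calc (r i)⁻¹ * r j = (r i)⁻¹ * (r j * m') * (m' : Y)⁻¹ := by group
          _ = _ := by rw [← e']; group]
      exact mul_mem (hMQ m.2) (inv_mem (hMQ m'.2)))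
    subst hij
    rw [Prod.mk.injEq]
    exact ⟨rfl, Subtype.ext (mul_left_cancel e')⟩
  have hcard := Nat.card_le_card_of_injective _ hinj
  rw [Nat.card_prod, Nat.card_fin] at hcard
  have h1 : Nat.card N * N.relIndex (closure G) = Nat.card (closure G) := by
    have := Subgroup.card_mul_index (N.subgroupOf (closure G))
    rwa [Nat.card_congr (Subgroup.subgroupOfEquivOfLe hNH).toEquiv] at this
  have h2 : Nat.card N * N.relIndex M = Nat.card M := by
    have := Subgroup.card_mul_index (N.subgroupOf M)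
    rwa [Nat.card_congr (Subgroup.subgroupOfEquivOfLe hNM).toEquiv] at this
  have hpos : 0 < Nat.card N := Nat.card_pos
  nlinarith

/-- Two elements giving a four-group modulo `Q`. -/
theorem section_two (D : Seven Y Q) {N M : Subgroup Y} (hNM : N ≤ M) (hMQ : M ≤ Q) {u v : Y}
    (hM : ∀ m ∈ M, m ^ 2 ∈ N) (hMM : ∀ m ∈ M, ∀ m' ∈ M, ⁅m, m'⁆ ∈ N)
    (huM : ∀ m ∈ M, ⁅u, m⁆ ∈ N) (hvM : ∀ m ∈ M, ⁅v, m⁆ ∈ N)
    (hu : u ^ 2 ∈ N) (hv : v ^ 2 ∈ N) (huv : ⁅u, v⁆ ∈ N)
    (huQ : u ∉ Q) (hvQ : v ∉ Q) (huvQ : u⁻¹ * v ∉ Q) (huv' : u * v ∉ Q)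
    (h8 : 8 ≤ N.relIndex M) : False := by
  haveI := D.normal
  have hsymm : ∀ a b : Y, ⁅a, b⁆ ∈ N → ⁅b, a⁆ ∈ N := fun a b h => by
    rw [← commutatorElement_inv]; exact inv_mem h
  have hself : ∀ a : Y, ⁅a, a⁆ ∈ N := fun a => by simp
  set G : Set Y := (M : Set Y) ∪ {u, v}
  have hMG : (M : Set Y) ⊆ closure G := fun m hm => subset_closure (Or.inl hm)
  have hcomm : ∀ x ∈ G, ∀ y ∈ G, ⁅x, y⁆ ∈ N := by
    rintro x (hx | rfl | rfl) y (hy | rfl | rfl) <;>
      first
        | exact hMM _ hx _ hy | exact huM _ hy | exact hvM _ hy | exact hsymm _ _ (huM _ hx)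
        | exact hsymm _ _ (hvM _ hx) | exact hself _ | exact huv | exact hsymm _ _ huv
  refine section_false D hNM hMQ G hMG ?_ ?_ hcomm ![1, u, v, u * v] ?_ ?_ (by omega)
  · rintro x (hx | rfl | rfl) <;> first | exact hM _ hx | assumption
  · intro x hx n hn
    have := mul_mem (hcomm x hx n (Or.inl (hNM hn))) hn
    rwa [commutatorElement_def, inv_mul_cancel_right] at this
  · have hu' : u ∈ closure G := subset_closure (Or.inr (Or.inl rfl))
    have hv' : v ∈ closure G := subset_closure (Or.inr (Or.inr rfl))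
    intro i
    fin_cases i
    · exact one_mem _
    · exact hu'
    · exact hv'
    · exact mul_mem hu' hv'
  · have hconj : ∀ a b : Y, a⁻¹ * b ∈ Q → b⁻¹ * a ∈ Q := fun a b h => by
      have := inv_mem h
      rwa [mul_inv_rev, inv_inv] at this
    have hvu : v⁻¹ * (u * v) ∉ Q := fun h => huQ (by
      have := D.normal.conj_mem _ h v
      rwa [show v * (v⁻¹ * (u * v)) * v⁻¹ = u by group] at this)
    intro i j h
    fin_cases i <;> fin_cases j <;> simp at h ⊢ <;>
      first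
        | exact huQ h | exact hvQ h | exact huv' h | exact huvQ h | exact hvu h
        | exact huvQ (hconj _ _ h) | exact hvu (hconj _ _ (by simpa [mul_assoc] using h))
        | exact huQ (inv_mem_iff.1 h) | exact hvQ (inv_mem_iff.1 h)
        | exact huv' (inv_mem_iff.1 (by simpa using h))
        | exact hvQ (by simpa [mul_assoc] using h)
        | exact hvQ (inv_mem_iff.1 (by simpa [mul_assoc] using h))
        | exact hvu (by simpa [mul_assoc] using h)

/-- One element outside `Q`. -/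
theorem section_one (D : Seven Y Q) {N M : Subgroup Y} (hNM : N ≤ M) (hMQ : M ≤ Q) {u : Y}
    (hM : ∀ m ∈ M, m ^ 2 ∈ N) (hMM : ∀ m ∈ M, ∀ m' ∈ M, ⁅m, m'⁆ ∈ N)
    (huM : ∀ m ∈ M, ⁅u, m⁆ ∈ N) (hu : u ^ 2 ∈ N) (huQ : u ∉ Q)
    (h16 : 16 ≤ N.relIndex M) : False := by
  have hsymm : ∀ a b : Y, ⁅a, b⁆ ∈ N → ⁅b, a⁆ ∈ N := fun a b h => by
    rw [← commutatorElement_inv]; exact inv_mem h
  set G : Set Y := (M : Set Y) ∪ {u}
  have hMG : (M : Set Y) ⊆ closure G := fun m hm => subset_closure (Or.inl hm)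
  have hcomm : ∀ x ∈ G, ∀ y ∈ G, ⁅x, y⁆ ∈ N := by
    rintro x (hx | rfl) y (hy | rfl) <;>
      first
        | exact hMM _ hx _ hy | exact huM _ hy | exact hsymm _ _ (huM _ hx) | simp
  refine section_false D hNM hMQ G hMG ?_ ?_ hcomm ![1, u] ?_ ?_ (by omega)
  · rintro x (hx | rfl) <;> first | exact hM _ hx | assumption
  · intro x hx n hn
    have := mul_mem (hcomm x hx n (Or.inl (hNM hn))) hn
    rwa [commutatorElement_def, inv_mul_cancel_right] at this
  · intro i
    fin_cases i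
    · exact one_mem _
    · exact subset_closure (Or.inr rfl)
  · intro i j h
    fin_cases i <;> fin_cases j <;> simp at h ⊢ <;>
      first | exact huQ h | exact huQ (inv_mem_iff.1 h)

end CfsgLib.Small.ConstrainedSeven
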