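import Cfsg.Agent.Lib.Small.ConstrainedSeven.Equivariant

/-!
# Layers of order sixteen

Such a layer has a fixed element or an invariant hyperplane, and without an invariant hyperplane
an element of order four swaps the two preimages of its fixed point.
-/

set_option autoImplicit false
set_option linter.unusedSectionVars false
set_option linter.style.haveILetI false

namespace CfsgLib.Small.ConstrainedSeven

open Subgroup
open scoped commutatorElement

/-- The action of an element of order four. -/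
def companion : Fin 3 → Fin 3 → ZMod 2 := ![![1, 1, 0], ![0, 1, 1], ![0, 0, 1]]

/-- An element of order three fixing the fixed point of `companion`. -/
def tri : Fin 3 → Fin 3 → ZMod 2 := ![![0, 1, 0], ![1, 1, 0], ![0, 0, 1]]

theorem companion_indep : ∀ v, lin companion v = 0 → v = 0 := by decide

theorem tri_indep : ∀ v, lin tri v = 0 → v = 0 := by decide

theorem eq_sq_of_orderOf_four {G : Type*} [Group G] {y w : G} (hy : orderOf y = 4)
    (hw : w ∈ zpowers y) (hw2 : orderOf w = 2) : w = y ^ 2 := by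
  have hfin : IsOfFinOrder y := orderOf_pos_iff.1 (by omega)
  obtain ⟨k, rfl⟩ := hfin.mem_powers_iff_mem_zpowers.2 hw
  simp only at hw2 ⊢
  rw [← pow_mod_orderOf, hy] at hw2 ⊢
  have hk : k % 4 < 4 := Nat.mod_lt _ (by norm_num)
  interval_cases h : k % 4
  · rw [pow_zero, orderOf_one] at hw2; omega
  · rw [pow_one, hy] at hw2; omega
  · rfl
  · rw [hfin.orderOf_pow, hy] at hw2; norm_num at hw2

/-- In a group of order twelve the square of an element of order four is central. -/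
theorem comm_sq_of_twelve {G : Type*} [Group G] [Finite G] (h : Nat.card G = 12) {y : G}
    (hy : orderOf y = 4) (g : G) : g * y ^ 2 * g⁻¹ = y ^ 2 := by
  haveI : Fact (Nat.Prime 2) := ⟨Nat.prime_two⟩
  set x := g * y * g⁻¹ with hx
  have hxo : orderOf x = 4 := by
    rw [hx, ← hy]; exact orderOf_injective (MulAut.conj g).toMonoidHom (MulAut.conj g).injective y
  set I := zpowers y ⊓ zpowers x with hI
  have hne : I ≠ ⊥ := by
    intro hbot
    have hinj : Function.Injective (fun p : zpowers y × zpowers x => (p.1 : G) * p.2) := by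
      rintro ⟨a, b⟩ ⟨a', b'⟩ e
      have e' : (a : G) * b = a' * b' := e
      have hm : (a' : G)⁻¹ * a ∈ I := by
        refine Subgroup.mem_inf.2 ⟨mul_mem (inv_mem a'.2) a.2, ?_⟩
        have : (a' : G)⁻¹ * a = b' * (b : G)⁻¹ := by
          calc (a' : G)⁻¹ * a = (a' : G)⁻¹ * (a * b) * (b : G)⁻¹ := by group
            _ = _ := by rw [e']; group
        rw [this]
        exact mul_mem b'.2 (inv_mem b.2)
      rw [hbot, Subgroup.mem_bot, inv_mul_eq_one] at hm
      have ha : a' = a := Subtype.ext hm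
      subst ha
      rw [Prod.mk.injEq]
      exact ⟨rfl, Subtype.ext (mul_left_cancel e')⟩
    have := Nat.card_le_card_of_injective _ hinj
    rw [Nat.card_prod, Nat.card_zpowers, Nat.card_zpowers, hy, hxo, h] at this
    omega
  have hdvd : 2 ∣ Nat.card I := by
    have h4 : Nat.card I ∣ 2 ^ 2 := by
      have := Subgroup.card_dvd_of_le (inf_le_left : I ≤ zpowers y)
      rwa [Nat.card_zpowers, hy] at this
    obtain ⟨i, -, hi⟩ := (Nat.dvd_prime_pow Nat.prime_two).1 h4
    rw [hi]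
    exact dvd_pow_self 2 fun h0 => hne (Subgroup.card_eq_one.1 (by rw [hi, h0, pow_zero]))
  obtain ⟨⟨w, hwy, hwx⟩, hw⟩ := exists_prime_orderOf_dvd_card' 2 hdvd
  rw [← Subgroup.orderOf_coe] at hw
  rw [← conj_pow, ← hx, ← eq_sq_of_orderOf_four hxo hwx hw, ← eq_sq_of_orderOf_four hy hwy hw]

variable {Y : Type*} [Group Y] [Finite Y] {Q K : Subgroup Y}

/-- The conjugates of an element. -/
def orbit (c : Y) : Set Y := {x | ∃ y : Y, y * c * y⁻¹ = x}

theorem mem_orbit_self (c : Y) : c ∈ orbit c := ⟨1, by simp⟩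

theorem orbit_invariant (c : Y) (y : Y) {x : Y} (hx : x ∈ orbit c) : y * x * y⁻¹ ∈ orbit c := by
  obtain ⟨g, rfl⟩ := hx
  exact ⟨y * g, by group⟩

theorem orbit_subset (L : Layer Q K) {c : Y} (hc : c ∈ K) : orbit c ⊆ K := by
  rintro x ⟨y, rfl⟩
  exact L.conj_mem hc y

theorem card_orbit (c : Y) : Nat.card (orbit c) = (centralizer ({c} : Set Y)).index := by
  have key : ∀ y y' : Y, y * c * y⁻¹ = y' * c * y'⁻¹ ↔ y⁻¹ * y' ∈ centralizer ({c} : Set Y) := by
    intro y y'
    rw [mem_centralizer_singleton_iff]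
    refine ⟨fun e => ?_, fun e => ?_⟩
    · calc y⁻¹ * y' * c = y⁻¹ * (y' * c * y'⁻¹) * y' := by group
        _ = y⁻¹ * (y * c * y⁻¹) * y' := by rw [e]
        _ = c * (y⁻¹ * y') := by group
    · calc y * c * y⁻¹ = y * (c * (y⁻¹ * y')) * y'⁻¹ := by group
        _ = y * (y⁻¹ * y' * c) * y'⁻¹ := by rw [e]
        _ = y' * c * y'⁻¹ := by group
  let f : orbit c → Y ⧸ centralizer ({c} : Set Y) := fun x => (x.2.choose : Y)
  rw [Subgroup.index_eq_card]
  refine Nat.card_eq_of_bijective f ⟨fun x x' e => Subtype.ext ?_, fun z => ?_⟩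
  · rw [← x.2.choose_spec, ← x'.2.choose_spec, key]
    exact QuotientGroup.eq.1 e
  · obtain ⟨y, rfl⟩ := QuotientGroup.mk_surjective z
    exact ⟨⟨y * c * y⁻¹, y, rfl⟩, QuotientGroup.eq.2 ((key _ _).1
      (⟨y, rfl⟩ : ∃ g : Y, g * c * g⁻¹ = y * c * y⁻¹).choose_spec)⟩

/-- Orbits have size dividing 168. -/
theorem card_orbit_dvd (L : Layer Q K) (D : Seven Y Q) {c : Y} (hc : c ∈ K) :
    Nat.card (orbit c) ∣ 168 := by
  rw [card_orbit, ← D.index]
  exact Subgroup.index_dvd_of_le fun q hq => mem_centralizer_singleton_iff.2 (L.cent q hq c hc)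

/-- Counting fixed points of an element of order seven in an invariant set. -/
theorem seven_modEq (L : Layer Q K) {a : Y} (ha7 : a ^ 7 ∈ Q) {S : Set Y} (hSK : S ⊆ K)
    (hS : ∀ s ∈ S, a * s * a⁻¹ ∈ S) :
    Nat.card {s : Y // s ∈ S ∧ a * s = s * a} ≡ Nat.card S [MOD 7] := by
  haveI : Fact (Nat.Prime 7) := ⟨by norm_num⟩
  haveI := L.normal
  have hm := card_fixed_aut_modEq (p := 7) (φ := (MulAut.conjNormal a : MulAut K)) (by
      rw [← map_pow]
      refine MulEquiv.ext fun k => Subtype.ext ?_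
      rw [MulAut.conjNormal_apply, L.cent _ ha7 k k.2, mul_inv_cancel_right]
      rfl)
    (P := fun q => (q : Y) ∈ S) (fun q hq => by rw [MulAut.conjNormal_apply]; exact hS _ hq)
  have e1 : Nat.card {q : K // (q : Y) ∈ S} = Nat.card S := Nat.card_congr
    { toFun := fun q => ⟨q.1, q.2⟩
      invFun := fun s => ⟨⟨s, hSK s.2⟩, s.2⟩
      left_inv := fun q => rfl
      right_inv := fun s => rfl }
  have e2 : Nat.card {q : K // (q : Y) ∈ S ∧ MulAut.conjNormal a q = q} =
      Nat.card {s : Y // s ∈ S ∧ a * s = s * a} := Nat.card_congr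
    { toFun := fun q => ⟨q.1, q.2.1, by
        have h := congrArg Subtype.val q.2.2
        rwa [MulAut.conjNormal_apply, mul_inv_eq_iff_eq_mul] at h⟩
      invFun := fun s => ⟨⟨s, hSK s.2.1⟩, s.2.1, Subtype.ext (by
        rw [MulAut.conjNormal_apply, mul_inv_eq_iff_eq_mul]; exact s.2.2)⟩
      left_inv := fun q => rfl
      right_inv := fun s => rfl }
  rwa [e1, e2] at hm

theorem card_eq_zero_of_free {a : Y} {S : Set Y} (hfree : ∀ s ∈ S, a * s ≠ s * a) :
    Nat.card {s : Y // s ∈ S ∧ a * s = s * a} = 0 := by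
  haveI : IsEmpty {s : Y // s ∈ S ∧ a * s = s * a} := ⟨fun s => hfree _ s.2.1 s.2.2⟩
  exact Nat.card_of_isEmpty

theorem Layer.sub (L : Layer Q K) (D : Seven Y Q) (h16 : Nat.card K = 16) {H : Subgroup Y}
    (hn : H.Normal) (hH : H ≤ K) (h8 : Nat.card H = 8) : Layer Q H := by
  refine ⟨hn, fun a ha b hb => L.comm a (hH ha) b (hH hb), fun a ha => L.exp a (hH ha),
    fun q hq a ha => L.cent q hq a (hH ha), fun h => ?_⟩
  obtain ⟨a, ha, ha7⟩ := D.exists_seven
  have h2 := ((L.card_cases D).resolve_left (fun h' => by omega)).2 a ha ha7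
  have := Subgroup.card_le_of_le (H := H) (K := K ⊓ centralizer ({a} : Set Y))
    (fun x hx => ⟨hH hx, mem_centralizer_singleton_iff.2 (h a x hx).symm⟩)
  omega

/-- An invariant set of seven elements without fixed points gives an invariant hyperplane. -/
theorem hyperplane_of_seven (L : Layer Q K) (D : Seven Y Q) (h16 : Nat.card K = 16) {S : Set Y}
    (hSK : S ⊆ K) (hS7 : Nat.card S = 7) (hinv : ∀ y : Y, ∀ s ∈ S, y * s * y⁻¹ ∈ S)
    {a : Y} (ha : a ∉ Q) (ha7 : a ^ 7 ∈ Q) (hfree : ∀ s ∈ S, a * s ≠ s * a) :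
    ∃ H : Subgroup Y, H.Normal ∧ H ≤ K ∧ Nat.card H = 8 := by
  have h2 := ((L.card_cases D).resolve_left (fun h' => by omega)).2 a ha ha7
  -- the commutators with `a` form a subgroup of index two
  let f : K →* K := MonoidHom.mk' (fun v => ⟨⁅a, (v : Y)⁆, by
      rw [commutatorElement_def]; exact mul_mem (L.conj_mem v.2 a) (inv_mem v.2)⟩) (fun v w => by
    apply Subtype.ext
    show ⁅a, (v : Y) * w⁆ = ⁅a, (v : Y)⁆ * ⁅a, (w : Y)⁆
    have e : ⁅a, (v : Y) * w⁆ = ⁅a, (v : Y)⁆ * ((v : Y) * ⁅a, (w : Y)⁆ * (v : Y)⁻¹) := by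
      simp only [commutatorElement_def]; group
    rw [e, L.comm v v.2 _ (by
      rw [commutatorElement_def]; exact mul_mem (L.conj_mem w.2 a) (inv_mem w.2)),
      mul_inv_cancel_right])
  set Hd := f.range.map K.subtype with hHd
  have hHdK : Hd ≤ K := Subgroup.map_subtype_le _
  have hker : Nat.card f.ker = 2 := h2 ▸ Nat.card_congr
    { toFun := fun v => ⟨v.1, v.1.2, mem_centralizer_singleton_iff.2
        (commutatorElement_eq_one_iff_mul_comm.1 (congrArg Subtype.val (MonoidHom.mem_ker.1 v.2))).symm⟩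
      invFun := fun c => ⟨⟨c, c.2.1⟩, MonoidHom.mem_ker.2 (Subtype.ext
        (commutatorElement_eq_one_iff_mul_comm.2 (mem_centralizer_singleton_iff.1 c.2.2).symm))⟩
      left_inv := fun v => rfl
      right_inv := fun c => rfl }
  have hHd8 : Nat.card Hd = 8 := by
    rw [hHd, Subgroup.card_subtype, ← Subgroup.index_ker]
    have := Subgroup.card_mul_index f.ker
    rw [hker, h16] at this
    omega
  have hainv : ∀ x ∈ Hd, a * x * a⁻¹ ∈ Hd := by
    rintro _ ⟨_, ⟨v, rfl⟩, rfl⟩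
    refine ⟨_, ⟨⟨a * v * a⁻¹, L.conj_mem v.2 a⟩, rfl⟩, ?_⟩
    show ⁅a, a * (v : Y) * a⁻¹⁆ = a * ⁅a, (v : Y)⁆ * a⁻¹
    simp only [commutatorElement_def]; group
  -- `S` lies inside or outside this subgroup
  have hmod := seven_modEq L ha7 (S := S ∩ Hd) (fun s hs => hSK hs.1)
    (fun s hs => ⟨hinv a s hs.1, hainv s hs.2⟩)
  rw [card_eq_zero_of_free fun s hs => hfree s hs.1] at hmod
  have hle7 : Nat.card (S ∩ (Hd : Set Y) : Set Y) ≤ 7 :=
    hS7 ▸ Nat.card_mono (Set.toFinite _) Set.inter_subset_left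
  by_cases hin : S ⊆ (Hd : Set Y)
  · refine ⟨Hd, ⟨fun x hx y => ?_⟩, hHdK, hHd8⟩
    have h1S : (1 : Y) ∉ S := fun h => hfree 1 h (by simp)
    have hset : insert (1 : Y) S = (Hd : Set Y) := by
      refine Set.eq_of_subset_of_ncard_le (Set.insert_subset (one_mem _) hin) ?_ (Set.toFinite _)
      rw [Set.ncard_insert_of_notMem h1S (Set.toFinite _), ← Nat.card_coe_set_eq,
        ← Nat.card_coe_set_eq, hS7]
      exact hHd8.le
    rw [← SetLike.mem_coe, ← hset] at hx ⊢
    rcases Set.mem_insert_iff.1 hx with rfl | hx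
    · exact Or.inl (by simp)
    · exact Or.inr (hinv y x hx)
  have h0 : Nat.card (S ∩ (Hd : Set Y) : Set Y) = 0 := by
    have hlt : Nat.card (S ∩ (Hd : Set Y) : Set Y) < 7 := by
      refine lt_of_le_of_ne hle7 fun h => hin fun s hs => ?_
      have := Set.eq_of_subset_of_ncard_le (s := S ∩ (Hd : Set Y)) Set.inter_subset_left
        (by rw [← Nat.card_coe_set_eq, ← Nat.card_coe_set_eq, hS7, h]) (Set.toFinite _)
      exact (this.symm.le hs).2
    unfold Nat.ModEq at hmod
    omega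
  have hout : ∀ s ∈ S, s ∉ Hd := fun s hs hd => by
    rw [Nat.card_coe_set_eq, Set.ncard_eq_zero (Set.toFinite _)] at h0
    exact (Set.eq_empty_iff_forall_notMem.1 h0 s) ⟨hs, hd⟩
  set P := {x | ∃ s ∈ S, ∃ s' ∈ S, s * s' = x} with hP
  set H := closure P with hH
  have hPH : ∀ x ∈ P, x ∈ Hd := by
    rintro _ ⟨s, hs, s', hs', rfl⟩
    have hidx : (Hd.subgroupOf K).index = 2 := by
      have := Subgroup.card_mul_index (Hd.subgroupOf K)
      rw [Nat.card_congr (Subgroup.subgroupOfEquivOfLe hHdK).toEquiv, hHd8, h16] at this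
      omega
    have := Subgroup.mul_mem_iff_of_index_two hidx (a := ⟨s, hSK hs⟩) (b := ⟨s', hSK hs'⟩)
    simp only [Subgroup.mem_subgroupOf, Subgroup.coe_mul] at this
    exact this.2 (iff_of_false (hout s hs) (hout s' hs'))
  have hHle : H ≤ Hd := (closure_le _).2 hPH
  obtain ⟨s₀, hs₀⟩ : S.Nonempty := Set.nonempty_iff_ne_empty.2 fun h => by
    rw [h, Nat.card_coe_set_eq, Set.ncard_empty] at hS7; omega
  have h7 : 7 ≤ Nat.card H := by
    rw [← hS7]
    exact Nat.card_le_card_of_injective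
      (fun s : S => (⟨s₀ * s, subset_closure ⟨s₀, hs₀, s, s.2, rfl⟩⟩ : H))
      fun s s' e => Subtype.ext (mul_left_cancel (congrArg Subtype.val e :))
  have hH8 : Nat.card H = 8 := by
    have hd := Subgroup.card_dvd_of_le hHle
    have hle := Subgroup.card_le_of_le hHle
    rw [hHd8] at hd hle
    rcases (by omega : Nat.card H = 7 ∨ Nat.card H = 8) with h | h
    · rw [h] at hd; omega
    · exact h
  refine ⟨H, ⟨fun x hx y => ?_⟩, hHle.trans hHdK, hH8⟩
  have hle : H ≤ H.comap (MulAut.conj y).toMonoidHom := by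
    refine (closure_le _).2 ?_
    rintro _ ⟨s, hs, s', hs', rfl⟩
    exact subset_closure ⟨_, hinv y s hs, _, hinv y s' hs', conj_mul⟩
  exact hle hx

/-- A layer of order sixteen has a fixed element or an invariant hyperplane. -/
theorem fixed_or_hyperplane (L : Layer Q K) (D : Seven Y Q) (h16 : Nat.card K = 16) :
    (∃ z ∈ K, z ≠ 1 ∧ ∀ y : Y, y * z = z * y) ∨
      ∃ H : Subgroup Y, H.Normal ∧ H ≤ K ∧ Nat.card H = 8 := by
  obtain ⟨a, ha, ha7⟩ := D.exists_seven
  have h2 := ((L.card_cases D).resolve_left (fun h' => by omega)).2 a ha ha7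
  rw [Nat.card_eq_two_iff' 1] at h2
  obtain ⟨⟨z, hzK, hza⟩, hz1, huniq⟩ := h2
  have hz1' : z ≠ 1 := fun e => hz1 (Subtype.ext e)
  have hfix : ∀ x ∈ K, x ≠ 1 → a * x = x * a → x = z := fun x hx hx1 hax => congrArg Subtype.val
    (huniq ⟨x, hx, mem_centralizer_singleton_iff.2 hax.symm⟩ fun e => hx1 (congrArg Subtype.val e))
  have hne1 : ∀ x ∈ orbit z, x ≠ 1 := by
    rintro _ ⟨y, rfl⟩ e
    exact hz1' (conj_eq_one_iff.1 e)
  have hone : Nat.card {s : Y // s ∈ orbit z ∧ a * s = s * a} = 1 := by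
    rw [Nat.card_eq_one_iff_exists]
    exact ⟨⟨z, mem_orbit_self z, (mem_centralizer_singleton_iff.1 hza).symm⟩, fun s => Subtype.ext
      (hfix s (orbit_subset L hzK s.2.1) (hne1 s s.2.1) s.2.2)⟩
  have hmod := seven_modEq L ha7 (orbit_subset L hzK) (fun s hs => orbit_invariant z a hs)
  rw [hone] at hmod
  have hdvd := card_orbit_dvd L D hzK
  have hle : Nat.card (orbit z) ≤ 15 := by
    have h1 : Nat.card (orbit z) ≤ Nat.card ((K : Set Y) \ {1} : Set Y) :=
      Nat.card_mono (Set.toFinite _) fun x hx => ⟨orbit_subset L hzK hx, hne1 x hx⟩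
    rw [Nat.card_coe_set_eq, Nat.card_coe_set_eq,
      Set.ncard_sdiff_singleton_of_mem (s := (K : Set Y)) (one_mem K),
      ← Nat.card_coe_set_eq (K : Set Y), SetLike.coe_sort_coe, h16] at h1
    rwa [Nat.card_coe_set_eq]
  have hc : Nat.card (orbit z) = 1 ∨ Nat.card (orbit z) = 8 := by
    unfold Nat.ModEq at hmod
    interval_cases h : Nat.card (orbit z) <;> omega
  rcases hc with h | h
  · left
    refine ⟨z, hzK, hz1', fun y => ?_⟩
    haveI := (Nat.card_eq_one_iff_unique.1 h).1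
    have := congrArg Subtype.val (Subsingleton.elim (⟨y * z * y⁻¹, y, rfl⟩ : orbit z)
      ⟨z, mem_orbit_self z⟩)
    rwa [mul_inv_eq_iff_eq_mul] at this
  right
  refine hyperplane_of_seven L D h16 (S := (K : Set Y) \ insert 1 (orbit z))
    (fun x hx => hx.1) ?_ (fun y s hs => ⟨L.conj_mem hs.1 y, ?_⟩) ha ha7 fun s hs e => ?_
  · have hsub : insert 1 (orbit z) ⊆ (K : Set Y) :=
      Set.insert_subset (one_mem K) (orbit_subset L hzK)
    rw [Nat.card_coe_set_eq, Set.ncard_sdiff hsub (Set.toFinite _),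
      Set.ncard_insert_of_notMem (fun h => hne1 1 h rfl) (Set.toFinite _),
      ← Nat.card_coe_set_eq (orbit z), h, ← Nat.card_coe_set_eq (K : Set Y), SetLike.coe_sort_coe,
      h16]
  · rintro (h | h)
    · exact hs.2 (Or.inl (conj_eq_one_iff.1 h))
    · refine hs.2 (Or.inr ?_)
      have := orbit_invariant z y⁻¹ h
      rwa [show y⁻¹ * (y * s * y⁻¹) * y⁻¹⁻¹ = s by group] at this
  · exact hs.2 (Or.inr (hfix s hs.1 (fun h => hs.2 (Or.inl h)) e ▸ mem_orbit_self z))

/-- An element of even order modulo `Q` fixing a point outside a hyperplane fixes, with the whole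
group, some such point. -/
theorem exists_fixed_outside (L : Layer Q K) (D : Seven Y Q) (h16 : Nat.card K = 16)
    {H : Subgroup Y} (hn : H.Normal) (hH : H ≤ K) (h8 : Nat.card H = 8) {y c : Y} (hy : y ∉ Q)
    (hy4 : y ^ 4 ∈ Q) (hc : c ∈ K) (hcH : c ∉ H) (hyc : y * c = c * y) :
    ∃ z ∈ K, z ∉ H ∧ ∀ x : Y, x * z = z * x := by
  haveI := D.normal
  obtain ⟨a, ha, ha7⟩ := D.exists_seven
  have h2 := ((L.card_cases D).resolve_left (fun h' => by omega)).2 a ha ha7
  have hHfree : ∀ x ∈ H, a * x = x * a → x = 1 := fun x hx =>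
    (((L.sub D h16 hn hH h8).card_cases D).resolve_right (fun h' => by omega)).2 a ha ha7 x hx
  rw [Nat.card_eq_two_iff' 1] at h2
  obtain ⟨⟨z, hzK, hza⟩, hz1, huniq⟩ := h2
  have hza' : a * z = z * a := (mem_centralizer_singleton_iff.1 hza).symm
  have hzH : z ∉ H := fun h => hz1 (Subtype.ext (hHfree z h hza'))
  have horb : orbit z ⊆ (K : Set Y) \ H := by
    rintro _ ⟨x, rfl⟩
    exact ⟨L.conj_mem hzK x, fun h => hzH (by
      have := hn.conj_mem _ h x⁻¹
      rwa [show x⁻¹ * (x * z * x⁻¹) * x⁻¹⁻¹ = z by group] at this)⟩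
  have hW : Nat.card ((K : Set Y) \ H : Set Y) = 8 := by
    rw [Nat.card_coe_set_eq, Set.ncard_sdiff (s := (H : Set Y)) hH (Set.toFinite _),
      ← Nat.card_coe_set_eq (K : Set Y), ← Nat.card_coe_set_eq (H : Set Y), SetLike.coe_sort_coe,
      SetLike.coe_sort_coe, h16, h8]
  have hone : Nat.card {s : Y // s ∈ orbit z ∧ a * s = s * a} = 1 := by
    rw [Nat.card_eq_one_iff_exists]
    refine ⟨⟨z, mem_orbit_self z, hza'⟩, fun s => Subtype.ext ?_⟩
    have hne : (s : Y) ≠ 1 := fun e => (horb s.2.1).2 (by rw [e]; exact one_mem H)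
    have he := congrArg Subtype.val (huniq ⟨s, (horb s.2.1).1, mem_centralizer_singleton_iff.2
      s.2.2.symm⟩ fun e => hne (congrArg Subtype.val e))
    exact he
  have hmod := seven_modEq L ha7 (orbit_subset L hzK) (fun s hs => orbit_invariant z a hs)
  rw [hone] at hmod
  have hle : Nat.card (orbit z) ≤ 8 := hW ▸ Nat.card_mono (Set.toFinite _) horb
  have hc18 : Nat.card (orbit z) = 1 ∨ Nat.card (orbit z) = 8 := by
    unfold Nat.ModEq at hmod
    interval_cases h : Nat.card (orbit z) <;> omega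
  rcases hc18 with h | h
  · refine ⟨z, hzK, hzH, fun x => ?_⟩
    haveI := (Nat.card_eq_one_iff_unique.1 h).1
    have := congrArg Subtype.val (Subsingleton.elim (⟨x * z * x⁻¹, x, rfl⟩ : orbit z)
      ⟨z, mem_orbit_self z⟩)
    rwa [mul_inv_eq_iff_eq_mul] at this
  exfalso
  have heq : orbit z = (K : Set Y) \ H := by
    refine Set.eq_of_subset_of_ncard_le horb ?_ (Set.toFinite _)
    rw [← Nat.card_coe_set_eq, ← Nat.card_coe_set_eq, h, hW]
  obtain ⟨x, hx⟩ : c ∈ orbit z := heq ▸ ⟨hc, hcH⟩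
  set St := centralizer ({z} : Set Y) with hSt
  have hSQ : Q ≤ St := fun q hq => mem_centralizer_singleton_iff.2 (L.cent q hq z hzK)
  set y' := x⁻¹ * y * x with hy'
  have hy'St : y' ∈ St := by
    rw [hSt, mem_centralizer_singleton_iff, hy']
    subst hx
    calc x⁻¹ * y * x * z = x⁻¹ * (y * (x * z * x⁻¹)) * x := by group
      _ = x⁻¹ * ((x * z * x⁻¹) * y) * x := by rw [hyc]
      _ = z * (x⁻¹ * y * x) := by group
  have hidx : St.index = 8 := by rw [hSt, ← card_orbit, h]
  have h21 : Q.relIndex St = 21 := by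
    have := Subgroup.relIndex_mul_index hSQ
    rw [hidx, D.index] at this
    omega
  have h4 : y' ^ 4 ∈ Q := by
    have := D.normal.conj_mem _ hy4 x⁻¹
    rw [inv_inv] at this
    rwa [hy', show x⁻¹ * y * x = x⁻¹ * y * x⁻¹⁻¹ by rw [inv_inv], conj_pow, inv_inv]
  have hgcd : orderOf ((⟨y', hy'St⟩ : St) : St ⧸ Q.subgroupOf St) ∣ Nat.gcd 4 21 := by
    refine Nat.dvd_gcd (orderOf_dvd_of_pow_eq_one ?_) ?_
    · rw [← QuotientGroup.mk_pow, QuotientGroup.eq_one_iff]
      exact h4
    · rw [← h21]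
      exact orderOf_dvd_natCard _
  rw [show Nat.gcd 4 21 = 1 from rfl, Nat.dvd_one, orderOf_eq_one_iff, QuotientGroup.eq_one_iff,
    Subgroup.mem_subgroupOf] at hgcd
  apply hy
  have := D.normal.conj_mem _ hgcd x
  rwa [show x * y' * x⁻¹ = y by rw [hy']; group] at this

theorem conj_sq {G : Type*} [Group G] (x m : G) :
    x ^ 2 * m * (x ^ 2)⁻¹ = x * (x * m * x⁻¹) * x⁻¹ := by
  rw [pow_two]; group

theorem conj_cube {G : Type*} [Group G] (x m : G) :
    x ^ 3 * m * (x ^ 3)⁻¹ = x * (x * (x * m * x⁻¹) * x⁻¹) * x⁻¹ := by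
  rw [pow_succ, pow_two]; group

theorem mem_of_map_mem (S : Subgroup Y) [S.Normal] (hS : S ≤ Q) {y : Y}
    (h : QuotientGroup.mk' S y ∈ Q.map (QuotientGroup.mk' S)) : y ∈ Q := by
  obtain ⟨q, hq, he⟩ := h
  have := mul_mem hq (hS (QuotientGroup.eq.1 he))
  rwa [mul_inv_cancel_left] at this

/-- Modulo a fixed point, a layer of order sixteen is one of order eight. -/
theorem natural_quot (L : Layer Q K) (D : Seven Y Q) (hKQ : K ≤ Q) (h16 : Nat.card K = 16)
    (S : Subgroup Y) [S.Normal] (hS : S ≤ K) (hS2 : Nat.card S = 2)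
    (hfix : ∀ y : Y, ∀ s ∈ S, y * s = s * y) :
    Layer (Q.map (QuotientGroup.mk' S)) (K.map (QuotientGroup.mk' S)) ∧
      Nat.card (K.map (QuotientGroup.mk' S)) = 8 := by
  haveI := L.normal
  refine ⟨⟨Subgroup.Normal.map inferInstance _ (QuotientGroup.mk'_surjective S), ?_, ?_, ?_,
    fun h => ?_⟩, ?_⟩
  · rintro _ ⟨a, ha, rfl⟩ _ ⟨b, hb, rfl⟩
    rw [← map_mul, L.comm a ha b hb, map_mul]
  · rintro _ ⟨a, ha, rfl⟩
    rw [← map_pow, L.exp a ha, map_one]
  · rintro _ ⟨q, hq, rfl⟩ _ ⟨a, ha, rfl⟩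
    rw [← map_mul, L.cent q hq a ha, map_mul]
  · obtain ⟨a, ha, ha7⟩ := D.exists_seven
    refine ha (L.mem_of_fix D fun k hk => ?_)
    have h1 := h (a : Y ⧸ S) _ (Subgroup.mem_map_of_mem (QuotientGroup.mk' S) hk)
    set s := ⁅a, k⁆ with hs
    have hsS : s ∈ S := (QuotientGroup.eq_one_iff _).1 (by
      show QuotientGroup.mk' S ⁅a, k⁆ = 1
      rw [map_commutatorElement, commutatorElement_eq_one_iff_mul_comm]
      exact h1)
    have hconj : ∀ n : ℕ, a ^ n * k * (a ^ n)⁻¹ = s ^ n * k := by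
      intro n
      induction n with
      | zero => simp
      | succ n ih =>
        rw [pow_succ' a, show a * a ^ n * k * (a * a ^ n)⁻¹ = a * (a ^ n * k * (a ^ n)⁻¹) * a⁻¹
          by group, ih, ← conj_mul, hfix a (s ^ n) (pow_mem hsS n), mul_inv_cancel_right,
          pow_succ, hs, commutatorElement_def]
        group
    have h7 := hconj 7
    rw [L.cent _ ha7 k hk, mul_inv_cancel_right] at h7
    have h7' : s ^ 7 = 1 := by
      have h9 : s ^ 7 * k = 1 * k := by rw [← h7, one_mul]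
      exact mul_right_cancel h9
    have h2' : s ^ 2 = 1 := L.exp s (hS hsS)
    rw [← commutatorElement_eq_one_iff_mul_comm]
    show s = 1
    rw [show (7 : ℕ) = 2 * 3 + 1 from rfl, pow_succ, pow_mul, h2', one_pow, one_mul] at h7'
    exact h7'
  · have := Subgroup.card_mul_index (S.subgroupOf K)
    rw [Nat.card_congr (Subgroup.subgroupOfEquivOfLe hS).toEquiv, hS2, h16,
      show (S.subgroupOf K).index = S.relIndex K from rfl] at this
    rw [← Subgroup.relIndex_ker K (QuotientGroup.mk' S), QuotientGroup.ker_mk']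
    omega

/-- If an element of order four acting as `companion` modulo a fixed point fixes a preimage of its
fixed point, there is an invariant hyperplane. -/
theorem hyperplane_of_fix (L : Layer Q K) (D : Seven Y Q) (hKQ : K ≤ Q) (h16 : Nat.card K = 16)
    (S : Subgroup Y) [S.Normal] (hS : S ≤ K) (hS2 : Nat.card S = 2)
    (hfix : ∀ y : Y, ∀ s ∈ S, y * s = s * y) {b : Fin 3 → Y} (hb : ∀ i, b i ∈ K)
    (hi : Indep fun i => QuotientGroup.mk' S (b i)) {y : Y} (hy4 : y ^ 4 ∈ Q)
    (hy : ∀ v, QuotientGroup.mk' S y * comb (fun i => QuotientGroup.mk' S (b i)) v *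
      (QuotientGroup.mk' S y)⁻¹ = comb (fun i => QuotientGroup.mk' S (b i)) (lin companion v))
    (hyb : y * b 2 = b 2 * y) : ∃ H : Subgroup Y, H.Normal ∧ H ≤ K ∧ Nat.card H = 8 := by
  haveI := D.normal
  set π := QuotientGroup.mk' S with hπ
  obtain ⟨LM, hM8⟩ := natural_quot L D hKQ h16 S hS hS2 hfix
  have DM := D.quot S (hS.trans hKQ)
  have hπb : ∀ i, π (b i) ∈ K.map π := fun i => Subgroup.mem_map_of_mem π (hb i)
  have hb2 : comb (fun i => π (b i)) ![0, 0, 1] = π (b 2) := by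
    simp [comb, show (1 : ZMod 2).val = 1 from rfl]
  have hb2S : b 2 ∉ S := fun h => by
    have h1 : π (b 2) = 1 := (QuotientGroup.eq_one_iff _).2 h
    exact absurd (hi ![0, 0, 1] (by rw [hb2, h1])) (by decide)
  obtain ⟨a, ha, ha7⟩ := D.exists_seven
  have haM : π a ∉ Q.map π := fun h => ha (mem_of_map_mem S (hS.trans hKQ) h)
  have haM7 : π a ^ 7 ∈ Q.map π := by rw [← map_pow]; exact Subgroup.mem_map_of_mem π ha7
  set O := orbit (b 2) with hO
  have hOK := orbit_subset L (hb 2)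
  have hOS : ∀ x ∈ O, x ∉ S := by
    rintro _ ⟨x, rfl⟩ h
    have hf := hfix x⁻¹ _ h
    rw [← mul_inv_eq_iff_eq_mul, inv_inv,
      show x⁻¹ * (x * b 2 * x⁻¹) * x = b 2 by group] at hf
    exact hb2S (hf.symm ▸ h)
  have hfree : ∀ x ∈ O, a * x ≠ x * a := fun x hx e => hOS x hx (by
    refine (QuotientGroup.eq_one_iff x).1 ?_
    exact ((LM.card_cases DM).resolve_right (fun h' => by omega)).2 (π a) haM haM7 _
      (Subgroup.mem_map_of_mem π (hOK hx)) (show π a * π x = π x * π a by rw [← map_mul, e, map_mul]))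
  have hmod := seven_modEq L ha7 hOK (fun s hs => orbit_invariant _ a hs)
  rw [card_eq_zero_of_free hfree] at hmod
  have hle : Nat.card O ≤ 14 := by
    have h1 : Nat.card O ≤ Nat.card ((K : Set Y) \ S : Set Y) :=
      Nat.card_mono (Set.toFinite _) fun x hx => ⟨hOK hx, hOS x hx⟩
    rwa [Nat.card_coe_set_eq ((K : Set Y) \ S), Set.ncard_sdiff (s := (S : Set Y)) hS
      (Set.toFinite _), ← Nat.card_coe_set_eq (K : Set Y), ← Nat.card_coe_set_eq (S : Set Y),
      SetLike.coe_sort_coe, SetLike.coe_sort_coe, h16, hS2] at h1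
  have hpos : 0 < Nat.card O := Nat.card_pos_iff.2 ⟨⟨⟨_, mem_orbit_self _⟩⟩, inferInstance⟩
  have hc : Nat.card O = 7 ∨ Nat.card O = 14 := by
    unfold Nat.ModEq at hmod
    interval_cases h : Nat.card O <;> omega
  rcases hc with h | h
  · exact hyperplane_of_seven L D h16 hOK h (fun y s hs => orbit_invariant _ y hs) ha ha7 hfree
  exfalso
  -- an element of order three fixing the preimage
  obtain ⟨gq, hg⟩ := LM.exists_lin DM hM8 hπb hi tri tri_indep
  obtain ⟨g, rfl⟩ := QuotientGroup.mk'_surjective S gq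
  have hg3 : g ^ 3 ∈ Q := by
    refine mem_of_map_mem S (hS.trans hKQ) (LM.mem_of_fix DM fun k hk => ?_)
    obtain ⟨v, rfl⟩ := comb_surjective LM hπb hi hM8 hk
    have e3 : ∀ v, lin tri (lin tri (lin tri v)) = v := by decide
    rw [← mul_inv_eq_iff_eq_mul, map_pow, conj_cube, hg, hg, hg, e3]
  have hgs : ⁅g, b 2⁆ ∈ S := by
    refine (QuotientGroup.eq_one_iff _).1 ?_
    show π ⁅g, b 2⁆ = 1
    rw [map_commutatorElement, commutatorElement_eq_one_iff_mul_comm, ← mul_inv_eq_iff_eq_mul,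
      ← hb2]
    exact (hg _).trans (congrArg _ (by decide))
  have hgb : g * b 2 = b 2 * g := by
    set s := ⁅g, b 2⁆ with hs
    have h1 : g * b 2 * g⁻¹ = s * b 2 := by rw [hs, commutatorElement_def]; group
    have hs2 : s * s = 1 := by rw [← pow_two]; exact L.exp s (hS hgs)
    have h3 := L.cent _ hg3 (b 2) (hb 2)
    rw [← mul_inv_eq_iff_eq_mul] at h3
    have step : ∀ x, g * (s * x) * g⁻¹ = s * (g * x * g⁻¹) := fun x => by
      rw [← mul_assoc g s, hfix g s hgs]; group
    rw [conj_cube, h1, step, h1, ← mul_assoc s s, hs2, one_mul, h1] at h3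
    have hs1 : s = 1 := by
      have h9 : s * b 2 = 1 * b 2 := by rw [h3, one_mul]
      exact mul_right_cancel h9
    exact commutatorElement_eq_one_iff_mul_comm.1 hs1
  set St := centralizer ({b 2} : Set Y) with hSt
  have hQSt : Q ≤ St := fun q hq => mem_centralizer_singleton_iff.2 (L.cent q hq _ (hb 2))
  have hidx : St.index = 14 := by rw [hSt, ← card_orbit]; exact h
  have hcard : Nat.card (St.map (QuotientGroup.mk' Q)) = 12 := by
    rw [← Subgroup.relIndex_ker St (QuotientGroup.mk' Q), QuotientGroup.ker_mk']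
    have := Subgroup.relIndex_mul_index hQSt
    rw [hidx, D.index] at this
    omega
  let Yb : St.map (QuotientGroup.mk' Q) :=
    ⟨QuotientGroup.mk' Q y, Subgroup.mem_map_of_mem _ (mem_centralizer_singleton_iff.2 hyb)⟩
  let gb : St.map (QuotientGroup.mk' Q) :=
    ⟨QuotientGroup.mk' Q g, Subgroup.mem_map_of_mem _ (mem_centralizer_singleton_iff.2 hgb)⟩
  have hlin : ∀ (x : Y), x ∈ Q → ∀ v, comb (fun i => π (b i)) v =
      π x * comb (fun i => π (b i)) v * (π x)⁻¹ := fun x hx v => by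
    rw [LM.cent _ (Subgroup.mem_map_of_mem π hx) _ (comb_mem hπb v), mul_inv_cancel_right]
  have hyo : orderOf Yb = 4 := by
    refine orderOf_eq_prime_pow (p := 2) (n := 1) ?_ ?_
    · intro e
      have hy2 : y ^ 2 ∈ Q := (QuotientGroup.eq_one_iff _).1 (congrArg Subtype.val e)
      have := hlin _ hy2 ![1, 0, 0]
      rw [map_pow, conj_sq,
        hy, hy] at this
      exact absurd (comb_injective LM hπb hi this) (by decide)
    · exact Subtype.ext ((QuotientGroup.eq_one_iff _).2 hy4)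
  have hcomm : gb * Yb ^ 2 * gb⁻¹ = Yb ^ 2 := comm_sq_of_twelve hcard hyo gb
  have hQ : (y ^ 2)⁻¹ * (g * y ^ 2 * g⁻¹) ∈ Q :=
    QuotientGroup.eq.1 (congrArg Subtype.val hcomm).symm
  have := hlin _ hQ (lin tri ![1, 0, 0])
  simp only [map_mul, map_inv, map_pow] at this
  rw [show (π y ^ 2)⁻¹ * (π g * π y ^ 2 * (π g)⁻¹) * comb (fun i => π (b i)) (lin tri ![1, 0, 0]) *
      ((π y ^ 2)⁻¹ * (π g * π y ^ 2 * (π g)⁻¹))⁻¹ = (π y ^ 2)⁻¹ * (π g * (π y ^ 2 *
      ((π g)⁻¹ * comb (fun i => π (b i)) (lin tri ![1, 0, 0]) * π g) * (π y ^ 2)⁻¹) * (π g)⁻¹) *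
      π y ^ 2 by group] at this
  rw [← hg ![1, 0, 0], show (π g)⁻¹ * (π g * comb (fun i => π (b i)) ![1, 0, 0] * (π g)⁻¹) * π g
    = comb (fun i => π (b i)) ![1, 0, 0] by group, conj_sq, hy, hy, hg, hg] at this
  have h' : π y ^ 2 * comb (fun i => π (b i)) (lin tri ![1, 0, 0]) * (π y ^ 2)⁻¹ =
      comb (fun i => π (b i)) (lin tri (lin companion (lin companion ![1, 0, 0]))) := by
    rw [this]; group
  rw [conj_sq, hy, hy] at h'
  exact absurd (comb_injective LM hπb hi h') (by decide)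

end CfsgLib.Small.ConstrainedSeven
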