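import Cfsg.Agent.Lib.Small.ConstrainedSeven.EightLayer

/-!
# Two centralised layers cannot lie below a natural one

A cyclic group of order four below `Q/P` of order sixteen gives an elementary section of order 32.
-/

set_option autoImplicit false
set_option linter.unusedSectionVars false
set_option linter.style.haveILetI false

namespace CfsgLib.Small.ConstrainedSeven

open Subgroup
open scoped commutatorElement

variable {Y : Type*} [Group Y] [Finite Y] {Q : Subgroup Y}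

/-- The transvection of the square of `companion`. -/
def Tb : Fin 3 → Fin 3 → ZMod 2 := ![![1, 0, 1], ![0, 1, 0], ![0, 0, 1]]

/-- A transvection with the same centre. -/
def Sb : Fin 3 → Fin 3 → ZMod 2 := ![![1, 0, 0], ![0, 1, 1], ![0, 0, 1]]

/-- The product of the two transvections. -/
def Wb : Fin 3 → Fin 3 → ZMod 2 := ![![1, 0, 1], ![0, 1, 1], ![0, 0, 1]]

/-- A swap of the last two coordinates. -/
def swapTwo : Fin 3 → Fin 3 → ZMod 2 := ![![1, 0, 0], ![0, 0, 1], ![0, 1, 0]]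

theorem swapTwo_indep : ∀ v, lin swapTwo v = 0 → v = 0 := by decide

theorem commute_of_index_two {R : Subgroup Y} (hidx : (R.subgroupOf Q).index = 2)
    {w : Y} (hw : w ∈ Q) (hwR : w ∉ R) {x : Y} (hx : x ∈ Q) (hxR : x ∉ R) : w⁻¹ * x ∈ R := by
  have := Subgroup.mul_mem_iff_of_index_two hidx (a := (⟨w, hw⟩ : Q)⁻¹) (b := ⟨x, hx⟩)
  simp only [inv_mem_iff, Subgroup.mem_subgroupOf, Subgroup.coe_mul, InvMemClass.coe_inv] at this
  exact this.2 (iff_of_false hwR hxR)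

/-- A subgroup of order two that is normal is central. -/
theorem fixed_of_card_two (S : Subgroup Y) [hS : S.Normal] (h2 : Nat.card S = 2) :
    ∀ y : Y, ∀ s ∈ S, y * s = s * y := by
  intro y s hs
  by_cases hs1 : s = 1
  · simp [hs1]
  obtain ⟨w, -, huniq⟩ := (Nat.card_eq_two_iff' (1 : S)).1 h2
  have h1 := congrArg Subtype.val (huniq ⟨y * s * y⁻¹, hS.conj_mem s hs y⟩
    fun e => hs1 (conj_eq_one_iff.1 (congrArg Subtype.val e)))
  have h2' := congrArg Subtype.val (huniq ⟨s, hs⟩ fun e => hs1 (congrArg Subtype.val e))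
  rw [← mul_inv_eq_iff_eq_mul]
  exact h1.trans h2'.symm

set_option maxHeartbeats 4000000 in
theorem no_two_layer (D : Seven Y Q) {L P R : Subgroup Y} [hLn : L.Normal] [hPn : P.Normal]
    [hRn : R.Normal] (hLP : L ≤ P) (hPR : P ≤ R) (hRQ : R ≤ Q) (hL : Nat.card L = 2)
    (hP : Nat.card P = 4) (hidx : (R.subgroupOf Q).index = 2) (hsqR : ∀ a ∈ R, a ^ 2 ∈ L)
    (hsqQ : ∀ a ∈ Q, a ∉ R → a ^ 2 ∈ P ∧ a ^ 2 ∉ L) (hcomm : ∀ a ∈ Q, ∀ c ∈ Q, ⁅a, c⁆ ∈ L)
    (LM : Layer (Q.map (QuotientGroup.mk' P)) (R.map (QuotientGroup.mk' P)))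
    (hM8 : Nat.card (R.map (QuotientGroup.mk' P)) = 8) : False := by
  classical
  haveI := D.normal
  have hLc := fixed_of_card_two L hL
  have hLexp : ∀ l ∈ L, l ^ 2 = 1 := fun l hl => by
    have := congrArg Subtype.val (pow_card_eq_one' (x := (⟨l, hl⟩ : L)))
    rwa [hL] at this
  obtain ⟨w, hwQ, hwR⟩ : ∃ w ∈ Q, w ∉ R := by
    by_contra h
    push Not at h
    rw [Subgroup.subgroupOf_eq_top.2 h, Subgroup.index_top] at hidx
    omega
  obtain ⟨hzP, hzL⟩ := hsqQ w hwQ hwR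
  set z := w ^ 2 with hz
  have hPcases : ∀ p ∈ P, p ∈ L ∨ z⁻¹ * p ∈ L := by
    intro p hp
    by_cases hpL : p ∈ L
    · exact Or.inl hpL
    refine Or.inr (commute_of_index_two ?_ hzP hzL hp hpL)
    have := Subgroup.card_mul_index (L.subgroupOf P)
    rw [Nat.card_congr (Subgroup.subgroupOfEquivOfLe hLP).toEquiv, hL, hP] at this
    omega
  have hPQ : P ≤ Q := hPR.trans hRQ
  have hPcen : ∀ q ∈ Q, ∀ p ∈ P, q * p = p * q := by
    have hout : ∀ q ∈ Q, q ∉ R → ∀ p ∈ P, q * p = p * q := by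
      intro q hq hqR p hp
      rcases hPcases p hp with h | h
      · exact hLc q p h
      obtain ⟨hq2, hq2L⟩ := hsqQ q hq hqR
      have h' := (hPcases (q ^ 2) hq2).resolve_left hq2L
      have hpq : (q ^ 2)⁻¹ * p ∈ L := by
        have := mul_mem (inv_mem h') h
        rwa [mul_inv_rev, inv_inv, mul_assoc, mul_inv_cancel_left] at this
      rw [← mul_inv_cancel_left (q ^ 2) p, ← mul_assoc, (Commute.self_pow q 2).eq, mul_assoc,
        hLc q _ hpq, ← mul_assoc]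
    intro q hq p hp
    by_cases hqR : q ∈ R
    · have h1 : w⁻¹ * q ∉ R := fun h => hwR (by
        have := mul_mem hqR (inv_mem h); simpa using this)
      have h2 := hout _ (mul_mem (inv_mem hwQ) hq) h1 p hp
      rw [← mul_inv_cancel_left w q, mul_assoc, h2, ← mul_assoc, hout w hwQ hwR p hp, mul_assoc]
    · exact hout q hq hqR p hp
  letI : CommGroup L := { (inferInstance : Group L) with
    mul_comm := fun a c => Subtype.ext (hLc a c c.2) }
  have hPY : ∀ y : Y, ∀ p ∈ P, y * p = p * y := by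
    have hzL' : ∀ y : Y, ⁅y, z⁆ ∈ L := fun y => by
      have h1 := hPn.conj_mem z hzP y
      have h1L : y * z * y⁻¹ ∉ L := fun h => hzL (by
        have := hLn.conj_mem _ h y⁻¹
        rwa [show y⁻¹ * (y * z * y⁻¹) * y⁻¹⁻¹ = z by group] at this)
      have h3 := hLn.conj_mem _ ((hPcases _ h1).resolve_left h1L) z
      rwa [show z * (z⁻¹ * (y * z * y⁻¹)) * z⁻¹ = ⁅y, z⁆ by
        rw [commutatorElement_def]; group] at h3
    let f : Y →* L := MonoidHom.mk' (fun y => ⟨⁅y, z⁆, hzL' y⟩) fun a c => Subtype.ext (by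
      show ⁅a * c, z⁆ = ⁅a, z⁆ * ⁅c, z⁆
      rw [show ⁅a * c, z⁆ = a * ⁅c, z⁆ * a⁻¹ * ⁅a, z⁆ by simp only [commutatorElement_def]; group,
        hLc a _ (hzL' c), mul_inv_cancel_right, hLc _ _ (hzL' a)])
    have hf : ∀ y, y * z = z * y := fun y => commutatorElement_eq_one_iff_mul_comm.1
      (congrArg Subtype.val (D.hom_trivial f (fun q hq => MonoidHom.mem_ker.2 (Subtype.ext
        (commutatorElement_eq_one_iff_mul_comm.2 (hPcen q hq z hzP)))) y))
    intro y p hp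
    rcases hPcases p hp with h | h
    · exact hLc y p h
    · rw [← mul_inv_cancel_left z p, ← mul_assoc, hf, mul_assoc, hLc y _ h, ← mul_assoc]
  set π := QuotientGroup.mk' P with hπ
  have hsurjπ := QuotientGroup.mk'_surjective P
  have hπP : ∀ x, π x = 1 ↔ x ∈ P := fun x => QuotientGroup.eq_one_iff x
  have DP := D.quot P hPQ
  have hπR : ∀ x, π x ∈ R.map π → x ∈ R := fun x => by
    rintro ⟨r, hr, he⟩
    have := mul_mem hr (hPR (QuotientGroup.eq.1 he))
    rwa [mul_inv_cancel_left] at this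
  -- `R` is abelian
  have hmulR : ∀ a : Y, ∀ x ∈ R, ∀ c ∈ R, a ∈ Q → ⁅a, x * c⁆ = ⁅a, x⁆ * ⁅a, c⁆ :=
    fun a x hx c hc ha => by
      rw [show ⁅a, x * c⁆ = ⁅a, x⁆ * (x * ⁅a, c⁆ * x⁻¹) by simp only [commutatorElement_def]; group,
        hLc x _ (hcomm a ha c (hRQ hc)), mul_inv_cancel_right]
  have hconjL : ∀ y a c : Y, a ∈ Q → c ∈ Q → ⁅y * a * y⁻¹, y * c * y⁻¹⁆ = ⁅a, c⁆ := by
    intro y a c ha hc
    rw [show ⁅y * a * y⁻¹, y * c * y⁻¹⁆ = y * ⁅a, c⁆ * y⁻¹ by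
      simp only [commutatorElement_def]; group, hLc y _ (hcomm a ha c hc), mul_inv_cancel_right]
  have hmod : ∀ a c : Y, a ∈ Q → c ∈ R → ∀ p ∈ P, ⁅a, c * p⁆ = ⁅a, c⁆ := fun a c ha hc p hp => by
    rw [hmulR a c hc p (hPR hp) ha, commutatorElement_eq_one_iff_mul_comm.2 (hPcen a ha p hp),
      mul_one]
  have hmod' : ∀ a c : Y, a ∈ R → c ∈ Q → ∀ p ∈ P, ⁅a * p, c⁆ = ⁅a, c⁆ := fun a c ha hc p hp => by
    rw [← commutatorElement_inv, hmod c a hc ha p hp, commutatorElement_inv]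
  have hRab : ∀ a ∈ R, ∀ c ∈ R, a * c = c * a := by
    intro a ha c hc
    rw [← commutatorElement_eq_one_iff_mul_comm]
    by_cases hπa : π a = 1
    · rw [← one_mul a, hmod' 1 c (one_mem R) (hRQ hc) a ((hπP a).1 hπa), commutatorElement_one_left]
    by_cases hπc : π c = 1
    · rw [← one_mul c, hmod a 1 (hRQ ha) (one_mem R) c ((hπP c).1 hπc), commutatorElement_one_right]
    by_cases hπac : π c = π a
    · rw [← mul_inv_cancel_left a c, hmod a a (hRQ ha) ha _ (QuotientGroup.eq.1 hπac.symm),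
        commutatorElement_self]
    obtain ⟨B, hB, hBi, hB0, hB1⟩ := exists_basis LM hM8 (Subgroup.mem_map_of_mem π ha) hπa
      (Subgroup.mem_map_of_mem π hc) hπc hπac
    obtain ⟨d, hd, hdB⟩ := hB 2
    obtain ⟨h21, h20, h2b, h2ab⟩ := hBi.third LM hB
    rw [hB0] at h20
    rw [← hdB] at h21 h20
    have key : ∀ c' ∈ R, π c' ≠ 1 → π c' ≠ π a → ⁅a, c'⁆ = ⁅a, c⁆ := by
      intro c' hc' hc1' hca'
      obtain ⟨yb, hy1, hy2⟩ := LM.exists_conj_two DP hM8 (Subgroup.mem_map_of_mem π ha) hπa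
        (Subgroup.mem_map_of_mem π hc) hπc hπac (Subgroup.mem_map_of_mem π ha) hπa
        (Subgroup.mem_map_of_mem π hc') hc1' hca'
      obtain ⟨y, rfl⟩ := hsurjπ yb
      have ha' := QuotientGroup.eq.1 (show π a = π (y * a * y⁻¹) by rw [map_mul, map_mul, map_inv, hy1])
      have hc'' := QuotientGroup.eq.1 (show π c' = π (y * c * y⁻¹) by rw [map_mul, map_mul, map_inv, hy2])
      rw [← hconjL y a c (hRQ ha) (hRQ hc), ← mul_inv_cancel_left a (y * a * y⁻¹),
        ← mul_inv_cancel_left c' (y * c * y⁻¹),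
        hmod' a _ ha (mul_mem (hRQ hc') (hPQ hc'')) _ ha', hmod a c' (hRQ ha) hc' _ hc'']
    have hcd : π (c * d) ≠ 1 ∧ π (c * d) ≠ π a := by
      rw [map_mul, hdB, ← hB1, ← hB0]
      refine ⟨fun e => h2b ?_, fun e => h2ab ?_⟩
      · rw [eq_inv_of_mul_eq_one_right e, LM.inv_eq (hB 1)]
      · rw [← e, LM.comm _ (hB 1) _ (hB 2), mul_assoc, ← pow_two, LM.exp _ (hB 1), mul_one]
    have h1 := key d hd h21 h20
    have h2 := key (c * d) (mul_mem hc hd) hcd.1 hcd.2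
    rw [hmulR a c hc d hd (hRQ ha), h1, mul_eq_left] at h2
    exact h2
  have hsqmul : ∀ a ∈ R, ∀ c ∈ R, (a * c) ^ 2 = a ^ 2 * c ^ 2 := fun a ha c hc =>
    Commute.mul_pow (hRab a ha c hc) 2
  have hR32 : Nat.card R = 32 := by
    have := Subgroup.card_mul_index (P.subgroupOf R)
    rw [Nat.card_congr (Subgroup.subgroupOfEquivOfLe hPR).toEquiv, hP] at this
    rw [← Subgroup.relIndex_ker R π, QuotientGroup.ker_mk', Subgroup.relIndex] at hM8
    rw [hM8] at this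
    omega
  have hz2 : z ^ 2 ≠ 1 := by
    intro e
    have hPexp : ∀ p ∈ P, p ^ 2 = 1 := fun p hp => by
      rcases hPcases p hp with h | h
      · exact hLexp p h
      · rw [← mul_inv_cancel_left z p, hsqmul z (hPR hzP) _ (hPR (hLP h)), e, hLexp _ h, mul_one]
    have hRexp : ∀ a ∈ R, a ^ 2 = 1 := by
      intro a ha
      by_cases hπa : π a = 1
      · exact hPexp a ((hπP a).1 hπa)
      have hex : ∃ c ∈ R, π c ≠ 1 ∧ π c ≠ π a := by
        by_contra h
        push Not at h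
        have hle : R.map π ≤ zpowers (π a) := by
          rintro _ ⟨c, hc, rfl⟩
          by_cases hc1 : π c = 1
          · rw [hc1]; exact one_mem _
          · rw [h c hc hc1]; exact mem_zpowers _
        have := Subgroup.card_le_of_le hle
        have := Nat.le_of_dvd (by norm_num)
          (orderOf_dvd_of_pow_eq_one (LM.exp _ (Subgroup.mem_map_of_mem π ha)))
        rw [Nat.card_zpowers, hM8] at *
        omega
      obtain ⟨c, hc, hc1, hca⟩ := hex
      have key : ∀ x ∈ R, π x ≠ 1 → x ^ 2 = a ^ 2 := by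
        intro x hx hx1
        obtain ⟨yb, hy⟩ := LM.exists_conj_one DP hM8 (Subgroup.mem_map_of_mem π ha) hπa
          (Subgroup.mem_map_of_mem π hx) hx1
        obtain ⟨y, rfl⟩ := hsurjπ yb
        have h' := QuotientGroup.eq.1 (show π x = π (y * a * y⁻¹) by rw [map_mul, map_mul, map_inv, hy])
        have h2 : (y * a * y⁻¹) ^ 2 = a ^ 2 := by
          rw [conj_pow, hLc y _ (hsqR a ha), mul_inv_cancel_right]
        rw [← h2, ← mul_inv_cancel_left x (y * a * y⁻¹), hsqmul x hx _ (hPR h'), hPexp _ h', mul_one]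
      have hac : π (a * c) ≠ 1 := fun e' => hca (by
        rw [map_mul] at e'
        rw [eq_inv_of_mul_eq_one_right e', LM.inv_eq (Subgroup.mem_map_of_mem π ha)])
      have := key (a * c) (mul_mem ha hc) hac
      rw [hsqmul a ha c hc, key c hc hc1, mul_eq_left] at this
      exact this
    have := ConstrainedFive.card_le_sixteen D.rank R hRab hRexp
    omega
  -- `Q` is abelian
  have hwc : ∀ a ∈ R, w * a = a * w := by
    have hconst : ∀ a ∈ R, π a ≠ 1 → ∀ x ∈ R, π x ≠ 1 → ⁅w, x⁆ = ⁅w, a⁆ := by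
      intro a ha ha1 x hx hx1
      obtain ⟨yb, hy⟩ := LM.exists_conj_one DP hM8 (Subgroup.mem_map_of_mem π ha) ha1
        (Subgroup.mem_map_of_mem π hx) hx1
      obtain ⟨y, rfl⟩ := hsurjπ yb
      have h' := QuotientGroup.eq.1 (show π x = π (y * a * y⁻¹) by rw [map_mul, map_mul, map_inv, hy])
      have hw' : y * w * y⁻¹ ∈ Q := D.normal.conj_mem w hwQ y
      have hw'R : y * w * y⁻¹ ∉ R := fun h => hwR (by
        have := hRn.conj_mem _ h y⁻¹
        rwa [show y⁻¹ * (y * w * y⁻¹) * y⁻¹⁻¹ = w by group] at this)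
      have hr := commute_of_index_two hidx hwQ hwR hw' hw'R
      rw [← hmod w x hwQ hx _ h', mul_inv_cancel_left, ← hconjL y w a hwQ (hRQ ha)]
      conv_rhs => rw [← mul_inv_cancel_left w (y * w * y⁻¹)]
      rw [show ⁅w * (w⁻¹ * (y * w * y⁻¹)), y * a * y⁻¹⁆ = w * ⁅w⁻¹ * (y * w * y⁻¹), y * a * y⁻¹⁆ *
        w⁻¹ * ⁅w, y * a * y⁻¹⁆ by simp only [commutatorElement_def]; group,
        commutatorElement_eq_one_iff_mul_comm.2 (hRab _ hr _ (hRn.conj_mem a ha y)), mul_one,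
        mul_inv_cancel, one_mul]
    intro a ha
    rw [← commutatorElement_eq_one_iff_mul_comm]
    by_cases hπa : π a = 1
    · exact commutatorElement_eq_one_iff_mul_comm.2 (hPcen w hwQ a ((hπP a).1 hπa))
    have hex : ∃ c ∈ R, π c ≠ 1 ∧ π c ≠ π a := by
      by_contra h
      push Not at h
      have hle : R.map π ≤ zpowers (π a) := by
        rintro _ ⟨c, hc, rfl⟩
        by_cases hc1 : π c = 1
        · rw [hc1]; exact one_mem _
        · rw [h c hc hc1]; exact mem_zpowers _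
      have := Subgroup.card_le_of_le hle
      have := Nat.le_of_dvd (by norm_num)
        (orderOf_dvd_of_pow_eq_one (LM.exp _ (Subgroup.mem_map_of_mem π ha)))
      rw [Nat.card_zpowers, hM8] at *
      omega
    obtain ⟨c, hc, hc1, hca⟩ := hex
    have hac : π (a * c) ≠ 1 := fun e' => hca (by
      rw [map_mul] at e'
      rw [eq_inv_of_mul_eq_one_right e', LM.inv_eq (Subgroup.mem_map_of_mem π ha)])
    have := hconst a ha hπa (a * c) (mul_mem ha hc) hac
    rw [hmulR w a ha c hc hwQ, hconst a ha hπa c hc hc1, mul_eq_left] at this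
    exact this
  have hQab : ∀ a ∈ Q, ∀ c ∈ Q, a * c = c * a := by
    have hR' : ∀ a ∈ Q, ∀ c ∈ R, a * c = c * a := by
      intro a ha c hc
      by_cases haR : a ∈ R
      · exact hRab a haR c hc
      have hr := commute_of_index_two hidx hwQ hwR ha haR
      rw [← mul_inv_cancel_left w a, mul_assoc, hRab _ hr c hc, ← mul_assoc, hwc c hc, mul_assoc]
    intro a ha c hc
    by_cases hcR : c ∈ R
    · exact hR' a ha c hcR
    by_cases haR : a ∈ R
    · exact (hR' c hc a haR).symm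
    have hr := commute_of_index_two hidx hwQ hwR hc hcR
    have hra := commute_of_index_two hidx hwQ hwR ha haR
    have haw : a * w = w * a := by
      rw [← mul_inv_cancel_left w a, mul_assoc w, ← hwc _ hra]
    rw [← mul_inv_cancel_left w c, ← mul_assoc a w, haw, mul_assoc w a, hR' a ha _ hr,
      ← mul_assoc w]
  -- the involutions of `R`
  let Ω : Subgroup Y :=
    { carrier := {a | a ∈ R ∧ a ^ 2 = 1}
      one_mem' := ⟨one_mem R, one_pow 2⟩
      mul_mem' := fun {a c} ha hc => ⟨mul_mem ha.1 hc.1, by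
        rw [hsqmul a ha.1 c hc.1, ha.2, hc.2, one_mul]⟩
      inv_mem' := fun {a} ha => ⟨inv_mem ha.1, by rw [inv_pow, ha.2, inv_one]⟩ }
  have hΩR : Ω ≤ R := fun a ha => ha.1
  haveI hΩn : Ω.Normal := ⟨fun a ha y => ⟨hRn.conj_mem a ha.1 y, by
    rw [conj_pow, ha.2, mul_one, mul_inv_cancel]⟩⟩
  have hzl : ∀ l ∈ L, l ≠ 1 → l = z ^ 2 := by
    intro l hl hl1
    obtain ⟨x, -, huniq⟩ := (Nat.card_eq_two_iff' (1 : L)).1 hL
    have h1 := congrArg Subtype.val (huniq ⟨l, hl⟩ fun e => hl1 (congrArg Subtype.val e))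
    have h2 := congrArg Subtype.val (huniq ⟨z ^ 2, hsqR z (hPR hzP)⟩
      fun e => hz2 (congrArg Subtype.val e))
    exact h1.trans h2.symm
  have hdec : ∀ a ∈ R, ∃ p ∈ P, ∃ ω ∈ Ω, a = p * ω := by
    intro a ha
    by_cases h : a ^ 2 = 1
    · exact ⟨1, one_mem P, a, ⟨ha, h⟩, (one_mul a).symm⟩
    refine ⟨z, hzP, z⁻¹ * a, ⟨mul_mem (inv_mem (hPR hzP)) ha, ?_⟩, (mul_inv_cancel_left z a).symm⟩
    rw [hsqmul _ (inv_mem (hPR hzP)) a ha, inv_pow, hzl _ (hsqR a ha) h, inv_mul_cancel]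
  have hLΩ : L ≤ Ω := fun l hl => ⟨hPR (hLP hl), hLexp l hl⟩
  have hΩP : ∀ x ∈ Ω, x ∈ P → x ∈ L := by
    intro x hx hxP
    rcases hPcases x hxP with h | h
    · exact h
    exfalso
    apply hz2
    have := hx.2
    rwa [← mul_inv_cancel_left z x, hsqmul z (hPR hzP) _ (hPR (hLP h)), hLexp _ h, mul_one] at this
  have hΩ16 : Nat.card Ω = 16 := by
    let φ : R →* L := MonoidHom.mk' (fun a => ⟨(a : Y) ^ 2, hsqR a a.2⟩) fun a c =>
      Subtype.ext (hsqmul a a.2 c c.2)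
    have hs : φ.range = ⊤ := by
      rw [eq_top_iff]
      intro l _
      by_cases hl : (l : Y) = 1
      · exact ⟨1, Subtype.ext (by rw [hl]; exact one_pow 2)⟩
      · exact ⟨⟨z, hPR hzP⟩, Subtype.ext (hzl l l.2 hl).symm⟩
    have h := Subgroup.card_mul_index φ.ker
    rw [Subgroup.index_ker, hs, Subgroup.card_top, hL, hR32] at h
    have e : Nat.card φ.ker = Nat.card Ω := Nat.card_congr
      { toFun := fun a => ⟨a.1.1, a.1.2, congrArg Subtype.val (MonoidHom.mem_ker.1 a.2)⟩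
        invFun := fun x => ⟨⟨x.1, x.2.1⟩, MonoidHom.mem_ker.2 (Subtype.ext x.2.2)⟩
        left_inv := fun a => rfl
        right_inv := fun x => rfl }
    omega
  have hΩQ : Ω ≤ Q := hΩR.trans hRQ
  have LΩ : Layer Q Ω := by
    refine ⟨hΩn, fun a ha c hc => hRab a ha.1 c hc.1, fun a ha => ha.2,
      fun q hq a ha => hQab q hq a (hΩQ ha), fun h => LM.moved fun yb k hk => ?_⟩
    obtain ⟨y, rfl⟩ := hsurjπ yb
    obtain ⟨a, ha, rfl⟩ := hk
    obtain ⟨p, hp, ω, hω, rfl⟩ := hdec a ha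
    rw [← map_mul, ← map_mul, ← mul_assoc, hPY y p hp, mul_assoc, h y ω hω, ← mul_assoc]
  set πL := QuotientGroup.mk' L with hπLdef
  have hπL : ∀ x, πL x = 1 ↔ x ∈ L := fun x => QuotientGroup.eq_one_iff x
  have hLQ : L ≤ Q := hLP.trans hPQ
  have DL := D.quot L hLQ
  obtain ⟨LO, hO8⟩ := natural_quot LΩ D hΩQ hΩ16 L hLΩ hL hLc
  have hπΩ : ∀ x, πL x ∈ Ω.map πL → x ∈ Ω := fun x => by
    rintro ⟨r, hr, he⟩
    have := mul_mem hr (hLΩ (QuotientGroup.eq.1 he))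
    rwa [mul_inv_cancel_left] at this
  -- the fixed points on the top
  have hfixtop : ∀ y x : Y, y ∉ Q → y ^ 4 ∈ Q → x ∈ Q → x ∉ R → ⁅y, x⁆ ∈ P →
      ∃ w' ∈ Q, w' ∉ R ∧ ∀ y' : Y, y' * w' = w' * y' := by
    intro y x hy hy4 hx hxR hyx
    have LV : Layer (Q.map π) (Q.map π) := by
      refine ⟨Subgroup.Normal.map inferInstance π hsurjπ, ?_, ?_, ?_, fun h => LM.moved
        fun yb k hk => h yb k (Subgroup.map_mono hRQ hk)⟩
      · rintro _ ⟨a, ha, rfl⟩ _ ⟨c, hc, rfl⟩; rw [← map_mul, hQab a ha c hc, map_mul]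
      · rintro _ ⟨a, ha, rfl⟩
        rw [← map_pow, hπP]
        by_cases haR : a ∈ R
        · exact hLP (hsqR a haR)
        · exact (hsqQ a ha haR).1
      · rintro _ ⟨a, ha, rfl⟩ _ ⟨c, hc, rfl⟩; rw [← map_mul, hQab a ha c hc, map_mul]
    have hV16 : Nat.card (Q.map π) = 16 := by
      have h1 := Subgroup.card_mul_index (P.subgroupOf Q)
      have h2 := Subgroup.card_mul_index (R.subgroupOf Q)
      rw [Nat.card_congr (Subgroup.subgroupOfEquivOfLe hPQ).toEquiv, hP] at h1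
      rw [Nat.card_congr (Subgroup.subgroupOfEquivOfLe hRQ).toEquiv, hR32, hidx] at h2
      rw [← Subgroup.relIndex_ker Q π, QuotientGroup.ker_mk', Subgroup.relIndex]
      omega
    obtain ⟨zb, hzb, hzbR, hzbc⟩ := exists_fixed_outside LV DP hV16
      (Subgroup.Normal.map inferInstance π hsurjπ) (Subgroup.map_mono hRQ) hM8
      (fun h => hy (mem_of_map_mem P hPQ h)) (by rw [← map_pow]; exact Subgroup.mem_map_of_mem π hy4)
      (Subgroup.mem_map_of_mem π hx) (fun h => hxR (hπR x h))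
      (by rw [← commutatorElement_eq_one_iff_mul_comm, ← map_commutatorElement, hπP]; exact hyx)
    obtain ⟨w', hw', rfl⟩ := hzb
    refine ⟨w', hw', fun h => hzbR (Subgroup.mem_map_of_mem π h), fun y' => ?_⟩
    letI : CommGroup P := { (inferInstance : Group P) with
      mul_comm := fun a c => Subtype.ext (hPY a c c.2) }
    have hmem : ∀ y' : Y, ⁅y', w'⁆ ∈ P := fun y' => by
      rw [← hπP, map_commutatorElement, commutatorElement_eq_one_iff_mul_comm]
      exact hzbc (π y')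
    let f : Y →* P := MonoidHom.mk' (fun y' => ⟨⁅y', w'⁆, hmem y'⟩) fun a c => Subtype.ext (by
      show ⁅a * c, w'⁆ = ⁅a, w'⁆ * ⁅c, w'⁆
      rw [show ⁅a * c, w'⁆ = a * ⁅c, w'⁆ * a⁻¹ * ⁅a, w'⁆ by simp only [commutatorElement_def]; group,
        hPY a _ (hmem c), mul_inv_cancel_right, hPY _ _ (hmem a)])
    exact commutatorElement_eq_one_iff_mul_comm.1 (congrArg Subtype.val (D.hom_trivial f
      (fun q hq => MonoidHom.mem_ker.2 (Subtype.ext
        (commutatorElement_eq_one_iff_mul_comm.2 (hQab q hq w' hw')))) y'))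
  -- companions
  have hcomp : ∀ b : Fin 3 → Y, (∀ i, b i ∈ Ω) → Indep (fun i => πL (b i)) → ∀ y : Y,
      (∀ v, πL y * comb (fun i => πL (b i)) v * (πL y)⁻¹ =
        comb (fun i => πL (b i)) (lin companion v)) → y ∉ Q ∧ y ^ 4 ∈ Q := by
    intro b hb hbi y hy
    have hbm : ∀ i, πL (b i) ∈ Ω.map πL := fun i => Subgroup.mem_map_of_mem πL (hb i)
    refine ⟨fun h => ?_, ?_⟩
    · have h1 := hy ![1, 0, 0]
      rw [LO.cent _ (Subgroup.mem_map_of_mem πL h) _ (comb_mem hbm _), mul_inv_cancel_right] at h1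
      exact absurd (comb_injective LO hbm hbi h1) (by decide)
    · refine mem_of_map_mem L hLQ (LO.mem_of_fix DL fun k hk => ?_)
      obtain ⟨v, rfl⟩ := comb_surjective LO hbm hbi hO8 hk
      have e : ∀ v, lin companion (lin companion (lin companion (lin companion v))) = v := by decide
      rw [← mul_inv_eq_iff_eq_mul, map_pow, show πL y ^ 4 = πL y ^ 2 * πL y ^ 2 by rw [← pow_add],
        show πL y ^ 2 * πL y ^ 2 * comb (fun i => πL (b i)) v * (πL y ^ 2 * πL y ^ 2)⁻¹ =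
          πL y ^ 2 * (πL y ^ 2 * comb (fun i => πL (b i)) v * (πL y ^ 2)⁻¹) * (πL y ^ 2)⁻¹ by group,
        conj_sq (πL y) (comb (fun i => πL (b i)) v), hy, hy, conj_sq, hy, hy, e]
  obtain ⟨b₀, hb₀, hb₀i⟩ : ∃ b : Fin 3 → Y, (∀ i, b i ∈ Ω) ∧ Indep (fun i => πL (b i)) := by
    obtain ⟨p, hp, hp1⟩ : ∃ p ∈ Ω.map πL, p ≠ 1 := by
      by_contra h
      push Not at h
      rw [(Subgroup.eq_bot_iff_forall _).2 h, Subgroup.card_bot] at hO8
      omega
    obtain ⟨p', hp', hp1', hpp⟩ : ∃ p' ∈ Ω.map πL, p' ≠ 1 ∧ p' ≠ p := by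
      by_contra h
      push Not at h
      have hle : Ω.map πL ≤ zpowers p := fun x hx => by
        by_cases hx1 : x = 1
        · rw [hx1]; exact one_mem _
        · rw [h x hx hx1]; exact mem_zpowers p
      have := Subgroup.card_le_of_le hle
      have := Nat.le_of_dvd (by norm_num) (orderOf_dvd_of_pow_eq_one (LO.exp p hp))
      rw [Nat.card_zpowers, hO8] at *
      omega
    obtain ⟨B, hB, hBi, -, -⟩ := exists_basis LO hO8 hp hp1 hp' hp1' hpp
    choose b hb hbB using hB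
    exact ⟨b, hb, by rw [show (fun i => πL (b i)) = B from funext hbB]; exact hBi⟩
  obtain ⟨y₀b, hy₀⟩ := LO.exists_lin DL hO8 (fun i => Subgroup.mem_map_of_mem πL (hb₀ i)) hb₀i
    companion companion_indep
  obtain ⟨y₀, rfl⟩ := QuotientGroup.mk'_surjective L y₀b
  -- the final section
  have finish : ∀ (b : Fin 3 → Y) (hb : ∀ i, b i ∈ Ω) (_ : Indep fun i => πL (b i)) (y : Y),
      (∀ v, πL y * comb (fun i => πL (b i)) v * (πL y)⁻¹ =
        comb (fun i => πL (b i)) (lin companion v)) →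
      ∀ (N M : Subgroup Y), N ≤ M → M ≤ Q → 8 ≤ N.relIndex M → y ^ 4 ∈ N →
      (∀ m ∈ M, m ^ 2 ∈ N) →
      (∀ x : Y, (∀ ω ∈ Ω, πL ⁅x, ω⁆ ∈ zpowers (πL (b 2))) → ∀ m ∈ M, ⁅x, m⁆ ∈ N) →
      (∀ x : Y, πL x * πL (b 2) * (πL x)⁻¹ = πL (b 2) → ∀ n ∈ N, x * n * x⁻¹ ∈ N) →
      (∀ u₁ u₂ u₃ : Y, u₁ ^ 2 ∈ N → u₂ ^ 2 ∈ N → u₃ ^ 2 ∈ N → ⁅u₁, u₂⁆ ∈ Q →
        u₃⁻¹ * (u₁ * u₂) ∈ Q → u₃⁻¹ * (u₁ * u₂) ∈ M) → False := by
    intro b hb hbi y hy N M hNM hMQ hrel hcN hM2 hMc hNconj hpar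
    set β : Fin 3 → Y ⧸ L := fun i => πL (b i) with hβ
    have hbm : ∀ i, β i ∈ Ω.map πL := fun i => Subgroup.mem_map_of_mem πL (hb i)
    have hb2 : comb β ![0, 0, 1] = πL (b 2) := by
      simp [comb, hβ, show (1 : ZMod 2).val = 1 from rfl]
    obtain ⟨hyQ, hy4⟩ := hcomp b hb hbi y hy
    obtain ⟨hx, hhx⟩ := LO.exists_lin DL hO8 hbm hbi swapMat swapMat_indep
    obtain ⟨h, rfl⟩ := QuotientGroup.mk'_surjective L hx
    obtain ⟨gx, hgx⟩ := LO.exists_lin DL hO8 hbm hbi shear shear_indep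
    obtain ⟨g, rfl⟩ := QuotientGroup.mk'_surjective L gx
    set u := y ^ 2 with hu
    have huT : ∀ v, πL u * comb β v * (πL u)⁻¹ = comb β (lin Tb v) := fun v => by
      rw [hu, map_pow, conj_sq, hy, hy]
      have e : ∀ v, lin companion (lin companion v) = lin Tb v := by decide
      rw [e]
    have hconj : ∀ (x : Y) (A : Fin 3 → Fin 3 → ZMod 2),
        (∀ v, πL x * comb β v * (πL x)⁻¹ = comb β (lin A v)) → (∀ v, lin A (lin A v) = v) →
        ∀ v, πL (x * u * x⁻¹) * comb β v * (πL (x * u * x⁻¹))⁻¹ =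
          comb β (lin A (lin Tb (lin A v))) := by
      intro x A hA hinv v
      rw [← hA, ← huT, map_mul, map_mul, map_inv]
      conv_lhs => rw [← hinv v, ← hA]
      group
    set u₂ := h * u * h⁻¹ with hu₂
    set u₃ := g * u * g⁻¹ with hu₃
    have hu₂S : ∀ v, πL u₂ * comb β v * (πL u₂)⁻¹ = comb β (lin Sb v) := fun v => by
      rw [hu₂, hconj h swapMat hhx (by decide)]
      have e : ∀ v, lin swapMat (lin Tb (lin swapMat v)) = lin Sb v := by decide
      rw [e]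
    have hu₃W : ∀ v, πL u₃ * comb β v * (πL u₃)⁻¹ = comb β (lin Wb v) := fun v => by
      rw [hu₃, hconj g shear hgx (by decide)]
      have e : ∀ v, lin shear (lin Tb (lin shear v)) = lin Wb v := by decide
      rw [e]
    have hcentre : ∀ (x : Y) (A : Fin 3 → Fin 3 → ZMod 2),
        (∀ v, πL x * comb β v * (πL x)⁻¹ = comb β (lin A v)) →
        (∀ v, lin A v + v = 0 ∨ lin A v + v = ![0, 0, 1]) →
        ∀ ω ∈ Ω, πL ⁅x, ω⁆ ∈ zpowers (πL (b 2)) := by
      intro x A hA hAv ω hω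
      obtain ⟨v, hv⟩ := comb_surjective LO hbm hbi hO8 (Subgroup.mem_map_of_mem πL hω)
      rw [map_commutatorElement, ← hv, commutatorElement_def, hA, LO.inv_eq (comb_mem hbm v),
        ← comb_add LO hbm]
      rcases hAv v with e | e <;> rw [e]
      · rw [comb_zero LO hbm]; exact one_mem _
      · rw [hb2]; exact mem_zpowers _
    have hfix : ∀ (x : Y) (A : Fin 3 → Fin 3 → ZMod 2),
        (∀ v, πL x * comb β v * (πL x)⁻¹ = comb β (lin A v)) → lin A ![0, 0, 1] = ![0, 0, 1] →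
        ∀ n ∈ N, x * n * x⁻¹ ∈ N := fun x A hA hA2 => hNconj x (by rw [← hb2, hA, hA2])
    have hc₁ : u ^ 2 ∈ N := by rw [hu, ← pow_mul]; exact hcN
    have hc₂ : u₂ ^ 2 ∈ N := by
      rw [hu₂, conj_pow]; exact hfix h swapMat hhx (by decide) _ hc₁
    have hc₃ : u₃ ^ 2 ∈ N := by
      rw [hu₃, conj_pow]; exact hfix g shear hgx (by decide) _ hc₁
    have hact : ∀ x : Y, (∀ v, πL x * comb β v * (πL x)⁻¹ = comb β v) → x ∈ Q := fun x hx' =>
      mem_of_map_mem L hLQ (LO.mem_of_fix DL fun k hk => by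
        obtain ⟨v, rfl⟩ := comb_surjective LO hbm hbi hO8 hk
        rw [← mul_inv_eq_iff_eq_mul, hx'])
    have hnot : ∀ (x : Y) (A : Fin 3 → Fin 3 → ZMod 2) (v : Fin 3 → ZMod 2),
        (∀ v, πL x * comb β v * (πL x)⁻¹ = comb β (lin A v)) → lin A v ≠ v → x ∉ Q := by
      intro x A v hA hne hxQ
      refine hne (comb_injective LO hbm hbi ?_)
      rw [← hA, LO.cent _ (Subgroup.mem_map_of_mem πL hxQ) _ (comb_mem hbm v), mul_inv_cancel_right]
    have hinvmat : ∀ (x : Y) (A : Fin 3 → Fin 3 → ZMod 2),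
        (∀ v, πL x * comb β v * (πL x)⁻¹ = comb β (lin A v)) → (∀ v, lin A (lin A v) = v) →
        ∀ v, πL x⁻¹ * comb β v * (πL x⁻¹)⁻¹ = comb β (lin A v) := by
      intro x A hA hinv v
      conv_lhs => rw [← hinv v, ← hA, map_inv]
      group
    have hmulmat : ∀ (x x' : Y) (A A' : Fin 3 → Fin 3 → ZMod 2),
        (∀ v, πL x * comb β v * (πL x)⁻¹ = comb β (lin A v)) →
        (∀ v, πL x' * comb β v * (πL x')⁻¹ = comb β (lin A' v)) →
        ∀ v, πL (x * x') * comb β v * (πL (x * x'))⁻¹ = comb β (lin A (lin A' v)) := by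
      intro x x' A A' hA hA' v
      rw [← hA, ← hA', map_mul]
      group
    have eTS : ∀ v, lin Tb (lin Sb v) = lin Wb v := by decide
    have hprod : ∀ v, πL (u * u₂) * comb β v * (πL (u * u₂))⁻¹ = comb β (lin Wb v) := fun v => by
      rw [hmulmat u u₂ Tb Sb huT hu₂S, eTS]
    have huinv := hinvmat u Tb huT (by decide)
    have hu₂inv := hinvmat u₂ Sb hu₂S (by decide)
    have hk : ⁅u, u₂⁆ ∈ Q := hact _ fun v => by
      rw [map_commutatorElement, commutatorElement_def]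
      have h1 := hu₂inv v
      have h2 := huinv (lin Sb v)
      rw [map_inv] at h1 h2
      rw [show πL u * πL u₂ * (πL u)⁻¹ * (πL u₂)⁻¹ * comb β v *
        (πL u * πL u₂ * (πL u)⁻¹ * (πL u₂)⁻¹)⁻¹ = πL u * (πL u₂ * ((πL u)⁻¹ * ((πL u₂)⁻¹ *
          comb β v * (πL u₂)⁻¹⁻¹) * (πL u)⁻¹⁻¹) * (πL u₂)⁻¹) * (πL u)⁻¹ by group, h1, h2, hu₂S, huT]
      have e : ∀ v, lin Tb (lin Sb (lin Tb (lin Sb v))) = v := by decide
      rw [e]
    have hqQ : u₃⁻¹ * (u * u₂) ∈ Q := hact _ fun v => by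
      have h1 := hinvmat u₃ Wb hu₃W (by decide) (lin Wb v)
      rw [map_inv] at h1
      rw [map_mul, map_inv, show (πL u₃)⁻¹ * πL (u * u₂) * comb β v * ((πL u₃)⁻¹ * πL (u * u₂))⁻¹ =
        (πL u₃)⁻¹ * (πL (u * u₂) * comb β v * (πL (u * u₂))⁻¹) * (πL u₃)⁻¹⁻¹ by group, hprod, h1]
      have e : ∀ v, lin Wb (lin Wb v) = v := by decide
      rw [e]
    have hqM := hpar u u₂ u₃ hc₁ hc₂ hc₃ hk hqQ
    set q := u₃⁻¹ * (u * u₂) with hq
    have hu₃c := hcentre u₃ Wb hu₃W (by decide)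
    have hsq3 : (u * u₂) ^ 2 ∈ N := by
      have hqu : q * u₃ ^ 2 = u₃ ^ 2 * q := hQab q hqQ _ (hMQ (hNM hc₃))
      rw [show u * u₂ = u₃ * q by rw [hq, mul_inv_cancel_left],
        show (u₃ * q) ^ 2 = ⁅u₃, q⁆ * (q * u₃ ^ 2) * q by
          simp only [pow_two, commutatorElement_def]; group, hqu, mul_assoc, mul_assoc, ← pow_two]
      exact mul_mem (hMc u₃ hu₃c q hqM) (mul_mem hc₃ (hM2 q hqM))
    have huv : ⁅u, u₂⁆ ∈ N := by
      have hn : ⁅u⁻¹, u₂⁆ ∈ N := by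
        have := mul_mem (mul_mem (inv_mem hc₁) hsq3) (inv_mem hc₂)
        rwa [show (u ^ 2)⁻¹ * (u * u₂) ^ 2 * (u₂ ^ 2)⁻¹ = ⁅u⁻¹, u₂⁆ by
          simp only [pow_two, commutatorElement_def]; group] at this
      rw [show ⁅u, u₂⁆ = u * ⁅u⁻¹, u₂⁆⁻¹ * u⁻¹ by simp only [commutatorElement_def]; group]
      exact hfix u Tb huT (by decide) _ (inv_mem hn)
    refine section_two D hNM hMQ (u := u) (v := u₂) hM2 (fun m hm m' hm' => ?_)
      (hMc u (hcentre u Tb huT (by decide))) (hMc u₂ (hcentre u₂ Sb hu₂S (by decide))) hc₁ hc₂ huv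
      (hnot u Tb ![1, 0, 0] huT (by decide)) (hnot u₂ Sb ![0, 1, 0] hu₂S (by decide))
      (hnot _ Wb ![1, 0, 0] (fun v => by rw [hmulmat u⁻¹ u₂ Tb Sb huinv hu₂S, eTS]) (by decide))
      (hnot _ Wb ![1, 0, 0] hprod (by decide)) hrel
    rw [commutatorElement_eq_one_iff_mul_comm.2 (hQab m (hMQ hm) m' (hMQ hm'))]
    exact one_mem _
  have hcommΩ : ∀ (x : Y) (a : Y), a ∈ R → ∃ ω ∈ Ω, ⁅x, a⁆ = ⁅x, ω⁆ ∧ ∃ p ∈ P, a = p * ω := by
    intro x a ha
    obtain ⟨p, hp, ω, hω, rfl⟩ := hdec a ha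
    refine ⟨ω, hω, ?_, p, hp, rfl⟩
    rw [show ⁅x, p * ω⁆ = ⁅x, p⁆ * (p * ⁅x, ω⁆ * p⁻¹) by simp only [commutatorElement_def]; group,
      commutatorElement_eq_one_iff_mul_comm.2 (hPY x p hp), one_mul, ← hPY _ p hp,
      mul_inv_cancel_right]
  have hfixedv : ∀ v, lin companion v = v → v = 0 ∨ v = ![0, 0, 1] := by decide
  have hNΩmem : ∀ (b : Fin 3 → Y), (∀ i, b i ∈ Ω) → Indep (fun i => πL (b i)) → ∀ y ω : Y,
      (∀ v, πL y * comb (fun i => πL (b i)) v * (πL y)⁻¹ =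
        comb (fun i => πL (b i)) (lin companion v)) → ω ∈ Ω → y * ω = ω * y →
      πL ω ∈ zpowers (πL (b 2)) := by
    intro b hb hbi y ω hy hω hyω
    have hbm : ∀ i, πL (b i) ∈ Ω.map πL := fun i => Subgroup.mem_map_of_mem πL (hb i)
    obtain ⟨v, hv⟩ := comb_surjective LO hbm hbi hO8 (Subgroup.mem_map_of_mem πL hω)
    have h1 : lin companion v = v := comb_injective LO hbm hbi (by
      rw [← hy, hv, ← map_inv, ← map_mul, ← map_mul, hyω, mul_inv_cancel_right])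
    rw [← hv]
    rcases hfixedv v h1 with rfl | rfl
    · rw [comb_zero LO hbm]; exact one_mem _
    · simp [comb, show (1 : ZMod 2).val = 1 from rfl]
  by_cases hB : ∃ w' ∈ Q, w' ∉ R ∧ ∀ y : Y, y * w' = w' * y
  · -- a central element outside `R`
    obtain ⟨w', hw'Q, hw'R, hw'c⟩ := hB
    have hQc : ∀ x q : Y, q ∈ Q → ∃ ω ∈ Ω, ⁅x, q⁆ = ⁅x, ω⁆ := by
      intro x q hq
      by_cases hqR : q ∈ R
      · obtain ⟨ω, hω, e, -⟩ := hcommΩ x q hqR; exact ⟨ω, hω, e⟩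
      obtain ⟨ω, hω, e, -⟩ := hcommΩ x _ (commute_of_index_two hidx hw'Q hw'R hq hqR)
      refine ⟨ω, hω, ?_⟩
      rw [show ⁅x, q⁆ = ⁅x, w' * (w'⁻¹ * q)⁆ by rw [mul_inv_cancel_left],
        show ⁅x, w' * (w'⁻¹ * q)⁆ = ⁅x, w'⁆ * (w' * ⁅x, w'⁻¹ * q⁆ * w'⁻¹) by
          simp only [commutatorElement_def]; group,
        commutatorElement_eq_one_iff_mul_comm.2 (hw'c x), one_mul, e, ← hw'c,
        mul_inv_cancel_right]
    obtain ⟨hy₀Q, hy₀4⟩ := hcomp b₀ hb₀ hb₀i y₀ hy₀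
    set β : Fin 3 → Y ⧸ L := fun i => πL (b₀ i) with hβ
    have hbm : ∀ i, β i ∈ Ω.map πL := fun i => Subgroup.mem_map_of_mem πL (hb₀ i)
    have hπb : π (b₀ 2) ≠ 1 := fun e => by
      have h1 : b₀ 2 ∈ L := hΩP _ (hb₀ 2) ((hπP _).1 e)
      have h2 : comb β ![0, 0, 1] = 1 := by
        simp [comb, hβ, show (1 : ZMod 2).val = 1 from rfl, (hπL _).2 h1]
      exact absurd (hb₀i _ h2) (by decide)
    set N := (zpowers (π (b₀ 2))).comap π with hN
    have hNQ : N ≤ Q := by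
      intro x hx
      refine mem_of_map_mem P hPQ ?_
      exact (zpowers_le.2 (Subgroup.mem_map_of_mem π (hΩQ (hb₀ 2))) : zpowers (π (b₀ 2)) ≤ Q.map π) hx
    have hπtoN : ∀ x, πL x ∈ zpowers (πL (b₀ 2)) → x ∈ N := by
      intro x hx
      obtain ⟨i, hi⟩ := hx
      have hi' : πL (b₀ 2 ^ i) = πL x := by rw [map_zpow]; exact hi
      have := hLP (QuotientGroup.eq.1 hi')
      rw [hN, Subgroup.mem_comap]
      refine ⟨i, ?_⟩
      show π (b₀ 2) ^ i = π x
      rw [← map_zpow]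
      exact QuotientGroup.eq.2 this
    have hN8 : 8 ≤ N.relIndex Q := by
      have h2 : Nat.card (zpowers (π (b₀ 2))) = 2 := by
        rw [Nat.card_zpowers, orderOf_eq_prime (p := 2) ?_ hπb]
        rw [← map_pow, (hb₀ 2).2, map_one]
      have h3 : Nat.card N = 8 := by
        have h4 : Nat.card N = Nat.card P * Nat.card (zpowers (π (b₀ 2))) := by
          have h5 : P ≤ N := fun x hx => by
            rw [hN, Subgroup.mem_comap, (hπP x).2 hx]; exact one_mem _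
          have h6 := Subgroup.card_mul_index (P.subgroupOf N)
          rw [Nat.card_congr (Subgroup.subgroupOfEquivOfLe h5).toEquiv] at h6
          have h7 : Nat.card (N.map π) = Nat.card (zpowers (π (b₀ 2))) := by
            rw [hN, Subgroup.map_comap_eq_self_of_surjective hsurjπ]
          rw [← Subgroup.relIndex_ker N π, QuotientGroup.ker_mk', Subgroup.relIndex] at h7
          rw [← h6, h7]
        rw [h4, hP, h2]
      have h8 := Subgroup.card_mul_index (N.subgroupOf Q)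
      have h9 := Subgroup.card_mul_index (R.subgroupOf Q)
      rw [Nat.card_congr (Subgroup.subgroupOfEquivOfLe hNQ).toEquiv, h3] at h8
      rw [Nat.card_congr (Subgroup.subgroupOfEquivOfLe hRQ).toEquiv, hR32, hidx] at h9
      show 8 ≤ (N.subgroupOf Q).index
      omega
    -- the square of the lift lies in `R`
    have hcR : y₀ ^ 4 ∈ R := by
      by_contra hcR
      set ρ := QuotientGroup.mk' Ω with hρ
      have hρQ : ∀ x q : Y, q ∈ Q → ρ x * ρ q = ρ q * ρ x := by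
        intro x q hq
        rw [← commutatorElement_eq_one_iff_mul_comm, ← map_commutatorElement]
        obtain ⟨ω, hω, e⟩ := hQc x q hq
        refine (QuotientGroup.eq_one_iff _).2 ?_
        rw [e, commutatorElement_def]
        exact mul_mem (hΩn.conj_mem ω hω x) (inv_mem hω)
      obtain ⟨hx, hhx⟩ := LO.exists_lin DL hO8 hbm hb₀i swapMat swapMat_indep
      obtain ⟨h, rfl⟩ := QuotientGroup.mk'_surjective L hx
      obtain ⟨gx, hgx⟩ := LO.exists_lin DL hO8 hbm hb₀i shear shear_indep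
      obtain ⟨g, rfl⟩ := QuotientGroup.mk'_surjective L gx
      set u := y₀ ^ 2 with hu
      set u₂ := h * u * h⁻¹
      set u₃ := g * u * g⁻¹
      have hact : ∀ x : Y, (∀ v, πL x * comb β v * (πL x)⁻¹ = comb β v) → x ∈ Q := fun x hx' =>
        mem_of_map_mem L hLQ (LO.mem_of_fix DL fun k hk => by
          obtain ⟨v, rfl⟩ := comb_surjective LO hbm hb₀i hO8 hk
          rw [← mul_inv_eq_iff_eq_mul, hx'])
      have huT : ∀ v, πL u * comb β v * (πL u)⁻¹ = comb β (lin Tb v) := fun v => by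
        rw [hu, map_pow, conj_sq, hy₀, hy₀]
        have e : ∀ v, lin companion (lin companion v) = lin Tb v := by decide
        rw [e]
      have huT' : ∀ v, (πL u)⁻¹ * comb β v * πL u = comb β (lin Tb v) := fun v => by
        have e : ∀ v, lin Tb (lin Tb v) = v := by decide
        conv_lhs => rw [← e v, ← huT]
        group
      have hh' : ∀ v, (πL h)⁻¹ * comb β v * πL h = comb β (lin swapMat v) := fun v => by
        have e : ∀ v, lin swapMat (lin swapMat v) = v := by decide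
        conv_lhs => rw [← e v, ← hhx]
        rw [hπLdef]; group
      have hg' : ∀ v, (πL g)⁻¹ * comb β v * πL g = comb β (lin shear v) := fun v => by
        have e : ∀ v, lin shear (lin shear v) = v := by decide
        conv_lhs => rw [← e v, ← hgx]
        rw [hπLdef]; group
      have hk : ⁅u, u₂⁆ ∈ Q := hact _ fun v => by
        rw [map_commutatorElement, map_mul, map_mul, map_inv, commutatorElement_def]
        rw [show πL u * (πL h * πL u * (πL h)⁻¹) * (πL u)⁻¹ * (πL h * πL u * (πL h)⁻¹)⁻¹ * comb β v *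
          (πL u * (πL h * πL u * (πL h)⁻¹) * (πL u)⁻¹ * (πL h * πL u * (πL h)⁻¹)⁻¹)⁻¹ =
          πL u * (πL h * (πL u * ((πL h)⁻¹ * ((πL u)⁻¹ * (πL h * ((πL u)⁻¹ * ((πL h)⁻¹ * comb β v *
            πL h) * πL u) * (πL h)⁻¹) * πL u) * πL h) * (πL u)⁻¹) * (πL h)⁻¹) * (πL u)⁻¹ by group,
          hh', huT', hhx, huT', hh', huT, hhx, huT]
        have e : ∀ v, lin Tb (lin swapMat (lin Tb (lin swapMat (lin Tb (lin swapMat
          (lin Tb (lin swapMat v))))))) = v := by decide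
        rw [e]
      have hqQ : u₃⁻¹ * (u * u₂) ∈ Q := hact _ fun v => by
        simp only [u₂, u₃, map_mul, map_inv]
        rw [show (πL g * πL u * (πL g)⁻¹)⁻¹ * (πL u * (πL h * πL u * (πL h)⁻¹)) * comb β v *
          ((πL g * πL u * (πL g)⁻¹)⁻¹ * (πL u * (πL h * πL u * (πL h)⁻¹)))⁻¹ =
          πL g * ((πL u)⁻¹ * ((πL g)⁻¹ * (πL u * (πL h * (πL u * ((πL h)⁻¹ * comb β v * πL h) *
            (πL u)⁻¹) * (πL h)⁻¹) * (πL u)⁻¹) * πL g) * πL u) * (πL g)⁻¹ by group,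
          hh', huT, hhx, huT, hg', huT', hgx]
        have e : ∀ v, lin shear (lin Tb (lin shear (lin Tb (lin swapMat (lin Tb (lin swapMat v))))))
          = v := by decide
        rw [e]
      have hc : ρ u ^ 2 = ρ (y₀ ^ 4) := by rw [← map_pow, hu, ← pow_mul]
      have hc' : ∀ x : Y, ρ (x * u * x⁻¹) ^ 2 = ρ (y₀ ^ 4) := fun x => by
        rw [map_mul, map_mul, map_inv, conj_pow, hc, hρQ x _ hy₀4, mul_inv_cancel_right]
      set k := ⁅u, u₂⁆ with hkdef
      have hkR : k ∈ R := by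
        by_contra hkR
        obtain ⟨h1, h2⟩ := hsqQ k hk hkR
        refine h2 (hΩP _ ?_ h1)
        refine (QuotientGroup.eq_one_iff _).1 ?_
        show ρ (k ^ 2) = 1
        have h3 : ρ ⁅u ^ 2, u₂⁆ = ρ (k ^ 2) := by
          rw [show ⁅u ^ 2, u₂⁆ = u * k * u⁻¹ * k by
            simp only [hkdef, pow_two, commutatorElement_def]; group, map_mul, map_mul, map_mul,
            map_inv, hρQ u k hk, mul_inv_cancel_right, map_pow, pow_two]
        rw [← h3, map_commutatorElement, commutatorElement_eq_one_iff_mul_comm, map_pow, hc,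
          (hρQ u₂ _ hy₀4).symm]
      set q := u₃⁻¹ * (u * u₂) with hq
      have hlhs : ρ ((u * u₂) ^ 2) = ρ (y₀ ^ 4) * (ρ k)⁻¹ * ρ (y₀ ^ 4) := by
        rw [show (u * u₂) ^ 2 = u ^ 2 * (u⁻¹ * k⁻¹ * u) * u₂ ^ 2 by
          simp only [hkdef, pow_two, commutatorElement_def]; group]
        rw [map_mul, map_mul, map_mul, map_mul, map_inv, map_inv, map_pow ρ u, hc, map_pow ρ u₂, hc' h]
        have := hρQ u k⁻¹ (inv_mem hk)
        rw [map_inv] at this
        rw [mul_assoc (ρ u)⁻¹, ← this, inv_mul_cancel_left]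
      have hrhs : ρ ((u * u₂) ^ 2) = ρ (y₀ ^ 4) * ρ q * ρ q := by
        rw [show u * u₂ = u₃ * q by rw [hq, mul_inv_cancel_left], map_pow, map_mul,
          Commute.mul_pow (hρQ u₃ q hqQ), hc' g, pow_two, mul_assoc]
      rw [hlhs, mul_assoc, mul_assoc, mul_left_cancel_iff, ← map_inv, ← map_mul, ← map_mul] at hrhs
      have hmem := QuotientGroup.eq.1 hrhs
      have hq2 : q * q ∈ R := by
        by_cases hqR : q ∈ R
        · exact mul_mem hqR hqR
        · rw [← pow_two]; exact hPR (hsqQ q hqQ hqR).1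
      apply hcR
      have h5 := mul_mem hkR (mul_mem hq2 (inv_mem (hΩR hmem)))
      rwa [mul_inv_rev, inv_inv, ← mul_assoc (q * q), mul_inv_cancel, one_mul,
        mul_inv_cancel_left] at h5
    have hcN : y₀ ^ 4 ∈ N := by
      obtain ⟨ω, hω, -, p, hp, hpω⟩ := hcommΩ y₀ _ hcR
      have hyω : y₀ * ω = ω * y₀ := by
        rw [show ω = p⁻¹ * y₀ ^ 4 by rw [hpω, inv_mul_cancel_left], ← mul_assoc,
          hPY y₀ _ (inv_mem hp), mul_assoc, mul_assoc, pow_mul_comm' y₀ 4]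
      rw [hpω]
      refine mul_mem ?_ (hπtoN ω (hNΩmem b₀ hb₀ hb₀i y₀ ω hy₀ hω hyω))
      rw [hN, Subgroup.mem_comap, (hπP p).2 hp]; exact one_mem _
    refine finish b₀ hb₀ hb₀i y₀ hy₀ N Q hNQ le_rfl hN8 hcN (fun m hm => ?_)
      (fun x hx m hm => ?_) (fun x hx n hn => ?_) (fun _ _ _ _ _ _ _ h => h)
    · rw [hN, Subgroup.mem_comap]
      by_cases hmR : m ∈ R
      · rw [(hπP _).2 (hLP (hsqR m hmR))]; exact one_mem _
      · rw [(hπP _).2 (hsqQ m hm hmR).1]; exact one_mem _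
    · obtain ⟨ω, hω, e⟩ := hQc x m hm
      rw [e]
      exact hπtoN _ (hx ω hω)
    · have hx' : π x * π (b₀ 2) * (π x)⁻¹ = π (b₀ 2) := by
        rw [← map_inv, ← map_mul, ← map_mul] at hx ⊢
        exact QuotientGroup.eq.2 (hLP (QuotientGroup.eq.1 hx))
      obtain ⟨i, hi⟩ := hn
      refine ⟨i, ?_⟩
      show π (b₀ 2) ^ i = π (x * n * x⁻¹)
      rw [map_mul, map_mul, map_inv, ← hi, ← conj_zpow, hx']
  -- no central element outside `R`
  have hnoP : ∀ y x : Y, y ∉ Q → y ^ 4 ∈ Q → x ∈ Q → x ∉ R → ⁅y, x⁆ ∉ P :=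
    fun y x hy hy4 hx hxR h => hB (hfixtop y x hy hy4 hx hxR h)
  set β₀ : Fin 3 → Y ⧸ L := fun i => πL (b₀ i) with hβ₀
  have hbm₀ : ∀ i, β₀ i ∈ Ω.map πL := fun i => Subgroup.mem_map_of_mem πL (hb₀ i)
  obtain ⟨hy₀Q, hy₀4⟩ := hcomp b₀ hb₀ hb₀i y₀ hy₀
  have hv2 : y₀ * b₀ 2 = b₀ 2 * y₀ := by
    rw [← commutatorElement_eq_one_iff_mul_comm]
    by_contra hl
    have hwc' : y₀ * w * y₀⁻¹ ∉ R := fun h => hwR (by
      have := hRn.conj_mem _ h y₀⁻¹
      rwa [show y₀⁻¹ * (y₀ * w * y₀⁻¹) * y₀⁻¹⁻¹ = w by group] at this)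
    have hyw : ⁅y₀, w⁆ ∈ R := by
      have h1 := commute_of_index_two hidx hwQ hwR (D.normal.conj_mem w hwQ y₀) hwc'
      have := hRn.conj_mem _ h1 w
      rwa [show w * (w⁻¹ * (y₀ * w * y₀⁻¹)) * w⁻¹ = ⁅y₀, w⁆ by
        rw [commutatorElement_def]; group] at this
    obtain ⟨p, hp, ω, hω, hpω⟩ := hdec _ hyw
    obtain ⟨v, hv⟩ := comb_surjective LO hbm₀ hb₀i hO8 (Subgroup.mem_map_of_mem πL hω)
    have hsol : ∀ v : Fin 3 → ZMod 2, ∃ η, v + (lin companion η + η) = 0 ∨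
        v + (lin companion η + η) = ![1, 0, 0] := by decide
    obtain ⟨η, hη⟩ := hsol v
    set e := comb b₀ η with he
    have heΩ : e ∈ Ω := comb_mem hb₀ η
    have hye : ⁅y₀, e⁆ ∈ Ω := by
      rw [commutatorElement_def]; exact mul_mem (hΩn.conj_mem e heΩ y₀) (inv_mem heΩ)
    set a := ω * ⁅y₀, e⁆ with ha
    have haΩ : a ∈ Ω := mul_mem hω hye
    have hπa : πL a = comb β₀ (v + (lin companion η + η)) := by
      rw [ha, map_mul, ← hv, comb_add LO hbm₀, comb_add LO hbm₀ (lin companion η), map_commutatorElement,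
        show πL e = comb β₀ η by rw [he, map_comb], commutatorElement_def, hy₀,
        LO.inv_eq (comb_mem hbm₀ η)]
    have hxw : ⁅y₀, w * e⁆ = p * a := by
      rw [show ⁅y₀, w * e⁆ = ⁅y₀, w⁆ * (w * ⁅y₀, e⁆ * w⁻¹) by
        simp only [commutatorElement_def]; group, hQab w hwQ _ (hΩQ hye), mul_inv_cancel_right, hpω,
        ha, mul_assoc]
    have hweR : w * e ∉ R := fun h => hwR (by simpa using mul_mem h (inv_mem (hΩR heΩ)))
    have hweQ : w * e ∈ Q := mul_mem hwQ (hΩQ heΩ)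
    rcases hη with e0 | e1
    · rw [e0, comb_zero LO hbm₀, hπL] at hπa
      exact hnoP y₀ (w * e) hy₀Q hy₀4 hweQ hweR (hxw ▸ mul_mem hp (hLP hπa))
    rw [e1] at hπa
    set a1 := ⁅y₀, a⁆ with ha1
    set a2 := ⁅y₀, a1⁆ with ha2
    set a3 := ⁅y₀, a2⁆ with ha3
    have hstep : ∀ (x : Y) (t : Fin 3 → ZMod 2), x ∈ Ω → πL x = comb β₀ t →
        ⁅y₀, x⁆ ∈ Ω ∧ πL ⁅y₀, x⁆ = comb β₀ (lin companion t + t) := by
      intro x t hx hxt
      refine ⟨by rw [commutatorElement_def]; exact mul_mem (hΩn.conj_mem x hx y₀) (inv_mem hx), ?_⟩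
      rw [map_commutatorElement, hxt, commutatorElement_def, hy₀, LO.inv_eq (comb_mem hbm₀ t),
        comb_add LO hbm₀]
    obtain ⟨ha1Ω, hπ1⟩ := hstep a _ haΩ hπa
    obtain ⟨ha2Ω, hπ2⟩ := hstep a1 _ ha1Ω hπ1
    obtain ⟨ha3Ω, hπ3⟩ := hstep a2 _ ha2Ω hπ2
    rw [show lin companion (lin companion ![1, 0, 0] + ![1, 0, 0]) +
      (lin companion ![1, 0, 0] + ![1, 0, 0]) = ![0, 0, 1] by decide] at hπ2
    have hl' : a3 = ⁅y₀, b₀ 2⁆ := by
      have h1 : (b₀ 2)⁻¹ * a2 ∈ L := by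
        refine QuotientGroup.eq.1 (show πL (b₀ 2) = πL a2 from ?_)
        rw [hπ2]; simp [comb, hβ₀, show (1 : ZMod 2).val = 1 from rfl]
      rw [ha3, ← mul_inv_cancel_left (b₀ 2) a2,
        show ⁅y₀, b₀ 2 * ((b₀ 2)⁻¹ * a2)⁆ = ⁅y₀, b₀ 2⁆ * (b₀ 2 * ⁅y₀, (b₀ 2)⁻¹ * a2⁆ * (b₀ 2)⁻¹) by
          simp only [commutatorElement_def]; group,
        commutatorElement_eq_one_iff_mul_comm.2 (hLc y₀ _ h1), mul_one, mul_inv_cancel, mul_one]
    letI : CommGroup Q := { (inferInstance : Group Q) with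
      mul_comm := fun a c => Subtype.ext (hQab a a.2 c c.2) }
    set σ : Q →* Q := MonoidHom.mk' (fun a => ⟨y₀ * a * y₀⁻¹, D.normal.conj_mem a a.2 y₀⟩)
      fun a c => by
        apply Subtype.ext
        show y₀ * ((a : Y) * c) * y₀⁻¹ = y₀ * a * y₀⁻¹ * (y₀ * c * y₀⁻¹)
        group
    have hσ : ∀ (x c : Y) (hx : x ∈ Q) (hc : c ∈ Q), ⁅y₀, x⁆ = c →
        σ ⟨x, hx⟩ = ⟨x, hx⟩ * ⟨c, hc⟩ := fun x c hx hc e => Subtype.ext (by
      show y₀ * x * y₀⁻¹ = x * c
      rw [← hQab c hc x hx, ← e, commutatorElement_def]; group)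
    set X : Q := ⟨w * e, hweQ⟩
    set A0 : Q := ⟨a, hΩQ haΩ⟩
    set A1 : Q := ⟨a1, hΩQ ha1Ω⟩
    set A2 : Q := ⟨a2, hΩQ ha2Ω⟩
    set A3 : Q := ⟨a3, hΩQ ha3Ω⟩
    set Pp : Q := ⟨p, hPQ hp⟩
    have tX : σ X = X * (Pp * A0) := hσ _ _ _ (mul_mem (hPQ hp) (hΩQ haΩ)) hxw
    have tP : σ Pp = Pp := Subtype.ext (by
      show y₀ * p * y₀⁻¹ = p
      rw [hPY y₀ p hp, mul_inv_cancel_right])
    have t0 : σ A0 = A0 * A1 := hσ _ _ _ _ rfl
    have t1 : σ A1 = A1 * A2 := hσ _ _ _ _ rfl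
    have t2 : σ A2 = A2 * A3 := hσ _ _ _ _ rfl
    have h4 : σ (σ (σ (σ X))) = X := by
      apply Subtype.ext
      show y₀ * (y₀ * (y₀ * (y₀ * (w * e) * y₀⁻¹) * y₀⁻¹) * y₀⁻¹) * y₀⁻¹ = w * e
      have := hQab _ hy₀4 _ hweQ
      rw [← mul_inv_eq_iff_eq_mul] at this
      conv_rhs => rw [← this, show y₀ ^ 4 = y₀ * (y₀ * (y₀ * y₀)) by
        simp only [pow_succ, pow_zero, one_mul, mul_assoc]]
      group
    have h5 : σ (σ (σ (σ X))) = X * Pp ^ 4 * A0 ^ 4 * A1 ^ 6 * A2 ^ 4 * A3 := by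
      simp only [tX, tP, t0, t1, t2, map_mul]
      simp only [pow_succ, pow_zero, one_mul]
      ac_rfl
    have hev : ∀ (x : Q) (n : ℕ), (x : Y) ∈ Ω → x ^ (2 * n) = 1 := fun x n hx => by
      rw [pow_mul, show x ^ 2 = 1 from Subtype.ext hx.2, one_pow]
    have hp4 : Pp ^ 4 = 1 := Subtype.ext (by
      show p ^ 4 = 1
      rw [show 4 = 2 * 2 from rfl, pow_mul, hLexp _ (hsqR p (hPR hp))])
    rw [h5, hp4, show (4 : ℕ) = 2 * 2 from rfl, show (6 : ℕ) = 2 * 3 from rfl, hev A0 2 haΩ,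
      hev A1 3 ha1Ω, hev A2 2 ha2Ω, mul_one, mul_one, mul_one, mul_one, mul_eq_left] at h4
    exact hl (hl'.symm.trans (congrArg Subtype.val h4))
  obtain ⟨H, hHn, hHΩ, hH8⟩ := hyperplane_of_fix LΩ D hΩQ hΩ16 L hLΩ hL hLc hb₀ hb₀i hy₀4 hy₀ hv2
  haveI := hHn
  have LH := LΩ.sub D hΩ16 hHn hHΩ hH8
  have hHL : ∀ x ∈ H, x ∈ L → x = 1 := fun x hx hxL =>
    LH.fixed_eq_one D hH8 hx fun y => hLc y x hxL
  have hΩdec : ∀ ω ∈ Ω, ∃ l ∈ L, ∃ η ∈ H, ω = l * η := by
    intro ω hω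
    by_cases hωH : ω ∈ H
    · exact ⟨1, one_mem L, ω, hωH, (one_mul ω).symm⟩
    have hidx' : (H.subgroupOf Ω).index = 2 := by
      have := Subgroup.card_mul_index (H.subgroupOf Ω)
      rw [Nat.card_congr (Subgroup.subgroupOfEquivOfLe hHΩ).toEquiv, hH8, hΩ16] at this
      omega
    have hz2H : z ^ 2 ∉ H := fun h => hz2 (hHL _ h (hsqR z (hPR hzP)))
    have hz2Ω : z ^ 2 ∈ Ω := hLΩ (hsqR z (hPR hzP))
    exact ⟨z ^ 2, hsqR z (hPR hzP), (z ^ 2)⁻¹ * ω,
      commute_of_index_two hidx' hz2Ω hz2H hω hωH, (mul_inv_cancel_left _ _).symm⟩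
  obtain ⟨b, hb, hbi⟩ : ∃ b : Fin 3 → Y, (∀ i, b i ∈ H) ∧ Indep b := by
    obtain ⟨p, hp, hp1⟩ : ∃ p ∈ H, p ≠ 1 := by
      by_contra h
      push Not at h
      rw [(Subgroup.eq_bot_iff_forall _).2 h, Subgroup.card_bot] at hH8
      omega
    obtain ⟨p', hp', hp1', hpp⟩ : ∃ p' ∈ H, p' ≠ 1 ∧ p' ≠ p := by
      by_contra h
      push Not at h
      have hle : H ≤ zpowers p := fun x hx => by
        by_cases hx1 : x = 1
        · rw [hx1]; exact one_mem _
        · rw [h x hx hx1]; exact mem_zpowers p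
      have := Subgroup.card_le_of_le hle
      have := Nat.le_of_dvd (by norm_num) (orderOf_dvd_of_pow_eq_one (LH.exp p hp))
      rw [Nat.card_zpowers, hH8] at *
      omega
    obtain ⟨B, hB', hBi, -, -⟩ := exists_basis LH hH8 hp hp1 hp' hp1' hpp
    exact ⟨B, hB', hBi⟩
  have hbΩ : ∀ i, b i ∈ Ω := fun i => hHΩ (hb i)
  have hbiL : Indep fun i => πL (b i) := fun v hv => by
    rw [← map_comb, hπL] at hv
    exact hbi v (hHL _ (comb_mem hb v) hv)
  obtain ⟨y, hy⟩ := LH.exists_lin D hH8 hb hbi companion companion_indep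
  have hyL : ∀ v, πL y * comb (fun i => πL (b i)) v * (πL y)⁻¹ =
      comb (fun i => πL (b i)) (lin companion v) := fun v => by
    rw [← map_comb, ← map_comb, ← map_inv, ← map_mul, ← map_mul, hy]
  obtain ⟨hyQ, hy4⟩ := hcomp b hbΩ hbiL y hyL
  set ρ := QuotientGroup.mk' H with hρ
  have hρH : ∀ x, ρ x = 1 ↔ x ∈ H := fun x => QuotientGroup.eq_one_iff x
  have hHcomm : ∀ x : Y, ∀ q ∈ Q, ⁅x, q⁆ ∈ H := by
    have hR' : ∀ x : Y, ∀ a ∈ R, ⁅x, a⁆ ∈ H := by
      intro x a ha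
      obtain ⟨ω, hω, e, -⟩ := hcommΩ x a ha
      obtain ⟨l, hl, η, hη, rfl⟩ := hΩdec ω hω
      rw [e, show ⁅x, l * η⁆ = ⁅x, l⁆ * (l * ⁅x, η⁆ * l⁻¹) by
        simp only [commutatorElement_def]; group,
        commutatorElement_eq_one_iff_mul_comm.2 (hLc x l hl), one_mul]
      refine hHn.conj_mem _ ?_ l
      rw [commutatorElement_def]; exact mul_mem (hHn.conj_mem η hη x) (inv_mem hη)
    letI : CommGroup (R.map ρ) := { (inferInstance : Group (R.map ρ)) with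
      mul_comm := fun a c => Subtype.ext (by
        obtain ⟨_, a, ha, rfl⟩ := a
        obtain ⟨_, c, hc, rfl⟩ := c
        show ρ a * ρ c = ρ c * ρ a
        rw [← map_mul, hRab a ha c hc, map_mul]) }
    have hmem : ∀ x : Y, ⁅x, w⁆ ∈ R := by
      intro x
      have hwc' : x * w * x⁻¹ ∉ R := fun h => hwR (by
        have := hRn.conj_mem _ h x⁻¹
        rwa [show x⁻¹ * (x * w * x⁻¹) * x⁻¹⁻¹ = w by group] at this)
      have h1 := commute_of_index_two hidx hwQ hwR (D.normal.conj_mem w hwQ x) hwc'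
      have := hRn.conj_mem _ h1 w
      rwa [show w * (w⁻¹ * (x * w * x⁻¹)) * w⁻¹ = ⁅x, w⁆ by
        rw [commutatorElement_def]; group] at this
    let f : Y →* R.map ρ := MonoidHom.mk' (fun x => ⟨ρ ⁅x, w⁆, Subgroup.mem_map_of_mem ρ (hmem x)⟩)
      fun a c => Subtype.ext (by
        show ρ ⁅a * c, w⁆ = ρ ⁅a, w⁆ * ρ ⁅c, w⁆
        rw [show ⁅a * c, w⁆ = ⁅a, ⁅c, w⁆⁆ * (⁅c, w⁆ * ⁅a, w⁆) by
          simp only [commutatorElement_def]; group, map_mul, (hρH _).2 (hR' a _ (hmem c)), one_mul,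
          hRab _ (hmem c) _ (hmem a), map_mul])
    have hw0 : ∀ x, ⁅x, w⁆ ∈ H := fun x => (hρH _).1 (congrArg Subtype.val (D.hom_trivial f
      (fun q hq => MonoidHom.mem_ker.2 (Subtype.ext (by
        show ρ ⁅q, w⁆ = 1
        rw [commutatorElement_eq_one_iff_mul_comm.2 (hQab q hq w hwQ), map_one]))) x))
    intro x q hq
    by_cases hqR : q ∈ R
    · exact hR' x q hqR
    rw [← mul_inv_cancel_left w q,
      show ⁅x, w * (w⁻¹ * q)⁆ = ⁅x, w⁆ * (w * ⁅x, w⁻¹ * q⁆ * w⁻¹) by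
        simp only [commutatorElement_def]; group]
    exact mul_mem (hw0 x) (hHn.conj_mem _ (hR' x _ (commute_of_index_two hidx hwQ hwR hq hqR)) w)
  have hρQ : ∀ x q : Y, q ∈ Q → ρ x * ρ q = ρ q * ρ x := fun x q hq => by
    rw [← commutatorElement_eq_one_iff_mul_comm, ← map_commutatorElement, hρH]
    exact hHcomm x q hq
  have hcR : y ^ 4 ∈ R := by
    by_contra hcR
    refine hnoP y _ hyQ hy4 hy4 hcR ?_
    rw [commutatorElement_eq_one_iff_mul_comm.2 (pow_mul_comm' y 4).symm]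
    exact one_mem P
  -- the fourth power is an involution
  have hc2 : (y ^ 4) ^ 2 = 1 := by
    obtain ⟨hh, hhs⟩ := LH.exists_lin D hH8 hb hbi swapMat swapMat_indep
    obtain ⟨h', hh's⟩ := LH.exists_lin D hH8 hb hbi swapTwo swapTwo_indep
    set s := hh * y ^ 2 * hh⁻¹ with hs
    set u₄ := h' * y ^ 2 * h'⁻¹ with hu₄
    have huT : ∀ v, y ^ 2 * comb b v * (y ^ 2)⁻¹ = comb b (lin Tb v) := fun v => by
      rw [conj_sq, hy, hy]
      have e : ∀ v, lin companion (lin companion v) = lin Tb v := by decide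
      rw [e]
    have hconj : ∀ (x : Y) (A : Fin 3 → Fin 3 → ZMod 2),
        (∀ v, x * comb b v * x⁻¹ = comb b (lin A v)) → (∀ v, lin A (lin A v) = v) →
        ∀ v, x * y ^ 2 * x⁻¹ * comb b v * (x * y ^ 2 * x⁻¹)⁻¹ =
          comb b (lin A (lin Tb (lin A v))) := by
      intro x A hA hinv v
      rw [← hA, ← huT]
      conv_lhs => rw [← hinv v, ← hA]
      group
    have hsS : ∀ v, s * comb b v * s⁻¹ = comb b (lin Sb v) := fun v => by
      rw [hs, hconj hh swapMat hhs (by decide)]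
      have e : ∀ v, lin swapMat (lin Tb (lin swapMat v)) = lin Sb v := by decide
      rw [e]
    have hsS' : ∀ v, s⁻¹ * comb b v * s = comb b (lin Sb v) := fun v => by
      have e : ∀ v, lin Sb (lin Sb v) = v := by decide
      conv_lhs => rw [← e v, ← hsS]
      group
    have hu₄' : ∀ v, u₄⁻¹ * comb b v * u₄ = comb b (lin swapTwo (lin Tb (lin swapTwo v))) := fun v => by
      have e : ∀ v, lin swapTwo (lin Tb (lin swapTwo (lin swapTwo (lin Tb (lin swapTwo v))))) = v := by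
        decide
      conv_lhs => rw [← e v, ← hconj h' swapTwo hh's (by decide), ← hu₄]
      group
    have hact : ∀ x : Y, (∀ v, x * comb b v * x⁻¹ = comb b v) → x ∈ Q := fun x hx' =>
      LH.mem_of_fix D fun k hk => by
        obtain ⟨v, rfl⟩ := comb_surjective LH hb hbi hH8 hk
        rw [← mul_inv_eq_iff_eq_mul, hx']
    have hs2 : s ^ 2 ∈ R := by rw [hs, conj_pow, ← pow_mul]; exact hRn.conj_mem _ hcR _
    have hq'' : u₄⁻¹ * (y * s) ∈ Q := hact _ fun v => by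
      rw [show u₄⁻¹ * (y * s) * comb b v * (u₄⁻¹ * (y * s))⁻¹ =
        u₄⁻¹ * (y * (s * comb b v * s⁻¹) * y⁻¹) * u₄ by group, hsS, hy, hu₄']
      have e : ∀ v, lin swapTwo (lin Tb (lin swapTwo (lin companion (lin Sb v)))) = v := by decide
      rw [e]
    have hys : (y * s) ^ 2 ∈ R := by
      set q' := u₄⁻¹ * (y * s) with hq'
      rw [show y * s = u₄ * q' by rw [hq', mul_inv_cancel_left],
        show (u₄ * q') ^ 2 = ⁅u₄, q'⁆ * (q' * u₄ ^ 2 * q'⁻¹) * q' ^ 2 by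
          simp only [pow_two, commutatorElement_def]; group]
      refine mul_mem (mul_mem (hΩR (hHΩ (hHcomm _ _ hq''))) (hRn.conj_mem _ ?_ q')) ?_
      · rw [hu₄, conj_pow, ← pow_mul]; exact hRn.conj_mem _ hcR _
      · by_cases hq'R : q' ∈ R
        · exact pow_mem hq'R 2
        · exact hPR (hsqQ q' hq'' hq'R).1
    set q₀ := y * s * y * s⁻¹ with hq₀
    have hq₀R : q₀ ∈ R := by
      have h1 := mul_mem hys (inv_mem hs2)
      rwa [show (y * s) ^ 2 * (s ^ 2)⁻¹ = q₀ by rw [hq₀, pow_two, pow_two]; group] at h1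
    have hsfix : s * y ^ 4 * s⁻¹ = y ^ 4 := by
      obtain ⟨ω, hω, -, p, hp, hpω⟩ := hcommΩ y _ hcR
      obtain ⟨l, hl, η, hη, rfl⟩ := hΩdec ω hω
      obtain ⟨v, rfl⟩ := comb_surjective LH hb hbi hH8 hη
      have hyη : y * comb b v * y⁻¹ = comb b v := by
        have h1 : y * y ^ 4 * y⁻¹ = y ^ 4 := by group
        rw [hpω, ← conj_mul, ← conj_mul, hPY y p hp, mul_inv_cancel_right, hLc y l hl,
          mul_inv_cancel_right, mul_left_cancel_iff, mul_left_cancel_iff] at h1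
        exact h1
      have hv' : lin companion v = v := comb_injective LH hb hbi (by rw [← hy, hyη])
      have e : ∀ v, lin companion v = v → lin Sb v = v := by decide
      rw [hpω, ← conj_mul, ← conj_mul, hPY s p hp, mul_inv_cancel_right, hLc s l hl,
        mul_inv_cancel_right, hsS, e v hv']
    obtain ⟨ω', hω', -, p', hp', hpω'⟩ := hcommΩ y _ hq₀R
    obtain ⟨l', hl', η', hη', rfl⟩ := hΩdec ω' hω'
    obtain ⟨v, rfl⟩ := comb_surjective LH hb hbi hH8 hη'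
    have hT' : ∀ v, y⁻¹ * comb b v * y = comb b (lin companion (lin companion (lin companion v))) := by
      intro v
      have e : ∀ v, lin companion (lin companion (lin companion (lin companion v))) = v := by decide
      conv_lhs => rw [← e v, ← hy]
      group
    have hpow : (y⁻¹ * q₀) ^ 4 = (y ^ 4)⁻¹ := by
      set k := p' * l' with hk
      have hkc : ∀ x : Y, x * k = k * x := fun x => by
        rw [hk, ← mul_assoc, hPY x p' hp', mul_assoc, hLc x l' hl', ← mul_assoc]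
      have hk4 : k ^ 4 = 1 := by
        rw [hk, show 4 = 2 * 2 from rfl, pow_mul, hLexp _ (hsqR _ (mul_mem (hPR hp') (hPR (hLP hl'))))]
      rw [hpω', show y⁻¹ * (p' * (l' * comb b v)) = y⁻¹ * k * comb b v by rw [hk]; group, hkc y⁻¹,
        mul_assoc, Commute.mul_pow (hkc _).symm, hk4, one_mul]
      set c := comb b v with hc
      have e1 : (y⁻¹ * c) ^ 4 = y⁻¹ * c * y * (y⁻¹ * (y⁻¹ * c * y) * y) *
          (y⁻¹ * (y⁻¹ * (y⁻¹ * c * y) * y) * y) * (y⁻¹ * (y⁻¹ * (y⁻¹ * (y⁻¹ * c * y) * y) * y) * y) *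
          (y ^ 4)⁻¹ := by
        simp only [pow_succ, pow_zero, one_mul]; group
      rw [e1, hc, hT', hT', hT', hT', ← comb_add LH hb, ← comb_add LH hb, ← comb_add LH hb]
      have e2 : ∀ v, lin companion (lin companion (lin companion v)) +
          lin companion (lin companion (lin companion (lin companion (lin companion
            (lin companion v))))) +
          lin companion (lin companion (lin companion (lin companion (lin companion
            (lin companion (lin companion (lin companion (lin companion v)))))))) +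
          lin companion (lin companion (lin companion (lin companion (lin companion
            (lin companion (lin companion (lin companion (lin companion (lin companion
              (lin companion (lin companion v))))))))))) = 0 := by decide
      rw [e2, comb_zero LH hb, one_mul]
    have hrel : s * y * s⁻¹ = y⁻¹ * q₀ := by rw [hq₀]; group
    have : s * y ^ 4 * s⁻¹ = (y ^ 4)⁻¹ := by rw [← conj_pow, hrel, hpow]
    rw [hsfix] at this
    rw [pow_two]
    nth_rewrite 2 [this]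
    exact mul_inv_cancel _
  have hcΩ : y ^ 4 ∈ Ω := ⟨hcR, hc2⟩
  set NΩ := Ω ⊓ (zpowers (πL (b 2))).comap πL with hNΩdef
  have hLNΩ : L ≤ NΩ := fun l hl => ⟨hLΩ hl, by
    show πL l ∈ zpowers (πL (b 2))
    rw [(hπL l).2 hl]; exact one_mem _⟩
  have hN4 : Nat.card NΩ ≤ 4 := by
    have h1 := Subgroup.card_mul_index (L.subgroupOf NΩ)
    rw [Nat.card_congr (Subgroup.subgroupOfEquivOfLe hLNΩ).toEquiv, hL] at h1
    have h2 : Nat.card (NΩ.map πL) ≤ 2 := by
      refine (Subgroup.card_le_of_le (Subgroup.map_le_iff_le_comap.2 inf_le_right)).trans ?_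
      rw [Nat.card_zpowers]
      exact Nat.le_of_dvd (by norm_num)
        (orderOf_dvd_of_pow_eq_one (by rw [← map_pow, (hbΩ 2).2, map_one]))
    rw [← Subgroup.relIndex_ker NΩ πL, QuotientGroup.ker_mk', Subgroup.relIndex] at h2
    rw [← h1]
    nlinarith
  have hNR : NΩ ≤ R := inf_le_left.trans hΩR
  refine finish b hbΩ hbiL y hyL NΩ R hNR hRQ ?_ ⟨hcΩ, hNΩmem b hbΩ hbiL y _ hyL hcΩ
      (pow_mul_comm' y 4).symm⟩ (fun m hm => hLNΩ (hsqR m hm)) (fun x hx m hm => ?_)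
    (fun x hx n hn => ⟨hΩn.conj_mem n hn.1 x, ?_⟩) ?_
  · have h1 := Subgroup.card_mul_index (NΩ.subgroupOf R)
    rw [Nat.card_congr (Subgroup.subgroupOfEquivOfLe hNR).toEquiv, hR32] at h1
    show 8 ≤ (NΩ.subgroupOf R).index
    nlinarith
  · obtain ⟨ω, hω, e, -⟩ := hcommΩ x m hm
    rw [e]
    refine Subgroup.mem_inf.2 ⟨?_, hx ω hω⟩
    rw [commutatorElement_def]
    exact mul_mem (hΩn.conj_mem ω hω x) (inv_mem hω)
  · obtain ⟨i, hi⟩ := hn.2
    refine ⟨i, ?_⟩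
    show πL (b 2) ^ i = πL (x * n * x⁻¹)
    rw [map_mul, map_mul, map_inv, ← hi, ← conj_zpow, hx]
  intro u₁ u₂ u₃ h1 h2 h3 hk hq
  by_contra hqR
  set q := u₃⁻¹ * (u₁ * u₂) with hqdef
  set k := ⁅u₁, u₂⁆ with hkdef
  obtain ⟨hqP, hqL⟩ := hsqQ q hq hqR
  have hN2 : ∀ n ∈ NΩ, ρ n ^ 2 = 1 := fun n hn => by rw [← map_pow, hn.1.2, map_one]
  have hk2 : ρ k ^ 2 = 1 := by
    have h4 : ρ ⁅u₁ ^ 2, u₂⁆ = ρ k ^ 2 := by
      rw [show ⁅u₁ ^ 2, u₂⁆ = u₁ * k * u₁⁻¹ * k by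
        simp only [hkdef, pow_two, commutatorElement_def]; group, map_mul, map_mul, map_mul,
        map_inv, hρQ u₁ k hk, mul_inv_cancel_right, pow_two]
    rw [← h4, map_commutatorElement, commutatorElement_eq_one_iff_mul_comm]
    exact (hρQ u₂ _ (hRQ (hNR h1))).symm
  have hcQ : ∀ a c : Y, a ∈ Q → c ∈ Q → Commute (ρ a) (ρ c) := fun a c _ hc => hρQ a c hc
  have e1 : ρ ((u₁ * u₂) ^ 2) = ρ (u₁ ^ 2) * (ρ k)⁻¹ * ρ (u₂ ^ 2) := by
    rw [show (u₁ * u₂) ^ 2 = u₁ ^ 2 * (u₁⁻¹ * k⁻¹ * u₁) * u₂ ^ 2 by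
      simp only [hkdef, pow_two, commutatorElement_def]; group]
    simp only [map_mul, map_inv]
    have := hρQ u₁ k⁻¹ (inv_mem hk)
    rw [map_inv] at this
    rw [mul_assoc (ρ u₁)⁻¹, ← this, inv_mul_cancel_left]
  have e2 : ρ ((u₁ * u₂) ^ 2) = ρ (u₃ ^ 2) * ρ (q ^ 2) := by
    rw [show u₁ * u₂ = u₃ * q by rw [hqdef, mul_inv_cancel_left], map_pow, map_mul,
      Commute.mul_pow (hρQ u₃ q hq), map_pow, map_pow]
  rw [e1] at e2
  have hq4 : ρ (q ^ 2) ^ 2 = 1 := by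
    have h5 : ρ (q ^ 2) = (ρ (u₃ ^ 2))⁻¹ * (ρ (u₁ ^ 2) * (ρ k)⁻¹ * ρ (u₂ ^ 2)) := by
      rw [e2, inv_mul_cancel_left]
    have c1 : Commute (ρ (u₁ ^ 2)) (ρ k)⁻¹ := (hcQ _ _ (hRQ (hNR h1)) hk).inv_right
    have d12 : Commute (ρ (u₁ ^ 2)) (ρ (u₂ ^ 2)) := hρQ _ _ (hRQ (hNR h2))
    have dk2 : Commute (ρ k) (ρ (u₂ ^ 2)) := hρQ _ _ (hRQ (hNR h2))
    have d31 : Commute (ρ (u₃ ^ 2)) (ρ (u₁ ^ 2)) := hρQ _ _ (hRQ (hNR h1))
    have d3k : Commute (ρ (u₃ ^ 2)) (ρ k) := hρQ _ _ hk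
    have d32 : Commute (ρ (u₃ ^ 2)) (ρ (u₂ ^ 2)) := hρQ _ _ (hRQ (hNR h2))
    have c2 : Commute (ρ (u₁ ^ 2) * (ρ k)⁻¹) (ρ (u₂ ^ 2)) := d12.mul_left dk2.inv_left
    have c3 : Commute (ρ (u₃ ^ 2))⁻¹ (ρ (u₁ ^ 2) * (ρ k)⁻¹ * ρ (u₂ ^ 2)) :=
      ((d31.mul_right d3k.inv_right).mul_right d32).inv_left
    rw [h5, c3.mul_pow, c2.mul_pow, c1.mul_pow, inv_pow, inv_pow, hN2 _ h1, hN2 _ h2, hN2 _ h3,
      hk2]
    simp
  rw [← map_pow, hρH] at hq4
  have h6 : (q ^ 2) ^ 2 = 1 := hHL _ hq4 (hsqR _ (hPR hqP))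
  exact hqL (hΩP _ ⟨hPR hqP, h6⟩ hqP)

end CfsgLib.Small.ConstrainedSeven
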